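import Mathlib
import Cfsg.Agent.LieClassical.HermSiegel
import Cfsg.Agent.LieClassical.GUOrder
import Cfsg.Agent.ClassicalGeometry.HermWitt
import Cfsg.Agent.ClassicalGeometry.UnitTransv

/-!
# Witt extension inside `SU n F q`
-/

set_option autoImplicit false

namespace Cfsg.Agent.H77.Witt

open Cfsg Cfsg.Agent.LieClassical.HermBasic Cfsg.Agent.LieClassical.HermSiegel
open Cfsg.Agent.ClassicalGeometry.UnitTransv (rankOne rankOne_mulVec det_rankOne)
open scoped Matrix

variable {F : Type*} [Field F] [Fintype F] {q n : ℕ}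

/-- The form as a sesquilinear map, `formB x y = h(y, x)`. -/
def formB (hF : Fintype.card F = q ^ 2) (n : ℕ) :
    (Fin n → F) →ₛₗ[((conj hF : F ≃+* F) : F →+* F)] (Fin n → F) →ₗ[F] F :=
  LinearMap.mk₂'ₛₗ _ _ (fun x y => hermForm n F q y x)
    (fun x x' y => herm_add_right hF y x x')
    (fun c x y => by
      rw [herm_smul_right]
      rfl)
    (fun x y y' => herm_add_left y y' x)
    (fun c x y => by
      rw [herm_smul_left]
      rfl)

theorem formB_apply (hF : Fintype.card F = q ^ 2) (x y : Fin n → F) :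
    formB hF n x y = hermForm n F q y x := rfl

theorem formB_symm (hF : Fintype.card F = q ^ 2) : (formB hF n).IsSymm :=
  ⟨fun x y => by
    rw [formB_apply, formB_apply, herm_swap hF y x]
    rfl⟩

theorem formB_sep (hF : Fintype.card F = q ^ 2) : (formB hF n).SeparatingLeft := by
  intro x hx
  apply herm_nondeg hF
  intro y
  exact herm_eq_zero_swap hF (hx y)

theorem conj_ne (hF : Fintype.card F = q ^ 2) : ((conj hF : F ≃+* F) : F →+* F) ≠ RingHom.id F := by
  intro h
  obtain ⟨x, hx⟩ := exists_not_fixed hF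
  apply hx
  exact congrArg (fun f : F →+* F => f x) h

/-- Reflection-like map `x ↦ x + c h(x,z) z` preserves the form. -/
theorem herm_refl (hF : Fintype.card F = q ^ 2) {z : Fin n → F} (hz : hermForm n F q z z ≠ 0)
    {ζ : F} (hζ : ζ * ζ ^ q = 1) (x y : Fin n → F) :
    hermForm n F q (rankOne q (((ζ - 1) / hermForm n F q z z) • z) z *ᵥ x)
      (rankOne q (((ζ - 1) / hermForm n F q z z) • z) z *ᵥ y) = hermForm n F q x y := by
  rw [rankOne_mulVec, rankOne_mulVec]
  have hzy : hermForm n F q z y = (hermForm n F q y z) ^ q := herm_swap hF y z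
  have hzz : (hermForm n F q z z) ^ q = hermForm n F q z z := herm_self_pow hF z
  simp only [herm_add_left, herm_add_right hF, herm_smul_left, herm_smul_right, hzy, div_pow,
    sub_pow_q hF, one_pow, hzz]
  field_simp
  linear_combination (hermForm n F q x z * hermForm n F q y z ^ q) * hζ

/-- Witt extension in `SU`, with a nonisotropic vector orthogonal to the image. -/
theorem exists_su_ext (hF : Fintype.card F = q ^ 2) {k : ℕ} (a b : Fin k → (Fin n → F))
    (ha : LinearIndependent F a) (hb : LinearIndependent F b)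
    (hab : ∀ i j, hermForm n F q (a i) (a j) = hermForm n F q (b i) (b j))
    {z : Fin n → F} (hz : hermForm n F q z z ≠ 0) (hzb : ∀ i, hermForm n F q z (b i) = 0) :
    ∃ g : SU n F q, ∀ i, act g (a i) = b i := by
  classical
  set bs := Module.Basis.span ha with hbs
  have hbsi : ∀ i, ((bs i : Submodule.span F (Set.range a)) : Fin n → F) = a i := fun i => by
    rw [hbs, Module.Basis.span_apply]
  set f : Submodule.span F (Set.range a) →ₗ[F] (Fin n → F) := bs.constr F b with hf
  have hx : ∀ x : Submodule.span F (Set.range a), (x : Fin n → F) = ∑ i, bs.repr x i • a i := by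
    intro x
    conv_lhs => rw [← bs.sum_repr x]
    rw [Submodule.coe_sum]
    exact Finset.sum_congr rfl fun i _ => by rw [Submodule.coe_smul, hbsi]
  have hfx : ∀ x : Submodule.span F (Set.range a), f x = ∑ i, bs.repr x i • b i := by
    intro x
    rw [hf, Module.Basis.constr_apply_fintype]
    rfl
  have hinj : Function.Injective f := by
    rw [injective_iff_map_eq_zero]
    intro x h0
    rw [hfx] at h0
    have h1 := Fintype.linearIndependent_iff.1 hb _ h0
    apply Subtype.ext
    rw [hx x]
    simp [h1]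
  have hiso : ∀ x x', formB hF n (f x) (f x') = formB hF n (x : Fin n → F) (x' : Fin n → F) := by
    intro x x'
    rw [formB_apply, formB_apply, hx x, hx x', hfx x, hfx x']
    simp only [herm_sum_left, herm_sum_right hF, herm_smul_left, herm_smul_right, hab]
  obtain ⟨g, hg, hgf⟩ := ClassicalGeometry.HermWitt.exists_extension _ (formB hF n) (conj_ne hF)
    (fun a => pow_q_pow_q hF a) (formB_symm hF) (formB_sep hF) _ f hinj hiso
  set M : Matrix (Fin n) (Fin n) F := LinearMap.toMatrix' (g : (Fin n → F) →ₗ[F] (Fin n → F))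
    with hM
  have hMv : ∀ v, M *ᵥ v = g v := fun v => by
    rw [hM, LinearMap.toMatrix'_mulVec]; rfl
  have hMiso : ∀ u v, hermForm n F q (M *ᵥ u) (M *ᵥ v) = hermForm n F q u v := by
    intro u v
    rw [hMv, hMv]
    exact hg v u
  have hdet : M.det ^ (q + 1) = 1 := LieClassical.GUOrder.det_mul_frob_det hF M hMiso
  have hdet0 : M.det ≠ 0 := LieClassical.GUOrder.det_ne_zero_of_isom hF M hMiso
  have hζ : (M.det)⁻¹ * ((M.det)⁻¹) ^ q = 1 := by
    rw [← pow_succ', inv_pow, hdet, inv_one]
  refine ⟨mkSU (rankOne q ((((M.det)⁻¹ - 1) / hermForm n F q z z) • z) z * M) ?_ ?_, ?_⟩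
  · rw [Matrix.det_mul, det_rankOne, herm_smul_left, div_mul_cancel₀ _ hz]
    field_simp
    ring
  · intro u v
    rw [← Matrix.mulVec_mulVec, ← Matrix.mulVec_mulVec, herm_refl hF hz hζ, hMiso]
  · intro i
    rw [act, mat_mkSU, ← Matrix.mulVec_mulVec, hMv]
    have h1 : g (a i) = b i := by
      have := hgf (bs i)
      rw [hbsi] at this
      rw [this, hf, Module.Basis.constr_basis]
    rw [h1, rankOne_mulVec, herm_eq_zero_swap hF (hzb i), zero_smul, add_zero]

end Cfsg.Agent.H77.Witt
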