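import Mathlib
import Cfsg.Agent.LieClassical.HermSiegel
import Cfsg.Agent.LieClassical.HermGen
import Cfsg.Agent.LieClassical.HermCount
import Cfsg.Agent.ClassicalGeometry.HermLines
import Cfsg.Agent.H77.Witt

/-!
# Geometry of the Hermitian space
-/

set_option autoImplicit false

namespace Cfsg.Agent.H77.Geom

open Cfsg Cfsg.Agent.LieClassical.HermBasic Cfsg.Agent.LieClassical.HermSiegel
open Cfsg.Agent.H77.Witt

variable {F : Type*} [Field F] {q n : ℕ}

/-- The perpendicular subspace of a set. -/
def perp (q : ℕ) (S : Set (Fin n → F)) : Submodule F (Fin n → F) where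
  carrier := {z | ∀ s ∈ S, hermForm n F q z s = 0}
  add_mem' := fun {a b} ha hb s hs => by rw [herm_add_left, ha s hs, hb s hs, add_zero]
  zero_mem' := fun s _ => herm_zero_left s
  smul_mem' := fun c a ha s hs => by rw [herm_smul_left, ha s hs, mul_zero]

theorem mem_perp {S : Set (Fin n → F)} {z : Fin n → F} :
    z ∈ perp q S ↔ ∀ s ∈ S, hermForm n F q z s = 0 := Iff.rfl

theorem mem_perp_singleton {e z : Fin n → F} :
    z ∈ perp q {e} ↔ hermForm n F q z e = 0 := by
  rw [mem_perp]
  simp

theorem mem_perp_pair {e v z : Fin n → F} :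
    z ∈ perp q {e, v} ↔ hermForm n F q z e = 0 ∧ hermForm n F q z v = 0 := by
  rw [mem_perp]
  simp

theorem perp_anti {S T : Set (Fin n → F)} (h : S ⊆ T) : perp q T ≤ perp q S :=
  fun _ hz s hs => hz s (h hs)

variable [Fintype F]

theorem perp_span (hF : Fintype.card F = q ^ 2) {S : Set (Fin n → F)} {z : Fin n → F}
    (hz : z ∈ perp q S) {s : Fin n → F} (hs : s ∈ Submodule.span F S) :
    hermForm n F q z s = 0 := by
  induction hs using Submodule.span_induction with
  | mem x hx => exact hz x hx
  | zero => exact herm_zero_right hF _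
  | add x y _ _ hx hy => rw [herm_add_right hF, hx, hy, add_zero]
  | smul a x _ hx => rw [herm_smul_right, hx, mul_zero]

theorem exists_rep (hF : Fintype.card F = q ^ 2) (φ : (Fin n → F) →ₗ[F] F) :
    ∃ y : Fin n → F, ∀ x, hermForm n F q x y = φ x := by
  classical
  refine ⟨fun i => φ (Pi.single i 1) ^ q, fun x => ?_⟩
  rw [herm_def]
  conv_rhs => rw [pi_eq_sum_univ x, map_sum]
  refine Finset.sum_congr rfl fun i _ => ?_
  rw [pow_q_pow_q hF, map_smul, smul_eq_mul]
  congr 2
  funext j
  by_cases hij : i = j
  · subst hij; simp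
  · rw [Pi.single_eq_of_ne (Ne.symm hij), if_neg hij]

/-- Prescribed products with independent vectors. -/
theorem exists_prescribed (hF : Fintype.card F = q ^ 2) {k : ℕ} {b : Fin k → (Fin n → F)}
    (hb : LinearIndependent F b) (t : Fin k → F) :
    ∃ z : Fin n → F, ∀ i, hermForm n F q z (b i) = t i := by
  classical
  obtain ⟨φ, hφ⟩ := LinearMap.exists_extend
    ((Module.Basis.span hb).constr F (fun i => t i ^ q) : _ →ₗ[F] F)
  have h1 : ∀ i, φ (b i) = t i ^ q := by
    intro i
    have h2 := LinearMap.congr_fun hφ ((Module.Basis.span hb) i)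
    rw [Module.Basis.constr_basis] at h2
    rw [← h2, LinearMap.comp_apply, Submodule.subtype_apply, Module.Basis.span_apply]
  obtain ⟨y, hy⟩ := exists_rep hF φ
  refine ⟨y, fun i => ?_⟩
  rw [herm_swap hF (b i) y, hy, h1, pow_q_pow_q hF]

theorem finrank_perp (hF : Fintype.card F = q ^ 2) {k : ℕ} {b : Fin k → (Fin n → F)}
    (hb : LinearIndependent F b) : Module.finrank F (perp q (Set.range b)) + k = n := by
  let L : (Fin n → F) →ₗ[F] (Fin k → F) :=
    { toFun := fun z i => hermForm n F q z (b i)
      map_add' := fun x y => by funext i; exact herm_add_left x y _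
      map_smul' := fun c x => by funext i; exact herm_smul_left c x _ }
  have hker : LinearMap.ker L = perp q (Set.range b) := by
    ext z
    rw [LinearMap.mem_ker, mem_perp]
    constructor
    · rintro h _ ⟨i, rfl⟩
      exact congrFun h i
    · intro h
      funext i
      exact h _ ⟨i, rfl⟩
  have hsurj : LinearMap.range L = ⊤ := by
    rw [LinearMap.range_eq_top]
    intro t
    obtain ⟨z, hz⟩ := exists_prescribed hF hb t
    exact ⟨z, funext hz⟩
  have h := LinearMap.finrank_range_add_finrank_ker L
  rw [hsurj, hker, finrank_top, Module.finrank_fin_fun, Module.finrank_fin_fun] at h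
  omega

theorem card_submodule (hF : Fintype.card F = q ^ 2) (S : Submodule F (Fin n → F)) :
    Nat.card S = q ^ (2 * Module.finrank F S) := by
  have : Nat.card S = Nat.card F ^ Module.finrank F S := Module.natCard_eq_pow_finrank
  rw [this, Nat.card_eq_fintype_card, hF, ← pow_mul]

theorem card_perp (hF : Fintype.card F = q ^ 2) {k : ℕ} {b : Fin k → (Fin n → F)}
    (hb : LinearIndependent F b) :
    Nat.card (perp q (Set.range b)) = q ^ (2 * (n - k)) := by
  have h := finrank_perp (q := q) hF hb
  have h' : Module.finrank F (perp q (Set.range b)) = n - k := by omega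
  rw [card_submodule hF, h']

theorem exists_perp_ne (hF : Fintype.card F = q ^ 2) {S : Set (Fin n → F)} {w : Fin n → F}
    (hw : w ∉ Submodule.span F S) : ∃ y ∈ perp q S, hermForm n F q y w ≠ 0 := by
  obtain ⟨φ, hφ, hker⟩ := Submodule.exists_le_ker_of_notMem hw
  obtain ⟨y, hy⟩ := exists_rep hF φ
  refine ⟨y, fun s hs => ?_, fun h => hφ ?_⟩
  · apply herm_eq_zero_swap hF
    rw [hy]
    exact hker (Submodule.subset_span hs)
  · rw [← hy]
    exact herm_eq_zero_swap hF h

/-- An isotropic vector in `S^⊥`, not in the span of `S`, has an isotropic partner in `S^⊥`. -/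
theorem exists_partner (hF : Fintype.card F = q ^ 2) {S : Set (Fin n → F)} {v : Fin n → F}
    (hv : hermForm n F q v v = 0) (hvS : v ∈ perp q S) (hvn : v ∉ Submodule.span F S) :
    ∃ y ∈ perp q S, hermForm n F q y y = 0 ∧ hermForm n F q v y = 1 := by
  obtain ⟨y, hy, hyv⟩ := exists_perp_ne hF hvn
  have hvy : hermForm n F q v y ≠ 0 := by
    rw [herm_swap hF y v]; exact pow_ne_zero _ hyv
  obtain ⟨t, ht⟩ := LieClassical.HermGen.exists_iso_correct hF hv hvy
  have h1 : hermForm n F q v (y + t • v) = hermForm n F q v y := by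
    rw [herm_add_right hF, herm_smul_right, hv, mul_zero, add_zero]
  refine ⟨((hermForm n F q v y)⁻¹ ^ q) • (y + t • v), ?_, ?_, ?_⟩
  · exact Submodule.smul_mem _ _ (Submodule.add_mem _ hy (Submodule.smul_mem _ _ hvS))
  · rw [herm_smul_left, herm_smul_right, ht, mul_zero, mul_zero]
  · rw [herm_smul_right, h1, pow_q_pow_q hF, inv_mul_cancel₀ hvy]

theorem exists_nonisotropic (hF : Fintype.card F = q ^ 2) {k : ℕ} {b : Fin k → (Fin n → F)}
    (hb : LinearIndependent F b) (hk : 2 * k < n) :
    ∃ z ∈ perp q (Set.range b), hermForm n F q z z ≠ 0 := by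
  by_contra hcon
  push Not at hcon
  have h0 : ∀ x ∈ perp q (Set.range b), ∀ y ∈ perp q (Set.range b), hermForm n F q x y = 0 := by
    intro x hx y hy
    by_contra hxy
    obtain ⟨z, hz, hzz⟩ := ClassicalGeometry.HermWitt.exists_apply_self_ne_zero _ (formB hF n)
      (conj_ne hF) (formB_symm hF) (perp q (Set.range b)) ⟨y, hy, x, hx, hxy⟩
    exact hzz (hcon z hz)
  have hle : perp q (Set.range b) ≤ Submodule.span F (Set.range b) := by
    intro x hx
    by_contra hxs
    obtain ⟨y, hy, hyx⟩ := exists_perp_ne (q := q) hF hxs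
    exact hyx (h0 y hy x hx)
  have h1 := Submodule.finrank_mono hle
  have h2 := finrank_perp (q := q) hF hb
  rw [finrank_span_eq_card hb, Fintype.card_fin] at h1
  omega

theorem two_mul_le_of_iso (hF : Fintype.card F = q ^ 2) {k : ℕ} {b : Fin k → (Fin n → F)}
    (hb : LinearIndependent F b) (h0 : ∀ i j, hermForm n F q (b i) (b j) = 0) : 2 * k ≤ n := by
  have hle : Submodule.span F (Set.range b) ≤ perp q (Set.range b) := by
    rw [Submodule.span_le]
    rintro _ ⟨i, rfl⟩
    rintro _ ⟨j, rfl⟩
    exact h0 i j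
  have h1 := Submodule.finrank_mono hle
  have h2 := finrank_perp (q := q) hF hb
  rw [finrank_span_eq_card hb, Fintype.card_fin] at h1
  omega

omit [Fintype F] in
theorem linInd_pair {e x : Fin n → F} (he : e ≠ 0) (hx : x ∉ Submodule.span F {e}) :
    LinearIndependent F ![e, x] := by
  rw [LinearIndependent.pair_iff' he]
  intro a ha
  exact hx (Submodule.mem_span_singleton.2 ⟨a, ha⟩)

omit [Field F] [Fintype F] in
theorem range_pair (e x : Fin n → F) : Set.range ![e, x] = {e, x} := by
  rw [Matrix.range_cons, Matrix.range_cons, Matrix.range_empty, Set.union_empty]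
  rfl

theorem card_perp_one (hF : Fintype.card F = q ^ 2) {e : Fin n → F} (he : e ≠ 0) :
    Nat.card (perp q {e}) = q ^ (2 * (n - 1)) := by
  have h : LinearIndependent F ![e] := by
    rw [linearIndependent_unique_iff]; exact he
  have h2 := card_perp (q := q) hF h
  have h3 : Set.range ![e] = {e} := by
    rw [Matrix.range_cons, Matrix.range_empty, Set.union_empty]
  rwa [h3] at h2

theorem card_perp_two (hF : Fintype.card F = q ^ 2) {e x : Fin n → F} (he : e ≠ 0)
    (hx : x ∉ Submodule.span F {e}) :
    Nat.card (perp q {e, x}) = q ^ (2 * (n - 2)) := by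
  have h2 := card_perp (q := q) hF (linInd_pair he hx)
  rwa [range_pair] at h2

theorem card_span_one (hF : Fintype.card F = q ^ 2) {e : Fin n → F} (he : e ≠ 0) :
    Nat.card (Submodule.span F {e}) = q ^ 2 := by
  rw [card_submodule hF, finrank_span_singleton he, mul_one]

theorem card_span_two (hF : Fintype.card F = q ^ 2) {e x : Fin n → F} (he : e ≠ 0)
    (hx : x ∉ Submodule.span F {e}) :
    Nat.card (Submodule.span F {e, x}) = q ^ 4 := by
  rw [card_submodule hF, ← range_pair, finrank_span_eq_card (linInd_pair he hx),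
    Fintype.card_fin]

/-- Transitivity of the stabiliser of an isotropic vector. -/
theorem exists_fix_map (hF : Fintype.card F = q ^ 2) (hn : 5 ≤ n) {e x x' : Fin n → F}
    (he0 : e ≠ 0) (hx : hermForm n F q x e = 0)
    (hx' : hermForm n F q x' e = 0) (hxs : x ∉ Submodule.span F {e})
    (hxs' : x' ∉ Submodule.span F {e}) (hxx : hermForm n F q x x = hermForm n F q x' x') :
    ∃ g : SU n F q, act g e = e ∧ act g x = x' := by
  obtain ⟨z, hz, hzz⟩ := exists_nonisotropic (q := q) hF (linInd_pair he0 hxs') (by omega)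
  obtain ⟨g, hg⟩ := exists_su_ext hF ![e, x] ![e, x'] (linInd_pair he0 hxs)
    (linInd_pair he0 hxs') (by
      intro i j
      fin_cases i <;> fin_cases j
      · rfl
      · exact (herm_eq_zero_swap hF hx).trans (herm_eq_zero_swap hF hx').symm
      · exact hx.trans hx'.symm
      · exact hxx) hzz (fun i => hz _ ⟨i, rfl⟩)
  exact ⟨g, hg 0, hg 1⟩

/-- Transitivity on isotropic vectors. -/
theorem exists_map (hF : Fintype.card F = q ^ 2) (hn : 3 ≤ n) {e e' : Fin n → F}
    (he0 : e ≠ 0) (he : hermForm n F q e e = 0) (he0' : e' ≠ 0)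
    (he' : hermForm n F q e' e' = 0) : ∃ g : SU n F q, act g e = e' := by
  obtain ⟨g, -, hg⟩ := LieClassical.HermGen.exists_map_iso hF hn le_rfl
    (LieClassical.HermGen.mem_coordSub_top e) (LieClassical.HermGen.mem_coordSub_top e')
    he0 he0' he he'
  exact ⟨g, hg⟩

/-! ### Counting -/

theorem card_norm_not_perp (hF : Fintype.card F = q ^ 2) {u : Fin n → F}
    (hu0 : hermForm n F q u u = 0) {c : F} (hc : c ^ q = c) :
    Nat.card {v : Fin n → F // hermForm n F q v v = c ∧ hermForm n F q v u ≠ 0} * q =
      Nat.card {v : Fin n → F // hermForm n F q v u ≠ 0} := by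
  classical
  have hshift : ∀ (v : Fin n → F) (t : F),
      hermForm n F q (v + t • u) (v + t • u) = hermForm n F q v v +
        (t * hermForm n F q u v + (t * hermForm n F q u v) ^ q) := by
    intro v t
    rw [herm_add_left, herm_add_right hF, herm_add_right hF, herm_smul_left, herm_smul_left,
      herm_smul_right, herm_smul_right, hu0, mul_pow, ← herm_swap hF u v]
    ring
  have hshift2 : ∀ (v : Fin n → F) (t : F),
      hermForm n F q (v + t • u) u = hermForm n F q v u := by
    intro v t
    rw [herm_add_left, herm_smul_left, hu0, mul_zero, add_zero]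
  have e : {v : Fin n → F // hermForm n F q v v = c ∧ hermForm n F q v u ≠ 0} × F ≃
      Σ v : {v : Fin n → F // hermForm n F q v u ≠ 0},
        {t : F // (hermForm n F q v.1 v.1 - c) +
          (t * hermForm n F q u v.1 + (t * hermForm n F q u v.1) ^ q) = 0} :=
    { toFun := fun x => ⟨⟨x.1.1 - x.2 • u, by
          have := hshift2 (x.1.1 - x.2 • u) x.2
          rw [sub_add_cancel] at this
          rw [← this]
          exact x.1.2.2⟩, ⟨x.2, by
          rw [sub_add_eq_add_sub, ← hshift, sub_add_cancel, x.1.2.1, sub_self]⟩⟩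
      invFun := fun x => ⟨⟨x.1.1 + x.2.1 • u, by
          rw [hshift, hshift2]
          refine ⟨?_, x.1.2⟩
          have := x.2.2
          linear_combination this⟩, x.2.1⟩
      left_inv := by
        rintro ⟨⟨v, hv⟩, t⟩
        simp
      right_inv := by
        rintro ⟨⟨v, hv⟩, ⟨t, ht⟩⟩
        apply Sigma.ext
        · exact Subtype.ext (add_sub_cancel_right _ _)
        · refine (Subtype.heq_iff_coe_eq ?_).2 rfl
          intro t'
          simp only [add_sub_cancel_right] }
  have h1 := Nat.card_congr e
  rw [Nat.card_prod, Nat.card_sigma,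
    Finset.sum_congr rfl (g := fun _ => q), Finset.sum_const, smul_eq_mul, Finset.card_univ,
    Nat.card_eq_fintype_card (α := F), hF, sq, ← mul_assoc, ← Nat.card_eq_fintype_card] at h1
  · exact Nat.eq_of_mul_eq_mul_right (q_pos hF) h1
  · rintro ⟨v, hv⟩ -
    exact ClassicalGeometry.HermLines.card_trace_shift hF (fun h => hv (herm_eq_zero_swap hF h))
      (by rw [sub_pow_q hF, herm_self_pow hF v, hc])

theorem card_norm_perp (hF : Fintype.card F = q ^ 2) {u : Fin n → F} (hu : u ≠ 0)
    (hu0 : hermForm n F q u u = 0) {c : F} (hc : c ^ q = c) :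
    (q : ℤ) * Nat.card {v : Fin n → F // hermForm n F q v v = c ∧ hermForm n F q v u = 0} +
      (q : ℤ) ^ (2 * n) =
    (q : ℤ) * Nat.card {v : Fin n → F // hermForm n F q v v = c} + (q : ℤ) ^ (2 * (n - 1)) := by
  classical
  have h1 := card_norm_not_perp hF hu0 hc
  have h2 := card_perp_one (q := q) hF hu
  have h2' : Nat.card {v : Fin n → F // hermForm n F q v u = 0} = q ^ (2 * (n - 1)) := by
    rw [← h2]
    exact Nat.card_congr (Equiv.subtypeEquivRight fun v => mem_perp_singleton.symm)
  have h3 : Nat.card {v : Fin n → F // hermForm n F q v v = c} =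
      Nat.card {v : Fin n → F // hermForm n F q v v = c ∧ hermForm n F q v u = 0} +
      Nat.card {v : Fin n → F // hermForm n F q v v = c ∧ hermForm n F q v u ≠ 0} := by
    simp only [Nat.card_eq_fintype_card, Fintype.card_subtype]
    rw [← Finset.card_filter_add_card_filter_not (s := Finset.univ.filter
      (fun v : Fin n → F => hermForm n F q v v = c)) (fun v => hermForm n F q v u = 0)]
    simp only [Finset.filter_filter]
  have h4 : q ^ (2 * n) = Nat.card {v : Fin n → F // hermForm n F q v u = 0} +
      Nat.card {v : Fin n → F // hermForm n F q v u ≠ 0} := by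
    have : q ^ (2 * n) = Fintype.card (Fin n → F) := by
      rw [Fintype.card_fun, hF, Fintype.card_fin, ← pow_mul]
    rw [this]
    simp only [Nat.card_eq_fintype_card, Fintype.card_subtype]
    rw [← Finset.card_univ, ← Finset.card_filter_add_card_filter_not (s := Finset.univ)
      (fun v : Fin n → F => hermForm n F q v u = 0)]
  rw [h2'] at h4
  generalize Nat.card {v : Fin n → F // hermForm n F q v v = c ∧ hermForm n F q v u = 0} = N at *
  generalize Nat.card {v : Fin n → F // hermForm n F q v v = c ∧ hermForm n F q v u ≠ 0} = A at *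
  generalize Nat.card {v : Fin n → F // hermForm n F q v v = c} = I at *
  generalize Nat.card {v : Fin n → F // hermForm n F q v u ≠ 0} = S at *
  have h5 : (q : ℤ) ^ (2 * n) = (q : ℤ) ^ (2 * (n - 1)) + A * q := by
    rw [← h1] at h4
    exact_mod_cast h4
  rw [h5, h3]
  push_cast
  ring

end Cfsg.Agent.H77.Geom
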