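import Mathlib
import Cfsg.Agent.H77.Step3
import Cfsg.Agent.H77.CW

/-!
# The unipotent group of `v` moves a point fixed by the transvection group of `v`
-/

set_option autoImplicit false

namespace Cfsg.Agent.H77.Step4

open Cfsg Cfsg.Agent.LieClassical.HermBasic Cfsg.Agent.LieClassical.HermSiegel
open Cfsg.Agent.H77.Geom Cfsg.Agent.H77.Heis Cfsg.Agent.H77.Iso Cfsg.Agent.H77.Key1
open Cfsg.Agent.H77.Act Cfsg.Agent.H77.Step1 Cfsg.Agent.H77.Step2 Cfsg.Agent.H77.Step3

variable {F : Type*} [Field F] [Fintype F] {q n : ℕ}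
variable {Ω : Type*} [MulAction (SU n F q) Ω] [Finite Ω]

/-- Some point is not fixed by `Z_v`. -/
theorem exists_not_fixed [MulAction.IsPretransitive (SU n F q) Ω] [Nontrivial Ω]
    (hF : Fintype.card F = q ^ 2) (hn : 5 ≤ n) {v : Fin n → F} (hv0 : v ≠ 0)
    (hv : hermForm n F q v v = 0) : ∃ ω : Ω, ¬ Fixed hF v ω := by
  by_contra hcon
  push Not at hcon
  obtain ⟨c, hc, hc0⟩ := exists_mem_T0 hF
  have hK : (MulAction.toPermHom (SU n F q) Ω).ker = ⊤ := by
    apply LieClassical.HermPerfect.normal_eq_top hF (by omega) (by omega)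
    intro hle
    have htv : tv hF v hv c hc ∈ (MulAction.toPermHom (SU n F q) Ω).ker := by
      rw [MonoidHom.mem_ker]
      ext ω
      obtain ⟨h, hfix⟩ := hcon ω c hc
      exact hfix
    have hcen := Subgroup.mem_center_iff.1 (hle htv)
    obtain ⟨v', hv', hvv'⟩ := LieClassical.HermSimple.exists_partner hF hv0 hv
    have hv'0 : v' ≠ 0 := by
      rintro rfl
      rw [herm_zero_right hF] at hvv'
      exact zero_ne_one hvv'
    obtain ⟨g, hg⟩ := exists_map (q := q) hF (by omega) hv0 hv hv'0 hv'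
    have h1 := congrArg (fun x => act x v) (hcen g)
    simp only [act_mul] at h1
    rw [act_tv, hv, mul_zero, zero_smul, add_zero, hg, act_tv,
      herm_swap hF v v', hvv', one_pow, mul_one] at h1
    have h2 : c • v = 0 := by
      have := sub_eq_zero.2 h1.symm
      rwa [add_sub_cancel_left] at this
    exact smul_ne_zero hc0 hv0 h2
  obtain ⟨ω, ω', hne⟩ := exists_pair_ne Ω
  obtain ⟨g, hg⟩ := MulAction.exists_smul_eq (SU n F q) ω ω'
  have h1 : g ∈ (MulAction.toPermHom (SU n F q) Ω).ker := by rw [hK]; trivial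
  rw [MonoidHom.mem_ker] at h1
  have h2 := congrArg (fun σ : Equiv.Perm Ω => σ ω) h1
  apply hne
  rw [← hg]
  exact h2.symm

/-- Some point is fixed by `Z_v`. -/
theorem exists_fixed [MulAction.IsPretransitive (SU n F q) Ω] [Nonempty Ω]
    (hF : Fintype.card F = q ^ 2) (hn : 5 ≤ n)
    (hN : (Nat.card Ω : ℤ) * ((q : ℤ) ^ 2 - 1) < In q n) {v : Fin n → F} (hv0 : v ≠ 0)
    (hv : hermForm n F q v v = 0) : ∃ ω : Ω, Fixed hF v ω := by
  by_contra hcon
  push Not at hcon
  obtain ⟨m, rfl⟩ : ∃ m, n = m + 4 := ⟨n - 4, by omega⟩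
  refine exists_fixed_aux (Ω := Ω) hF hn hN ?_
  intro v' hv'0 hv' ω hfix
  obtain ⟨g, hg⟩ := exists_map (q := q) hF (by omega) hv'0 hv' hv0 hv
  have h1 := hfix.gmap g
  rw [hg] at h1
  exact hcon _ h1

/-- A Siegel transformation of two orthogonal isotropic vectors belongs to both groups. -/
theorem siegel_swap (hF : Fintype.card F = q ^ 2) {e w : Fin n → F} (h : IsSiegel q e w 0)
    (h' : IsSiegel q w (-e) 0) : siegel hF e w 0 h = siegel hF w (-e) 0 h' := by
  apply ext_act
  intro u
  rw [act_siegel, act_siegel, herm_neg_right hF]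
  simp only [zero_mul, zero_sub, neg_neg, smul_neg, neg_smul]
  abel

/-- The group of `e` moves a point fixed by `Z_e`. -/
theorem exists_moved [MulAction.IsPretransitive (SU n F q) Ω] [Nontrivial Ω]
    (hF : Fintype.card F = q ^ 2) (hn : 5 ≤ n)
    (hN : (Nat.card Ω : ℤ) * ((q : ℤ) ^ 2 - 1) < In q n) {e : Fin n → F} (he0 : e ≠ 0)
    (he : hermForm n F q e e = 0) :
    ∃ ω : Ω, Fixed hF e ω ∧ ∃ x : HP hF e he, rho hF e he x • ω ≠ ω := by
  by_contra hcon
  push Not at hcon
  -- all vectors
  have hall : ∀ (v : Fin n → F) (hv0 : v ≠ 0) (hv : hermForm n F q v v = 0) (ω : Ω),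
      Fixed hF v ω → ∀ (w : Fin n → F) (μ : F) (h : IsSiegel q v w μ),
      siegel hF v w μ h • ω = ω := by
    intro v hv0 hv ω hfix w μ h
    obtain ⟨g, hg⟩ := exists_map (q := q) hF (by omega) hv0 hv he0 he
    have h1 := hfix.gmap g
    rw [hg] at h1
    have hs : IsSiegel q e (act g w) μ := by
      have := h.map g
      rwa [hg] at this
    have h2 : siegel hF e (act g w) μ hs • g • ω = g • ω :=
      hcon _ h1 (HP.mk hF he _ _ hs)
    have h3 : siegel hF e (act g w) μ hs = g * siegel hF v w μ h * g⁻¹ := by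
      rw [conj_siegel]
      exact siegel_congr hF _ _ hg.symm rfl rfl
    rw [h3, mul_smul, mul_smul, inv_smul_smul] at h2
    exact smul_left_cancel g h2
  obtain ⟨ω, hω⟩ := exists_fixed (Ω := Ω) hF hn hN he0 he
  -- spreading to orthogonal vectors
  have hspread : ∀ (v w : Fin n → F), v ≠ 0 → hermForm n F q v v = 0 → w ≠ 0 →
      hermForm n F q w w = 0 → hermForm n F q w v = 0 → Fixed hF v ω → Fixed hF w ω := by
    intro v w hv0 hv hw0 hw hwv hfix
    by_cases hws : v ∈ Submodule.span F {w}
    · obtain ⟨a, rfl⟩ := Submodule.mem_span_singleton.1 hws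
      have ha : a ≠ 0 := by
        rintro rfl
        exact hv0 (zero_smul _ _)
      exact hfix.of_smul ha
    by_contra hnf
    have hs : IsSiegel q v w (0 : F) := ⟨hv, hwv, by rw [hw, zero_pow_q hF]; ring⟩
    have hs' : IsSiegel q w (-v) (0 : F) := by
      refine ⟨hw, ?_, ?_⟩
      · rw [herm_neg_left, herm_eq_zero_swap hF hwv, neg_zero]
      · rw [herm_neg_left, herm_neg_right hF, hv, zero_pow_q hF]; ring
    have h1 := hall v hv0 hv ω hfix w 0 hs
    rw [siegel_swap hF hs hs'] at h1
    have h2 := (triv_of_not_fixed hF hn hN hw0 hw hnf (x := HP.mk hF hw _ _ hs') h1).1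
    rw [HP.mk_w] at h2
    exact hws (by simpa using Submodule.neg_mem _ h2)
  have hfixall : ∀ u : Fin n → F, u ≠ 0 → hermForm n F q u u = 0 → Fixed hF u ω := by
    intro u hu0 hu
    obtain ⟨w, hw, hw0, hww⟩ := CW.exists_isotropic hF (perp q {e, u}).toAddSubgroup (by
      have h2 := two_le hF
      by_cases hus : u ∈ Submodule.span F {e}
      · have h3 : perp q {e} ≤ perp q {e, u} := by
          intro z hz
          rw [mem_perp_pair]
          have hz' := mem_perp_singleton.1 hz
          refine ⟨hz', ?_⟩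
          obtain ⟨a, rfl⟩ := Submodule.mem_span_singleton.1 hus
          rw [herm_smul_right, hz', mul_zero]
        have h4 : Nat.card (perp q {e}) ≤ Nat.card (perp q {e, u}) :=
          Nat.card_le_card_of_injective (Submodule.inclusion h3)
            (Submodule.inclusion_injective h3)
        rw [card_perp_one hF he0] at h4
        refine lt_of_lt_of_le ?_ h4
        exact Nat.pow_lt_pow_right (by omega) (by omega)
      · have h4 := card_perp_two (q := q) hF he0 hus
        change q ^ 2 < Nat.card (perp q {e, u})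
        rw [h4]
        exact Nat.pow_lt_pow_right (by omega) (by omega))
    have hw' := mem_perp_pair.1 hw
    have h1 := hspread e w he0 he hw0 hww hw'.1 hω
    exact hspread w u hw0 hww hu0 hu (herm_eq_zero_swap hF hw'.2) h1
  have htop : MulAction.stabilizer (SU n F q) ω = ⊤ := by
    rw [eq_top_iff, ← LieClassical.HermGen.siegelGroup_eq_top hF (by omega),
      LieClassical.HermGen.siegelGroup, Subgroup.closure_le]
    rintro _ ⟨u, w, μ, h, rfl⟩
    by_cases hu0 : u = 0
    · subst hu0
      have h1 : siegel hF 0 w μ h = 1 := by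
        apply ext_act
        intro y
        rw [act_siegel, act_one, herm_zero_right hF, zero_smul, smul_zero, add_zero, add_zero]
      rw [h1]
      exact Subgroup.one_mem _
    · exact hall u hu0 h.iso ω (hfixall u hu0 h.iso) w μ h
  obtain ⟨ω', hne⟩ := exists_ne ω
  obtain ⟨g, hg⟩ := MulAction.exists_smul_eq (SU n F q) ω ω'
  have h1 : g ∈ MulAction.stabilizer (SU n F q) ω := by rw [htop]; trivial
  rw [MulAction.mem_stabilizer_iff, hg] at h1
  exact hne h1

end Cfsg.Agent.H77.Step4
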