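import Mathlib
import Cfsg.Agent.H77.Step4
import Cfsg.Agent.H77.GeomD

/-!
# The permutation action of `e^⊥ / F e` on the points fixed by `Z_e`
-/

set_option autoImplicit false

namespace Cfsg.Agent.H77.Step5

open Cfsg Cfsg.Agent.LieClassical.HermBasic Cfsg.Agent.LieClassical.HermSiegel
open Cfsg.Agent.H77.Geom Cfsg.Agent.H77.Heis Cfsg.Agent.H77.Iso Cfsg.Agent.H77.Key1
open Cfsg.Agent.H77.Act Cfsg.Agent.H77.Step1 Cfsg.Agent.H77.Step2

variable {F : Type*} [Field F] [Fintype F] {q n : ℕ}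
variable {Ω : Type*} [MulAction (SU n F q) Ω]

/-- The dual of the stabiliser of a point. -/
def Dd {hF : Fintype.card F = q ^ 2} {e : Fin n → F} (he : hermForm n F q e e = 0) {p : ℕ}
    (φ : F →+ ZMod p) (ω : Ω) : AddSubgroup (Fin n → F) :=
  dual hF φ (prj (Kst hF he ω)) (perp q {e})

theorem mem_Dd {hF : Fintype.card F = q ^ 2} {e : Fin n → F} {he : hermForm n F q e e = 0}
    {p : ℕ} {φ : F →+ ZMod p} {ω : Ω} {b : Fin n → F} :
    b ∈ Dd (hF := hF) he φ ω ↔ hermForm n F q b e = 0 ∧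
      ∀ a ∈ prj (Kst hF he ω), φ (hermForm n F q a b) = 0 := by
  rw [Dd, mem_dual, mem_perp_singleton]

theorem Dd_map {hF : Fintype.card F = q ^ 2} {e : Fin n → F} (he : hermForm n F q e e = 0)
    {p : ℕ} (φ : F →+ ZMod p) (ω : Ω) {g : SU n F q} {c : F} (hc : c ≠ 0)
    (hg : act g e = c • e) {b : Fin n → F} (hb : b ∈ Dd (hF := hF) he φ ω) :
    c⁻¹ • act g b ∈ Dd (hF := hF) he φ (g • ω) := by
  rw [mem_Dd] at hb ⊢
  constructor
  · have h1 : hermForm n F q (act g b) (c • e) = 0 := by rw [← hg, herm_act, hb.1]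
    rw [herm_smul_right] at h1
    rw [herm_smul_left, (mul_eq_zero.1 h1).resolve_left (pow_ne_zero _ hc), mul_zero]
  · intro a ha
    -- write `a = c ^ q • act g w`
    have hcq : c ^ q ≠ 0 := pow_ne_zero _ hc
    have h2 : c ^ q • act g (act g⁻¹ ((c ^ q)⁻¹ • a)) = a := by
      rw [act_act_inv, smul_smul, mul_inv_cancel₀ hcq, one_smul]
    have h3 : act g⁻¹ ((c ^ q)⁻¹ • a) ∈ prj (Kst hF he ω) := by
      rw [← prj_map (hF := hF) he ω hc hg, h2]
      exact ha
    have h4 := hb.2 _ h3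
    rw [← h2, herm_smul_left, herm_smul_right, herm_act, inv_pow, ← mul_assoc,
      mul_inv_cancel₀ hcq, one_mul]
    exact h4

theorem Dd_map_iff {hF : Fintype.card F = q ^ 2} {e : Fin n → F} (he : hermForm n F q e e = 0)
    {p : ℕ} (φ : F →+ ZMod p) (ω : Ω) {g : SU n F q} {c : F} (hc : c ≠ 0)
    (hg : act g e = c • e) {b : Fin n → F} :
    c⁻¹ • act g b ∈ Dd (hF := hF) he φ (g • ω) ↔ b ∈ Dd (hF := hF) he φ ω := by
  constructor
  · intro h
    have h1 := Dd_map he φ (g • ω) (inv_ne_zero hc) (act_inv_smul hc hg) h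
    rwa [inv_smul_smul, inv_inv, act_smul, act_inv_act, smul_smul, mul_inv_cancel₀ hc,
      one_smul] at h1
  · exact Dd_map he φ ω hc hg

/-- The order of the dual. -/
noncomputable def dn {hF : Fintype.card F = q ^ 2} {e : Fin n → F}
    (he : hermForm n F q e e = 0) {p : ℕ} (φ : F →+ ZMod p) (ω : Ω) : ℕ :=
  Nat.card (Dd (hF := hF) he φ ω)

theorem dn_le {hF : Fintype.card F = q ^ 2} {e : Fin n → F} (he : hermForm n F q e e = 0)
    {p : ℕ} (φ : F →+ ZMod p) (ω : Ω) {g : SU n F q} {c : F} (hc : c ≠ 0)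
    (hg : act g e = c • e) : dn (hF := hF) he φ ω ≤ dn (hF := hF) he φ (g • ω) := by
  refine Nat.card_le_card_of_injective (fun b => (⟨c⁻¹ • act g b.1, Dd_map he φ ω hc hg b.2⟩ :
    Dd (hF := hF) he φ (g • ω))) ?_
  intro a b hab
  have h1 : c⁻¹ • act g a.1 = c⁻¹ • act g b.1 := congrArg Subtype.val hab
  exact Subtype.ext (act_injective g (smul_right_injective _ (inv_ne_zero hc) h1))

theorem dn_map {hF : Fintype.card F = q ^ 2} {e : Fin n → F} (he : hermForm n F q e e = 0)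
    {p : ℕ} (φ : F →+ ZMod p) (ω : Ω) {g : SU n F q} {c : F} (hc : c ≠ 0)
    (hg : act g e = c • e) : dn (hF := hF) he φ (g • ω) = dn (hF := hF) he φ ω := by
  apply le_antisymm _ (dn_le he φ ω hc hg)
  have := dn_le (hF := hF) he φ (g • ω) (inv_ne_zero hc) (act_inv_smul hc hg)
  rwa [inv_smul_smul] at this

theorem fixed_map {hF : Fintype.card F = q ^ 2} {e : Fin n → F} {ω : Ω} {g : SU n F q} {c : F}
    (hc : c ≠ 0) (hg : act g e = c • e) : Fixed hF e (g • ω) ↔ Fixed hF e ω := by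
  rw [← fixed_act_iff (hF := hF) (v := e) (ω := ω) g, hg]
  exact ⟨fun h => h.smul hc, fun h => h.of_smul hc⟩

theorem smul_mem_Dd {hF : Fintype.card F = q ^ 2} {e : Fin n → F}
    (he : hermForm n F q e e = 0) {p : ℕ} (φ : F →+ ZMod p) (ω : Ω) (a : F) :
    a • e ∈ Dd (hF := hF) he φ ω := by
  rw [mem_Dd]
  refine ⟨by rw [herm_smul_left, he, mul_zero], fun w hw => ?_⟩
  rw [herm_smul_right, prj_orth hw, mul_zero, map_zero]

/-- The radical of `e^⊥`. -/
theorem rad_eq (hF : Fintype.card F = q ^ 2) {e : Fin n → F} (he : hermForm n F q e e = 0) :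
    (perp q {e} ⊓ perp q ((perp q {e} : Submodule F (Fin n → F)) : Set (Fin n → F)) :
      Submodule F (Fin n → F)) = Submodule.span F {e} := by
  apply le_antisymm
  · intro x hx
    by_contra hxs
    obtain ⟨y, hy, hyx⟩ := exists_perp_ne (q := q) hF hxs
    exact hyx (herm_eq_zero_swap hF (hx.2 y hy))
  · intro x hx
    obtain ⟨a, rfl⟩ := Submodule.mem_span_singleton.1 hx
    refine ⟨mem_perp_singleton.2 (by rw [herm_smul_left, he, mul_zero]), fun y hy => ?_⟩
    rw [herm_smul_left, herm_eq_zero_swap hF (mem_perp_singleton.1 hy), mul_zero]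

theorem card_prj_mul_dn {hF : Fintype.card F = q ^ 2} {e : Fin n → F} (he0 : e ≠ 0)
    (he : hermForm n F q e e = 0) {p : ℕ} (hp : p.Prime) [CharP F p] {φ : F →+ ZMod p}
    (hφ : φ ≠ 0) (ω : Ω) :
    Nat.card (prj (Kst hF he ω)) * dn (hF := hF) he φ ω = q ^ (2 * (n - 1)) * q ^ 2 := by
  rw [← card_perp_one (q := q) hF he0, ← card_span_one hF he0, ← rad_eq hF he]
  apply card_dual hF hp φ hφ
  · intro a ha
    exact mem_perp_singleton.2 (prj_orth ha)
  · intro a ha ha'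
    have h1 : a ∈ Submodule.span F {e} := by
      rw [← rad_eq hF he]
      exact ⟨ha, ha'⟩
    obtain ⟨b, rfl⟩ := Submodule.mem_span_singleton.1 h1
    exact smul_mem_prj ω b

theorem card_orb_mul {hF : Fintype.card F = q ^ 2} {v : Fin n → F}
    (hv : hermForm n F q v v = 0) (ω : Ω) :
    Nat.card (Kst hF hv ω) * Nat.card (orb hF hv ω) = Nat.card (HP hF v hv) := by
  rw [← Subgroup.card_mul_index (Kst hF hv ω)]
  congr 1
  rw [Subgroup.index]
  symm
  apply Nat.card_congr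
  refine Equiv.ofBijective (Quotient.lift (s := QuotientGroup.leftRel (Kst hF hv ω))
    (fun x => (⟨rho hF v hv x • ω, x, rfl⟩ : orb hF hv ω)) ?_) ⟨?_, ?_⟩
  · intro a b hab
    apply Subtype.ext
    change rho hF v hv a • ω = rho hF v hv b • ω
    have h4 : a⁻¹ * b ∈ Kst hF hv ω := QuotientGroup.leftRel_apply.1 hab
    rw [mem_Kst, map_mul, map_inv, mul_smul] at h4
    rw [inv_smul_eq_iff] at h4
    exact h4.symm
  · intro a b
    induction a using QuotientGroup.induction_on with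
    | H a =>
      induction b using QuotientGroup.induction_on with
      | H b =>
        intro hab
        have h4 : rho hF v hv a • ω = rho hF v hv b • ω := congrArg Subtype.val hab
        rw [QuotientGroup.eq, mem_Kst, map_mul, map_inv, mul_smul, ← h4, inv_smul_smul]
  · rintro ⟨_, x, rfl⟩
    exact ⟨QuotientGroup.mk x, rfl⟩

/-- Orbit size in terms of the dual. -/
theorem card_orb_dn {hF : Fintype.card F = q ^ 2} {e : Fin n → F} (he0 : e ≠ 0)
    (he : hermForm n F q e e = 0) {p : ℕ} (hp : p.Prime) [CharP F p] {φ : F →+ ZMod p}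
    (hφ : φ ≠ 0) {ω : Ω} (hω : Fixed hF e ω) :
    Nat.card (orb hF he ω) * q ^ 2 = dn (hF := hF) he φ ω := by
  have h1 := card_orb_mul (hF := hF) he ω
  have h2 := card_prj_mul_dn (hF := hF) he0 he hp hφ ω
  rw [card_eq, (fixed_iff he).1 hω, card_T0, card_HP he he0] at h1
  have h3 : Nat.card (prj (Kst hF he ω)) * Nat.card (orb hF he ω) = q ^ (2 * (n - 1)) := by
    apply Nat.eq_of_mul_eq_mul_right (q_pos hF)
    rw [← h1]; ring
  have hpos : 0 < Nat.card (prj (Kst hF he ω)) := Nat.card_pos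
  apply Nat.eq_of_mul_eq_mul_left hpos
  rw [h2, ← h3]; ring

theorem Dd_orb {hF : Fintype.card F = q ^ 2} {e : Fin n → F}
    (he : hermForm n F q e e = 0) {p : ℕ} (φ : F →+ ZMod p) {ω ω' : Ω}
    (h : ω' ∈ orb hF he ω) : Dd (hF := hF) he φ ω' = Dd (hF := hF) he φ ω := by
  obtain ⟨x, rfl⟩ := h
  rw [Dd, Dd, prj_rho]

theorem fixed_orb {hF : Fintype.card F = q ^ 2} {e : Fin n → F}
    (he : hermForm n F q e e = 0) {ω ω' : Ω}
    (h : ω' ∈ orb hF he ω) : Fixed hF e ω' ↔ Fixed hF e ω := by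
  obtain ⟨x, rfl⟩ := h
  apply fixed_map one_ne_zero
  rw [one_smul]
  exact act_siegel_self hF x.sg

section W

variable [Fintype Ω]

open Classical in
/-- The weight of a vector. -/
noncomputable def W {hF : Fintype.card F = q ^ 2} {e : Fin n → F}
    (he : hermForm n F q e e = 0) {p : ℕ} (φ : F →+ ZMod p) (Ω : Type*)
    [MulAction (SU n F q) Ω] [Fintype Ω] (b : Fin n → F) : ℚ :=
  ∑ ω ∈ Finset.univ.filter (fun ω : Ω => Fixed hF e ω ∧ b ∈ Dd (hF := hF) he φ ω),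
    (q : ℚ) ^ 2 / (dn (hF := hF) he φ ω : ℚ)

omit [Fintype Ω] in
theorem dn_pos {hF : Fintype.card F = q ^ 2} {e : Fin n → F}
    (he : hermForm n F q e e = 0) {p : ℕ} (φ : F →+ ZMod p) (ω : Ω) :
    0 < dn (hF := hF) he φ ω := Nat.card_pos

theorem W_map {hF : Fintype.card F = q ^ 2} {e : Fin n → F} (he : hermForm n F q e e = 0)
    {p : ℕ} (φ : F →+ ZMod p) {g : SU n F q} {c : F} (hc : c ≠ 0)
    (hg : act g e = c • e) (b : Fin n → F) :
    W (hF := hF) he φ Ω (c⁻¹ • act g b) = W (hF := hF) he φ Ω b := by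
  classical
  rw [W, W]
  symm
  apply Finset.sum_bij (fun ω _ => g • ω)
  · intro ω hω
    rw [Finset.mem_filter] at hω ⊢
    exact ⟨Finset.mem_univ _, (fixed_map hc hg).2 hω.2.1, Dd_map he φ ω hc hg hω.2.2⟩
  · intro a _ b _ hab
    exact smul_left_cancel g hab
  · intro ω hω
    rw [Finset.mem_filter] at hω
    refine ⟨g⁻¹ • ω, ?_, smul_inv_smul g ω⟩
    rw [Finset.mem_filter]
    have h1 : g • g⁻¹ • ω = ω := smul_inv_smul g ω
    refine ⟨Finset.mem_univ _, ?_, ?_⟩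
    · rw [← fixed_map (ω := g⁻¹ • ω) hc hg, h1]; exact hω.2.1
    · rw [← Dd_map_iff he φ (g⁻¹ • ω) hc hg, h1]; exact hω.2.2
  · intro ω _
    rw [dn_map he φ ω hc hg]

theorem orb_sum {hF : Fintype.card F = q ^ 2} {e : Fin n → F} (he0 : e ≠ 0)
    (he : hermForm n F q e e = 0) {p : ℕ} (hp : p.Prime) [CharP F p] {φ : F →+ ZMod p}
    (hφ : φ ≠ 0) {ω : Ω} (hω : Fixed hF e ω) [DecidablePred fun x => x ∈ orb hF he ω] :
    ∑ ω' ∈ Finset.univ.filter (fun ω' => ω' ∈ orb hF he ω),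
      (q : ℚ) ^ 2 / (dn (hF := hF) he φ ω' : ℚ) = 1 := by
  have h1 : ∀ ω' ∈ Finset.univ.filter (fun ω' => ω' ∈ orb hF he ω),
      (q : ℚ) ^ 2 / (dn (hF := hF) he φ ω' : ℚ) = (q : ℚ) ^ 2 / (dn (hF := hF) he φ ω : ℚ) := by
    intro ω' hω'
    rw [Finset.mem_filter] at hω'
    rw [dn, Dd_orb he φ hω'.2, ← dn]
  rw [Finset.sum_congr rfl h1, Finset.sum_const, nsmul_eq_mul]
  have h2 : (Finset.univ.filter (fun ω' => ω' ∈ orb hF he ω)).card =
      Nat.card (orb hF he ω) := by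
    rw [Nat.card_eq_card_toFinset]
    congr 1
    ext x
    simp
  have h3 := card_orb_dn (hF := hF) he0 he hp hφ hω
  have hpos := dn_pos (hF := hF) he φ ω
  rw [h2, mul_div_assoc']
  rw [div_eq_one_iff_eq (by exact_mod_cast hpos.ne')]
  exact_mod_cast h3

theorem W_nonneg {hF : Fintype.card F = q ^ 2} {e : Fin n → F}
    (he : hermForm n F q e e = 0) {p : ℕ} (φ : F →+ ZMod p) (b : Fin n → F) :
    0 ≤ W (hF := hF) he φ Ω b :=
  Finset.sum_nonneg fun _ _ => by positivity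

theorem one_le_W {hF : Fintype.card F = q ^ 2} {e : Fin n → F} (he0 : e ≠ 0)
    (he : hermForm n F q e e = 0) {p : ℕ} (hp : p.Prime) [CharP F p] {φ : F →+ ZMod p}
    (hφ : φ ≠ 0) {ω : Ω} (hω : Fixed hF e ω) {b : Fin n → F}
    (hb : b ∈ Dd (hF := hF) he φ ω) : 1 ≤ W (hF := hF) he φ Ω b := by
  classical
  rw [← orb_sum he0 he hp hφ hω, W]
  apply Finset.sum_le_sum_of_subset_of_nonneg
  · intro ω' hω'
    rw [Finset.mem_filter] at hω' ⊢
    exact ⟨Finset.mem_univ _, (fixed_orb he hω'.2).2 hω, by rw [Dd_orb he φ hω'.2]; exact hb⟩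
  · intro _ _ _
    positivity

theorem two_le_W {hF : Fintype.card F = q ^ 2} {e : Fin n → F} (he0 : e ≠ 0)
    (he : hermForm n F q e e = 0) {p : ℕ} (hp : p.Prime) [CharP F p] {φ : F →+ ZMod p}
    (hφ : φ ≠ 0) {ω ω' : Ω} (hω : Fixed hF e ω) (hω' : Fixed hF e ω') {b : Fin n → F}
    (hb : b ∈ Dd (hF := hF) he φ ω) (hb' : b ∈ Dd (hF := hF) he φ ω')
    (hne : ω' ∉ orb hF he ω) : 2 ≤ W (hF := hF) he φ Ω b := by
  classical
  have e1 := orb_sum (hF := hF) he0 he hp hφ hω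
  have e2 := orb_sum (hF := hF) he0 he hp hφ hω'
  have h2 : (2 : ℚ) = (∑ ω'' ∈ Finset.univ.filter (fun x => x ∈ orb hF he ω),
      (q : ℚ) ^ 2 / (dn (hF := hF) he φ ω'' : ℚ)) +
      ∑ ω'' ∈ Finset.univ.filter (fun x => x ∈ orb hF he ω'),
      (q : ℚ) ^ 2 / (dn (hF := hF) he φ ω'' : ℚ) := by
    rw [e1, e2]; norm_num
  rw [h2, W, ← Finset.sum_union]
  · apply Finset.sum_le_sum_of_subset_of_nonneg
    · intro x hx
      rw [Finset.mem_union, Finset.mem_filter, Finset.mem_filter] at hx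
      rw [Finset.mem_filter]
      refine ⟨Finset.mem_univ _, ?_⟩
      rcases hx with ⟨-, hx⟩ | ⟨-, hx⟩
      · exact ⟨(fixed_orb he hx).2 hω, by rw [Dd_orb he φ hx]; exact hb⟩
      · exact ⟨(fixed_orb he hx).2 hω', by rw [Dd_orb he φ hx]; exact hb'⟩
    · intro _ _ _
      positivity
  · rw [Finset.disjoint_left]
    intro x hx hx'
    rw [Finset.mem_filter] at hx hx'
    obtain ⟨-, y, hy⟩ := hx
    obtain ⟨-, y', hy'⟩ := hx'
    apply hne
    refine ⟨y'⁻¹ * y, ?_⟩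
    rw [map_mul, map_inv, mul_smul, ← hy, hy', inv_smul_smul]

open Classical in
/-- The points fixed by `Z_e`. -/
noncomputable def Ph (hF : Fintype.card F = q ^ 2) (e : Fin n → F) (Ω : Type*)
    [MulAction (SU n F q) Ω] [Fintype Ω] : Finset Ω :=
  Finset.univ.filter (fun ω : Ω => Fixed hF e ω)

theorem mem_Ph {hF : Fintype.card F = q ^ 2} {e : Fin n → F} {ω : Ω} :
    ω ∈ Ph hF e Ω ↔ Fixed hF e ω := by
  classical
  rw [Ph, Finset.mem_filter]
  simp

theorem sum_W {hF : Fintype.card F = q ^ 2} {e : Fin n → F}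
    (he : hermForm n F q e e = 0) {p : ℕ} (φ : F →+ ZMod p) :
    ∑ b : Fin n → F, W (hF := hF) he φ Ω b = (q : ℚ) ^ 2 * (Ph hF e Ω).card := by
  classical
  simp only [W]
  rw [Finset.sum_comm' (t' := Ph hF e Ω)
    (s' := fun ω => Finset.univ.filter (fun b => b ∈ Dd (hF := hF) he φ ω))]
  · have h1 : ∀ ω ∈ Ph hF e Ω, ∑ _b ∈ Finset.univ.filter
        (fun b => b ∈ Dd (hF := hF) he φ ω), (q : ℚ) ^ 2 / (dn (hF := hF) he φ ω : ℚ) =
        (q : ℚ) ^ 2 := by
      intro ω _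
      rw [Finset.sum_const, nsmul_eq_mul]
      have h2 : (Finset.univ.filter (fun b => b ∈ Dd (hF := hF) he φ ω)).card =
          dn (hF := hF) he φ ω := by
        rw [dn, Nat.card_eq_fintype_card, Fintype.card_subtype]
      rw [h2, mul_div_assoc']
      have hpos := dn_pos (hF := hF) he φ ω
      rw [mul_div_cancel_left₀ _ (by exact_mod_cast hpos.ne')]
    rw [Finset.sum_congr rfl h1, Finset.sum_const, nsmul_eq_mul, mul_comm]
  · intro b ω
    simp only [Finset.mem_univ, Finset.mem_filter, true_and, mem_Ph]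
    tauto

/-- Lower bound for the weight of a multiple of `e` when all duals are small. -/
theorem W_line {hF : Fintype.card F = q ^ 2} {e : Fin n → F}
    (he : hermForm n F q e e = 0) {p : ℕ} (φ : F →+ ZMod p)
    (hsmall : ∀ ω : Ω, Fixed hF e ω → dn (hF := hF) he φ ω ≤ q ^ 4) (a : F) :
    ((Ph hF e Ω).card : ℚ) / (q : ℚ) ^ 2 ≤ W (hF := hF) he φ Ω (a • e) := by
  classical
  have h2 := two_le hF
  have hq : (0 : ℚ) < q := by exact_mod_cast (by omega : 0 < q)
  have h1 : Finset.univ.filter (fun ω : Ω => Fixed hF e ω ∧ a • e ∈ Dd (hF := hF) he φ ω) =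
      Ph hF e Ω := by
    ext ω
    rw [Finset.mem_filter, mem_Ph]
    constructor
    · exact fun h => h.2.1
    · exact fun h => ⟨Finset.mem_univ _, h, smul_mem_Dd he φ ω a⟩
  rw [W, h1]
  have h3 : ∀ ω ∈ Ph hF e Ω, 1 / (q : ℚ) ^ 2 ≤ (q : ℚ) ^ 2 / (dn (hF := hF) he φ ω : ℚ) := by
    intro ω hω
    have h4 := hsmall ω (mem_Ph.1 hω)
    have hpos := dn_pos (hF := hF) he φ ω
    rw [div_le_div_iff₀ (by positivity) (by exact_mod_cast hpos), one_mul]
    have h5 : (dn (hF := hF) he φ ω : ℚ) ≤ (q : ℚ) ^ 4 := by exact_mod_cast h4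
    calc (dn (hF := hF) he φ ω : ℚ) ≤ (q : ℚ) ^ 4 := h5
      _ = _ := by ring
  calc ((Ph hF e Ω).card : ℚ) / (q : ℚ) ^ 2 = ∑ _ω ∈ Ph hF e Ω, 1 / (q : ℚ) ^ 2 := by
        rw [Finset.sum_const, nsmul_eq_mul]; ring
    _ ≤ _ := Finset.sum_le_sum h3

/-- Sum bound. -/
theorem bound_of_small {hF : Fintype.card F = q ^ 2} {e : Fin n → F} (he0 : e ≠ 0)
    (he : hermForm n F q e e = 0) {p : ℕ} (φ : F →+ ZMod p)
    (hsmall : ∀ ω : Ω, Fixed hF e ω → dn (hF := hF) he φ ω ≤ q ^ 4)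
    (S : Finset (Fin n → F)) (hS : ∀ b ∈ S, b ∉ Submodule.span F {e})
    (hS1 : ∀ b ∈ S, 1 ≤ W (hF := hF) he φ Ω b) :
    (S.card : ℚ) ≤ ((q : ℚ) ^ 2 - 1) * (Ph hF e Ω).card := by
  classical
  have h2 := two_le hF
  have hq : (0 : ℚ) < q := by exact_mod_cast (by omega : 0 < q)
  have h1 := sum_W (Ω := Ω) (hF := hF) he φ
  set L : Finset (Fin n → F) := Finset.univ.image (fun a : F => a • e) with hL
  have hLcard : L.card = q ^ 2 := by
    rw [hL, Finset.card_image_of_injective _ (smul_left_injective F he0), Finset.card_univ, hF]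
  have hdisj : Disjoint L S := by
    rw [Finset.disjoint_left]
    intro x hx hxS
    rw [hL, Finset.mem_image] at hx
    obtain ⟨a, -, rfl⟩ := hx
    exact hS _ hxS (Submodule.mem_span_singleton.2 ⟨a, rfl⟩)
  have h3 : ∑ b ∈ L ∪ S, W (hF := hF) he φ Ω b ≤ ∑ b : Fin n → F, W (hF := hF) he φ Ω b :=
    Finset.sum_le_sum_of_subset_of_nonneg (Finset.subset_univ _)
      (fun b _ _ => W_nonneg he φ b)
  rw [Finset.sum_union hdisj, h1] at h3
  have h4 : ((Ph hF e Ω).card : ℚ) ≤ ∑ b ∈ L, W (hF := hF) he φ Ω b := by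
    calc ((Ph hF e Ω).card : ℚ) = ∑ _b ∈ L, ((Ph hF e Ω).card : ℚ) / (q : ℚ) ^ 2 := by
          rw [Finset.sum_const, hLcard, nsmul_eq_mul]
          push_cast
          field_simp
      _ ≤ _ := by
        apply Finset.sum_le_sum
        intro b hb
        rw [hL, Finset.mem_image] at hb
        obtain ⟨a, -, rfl⟩ := hb
        exact W_line he φ hsmall a
  have h5 : (S.card : ℚ) ≤ ∑ b ∈ S, W (hF := hF) he φ Ω b := by
    calc (S.card : ℚ) = ∑ _b ∈ S, (1 : ℚ) := by rw [Finset.sum_const, nsmul_eq_mul, mul_one]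
      _ ≤ _ := Finset.sum_le_sum hS1
  linarith

/-- Sum bound without smallness. -/
theorem bound_general {hF : Fintype.card F = q ^ 2} {e : Fin n → F}
    (he : hermForm n F q e e = 0) {p : ℕ} (φ : F →+ ZMod p)
    (S : Finset (Fin n → F)) {c : ℚ} (hS1 : ∀ b ∈ S, c ≤ W (hF := hF) he φ Ω b) :
    c * (S.card : ℚ) ≤ (q : ℚ) ^ 2 * (Ph hF e Ω).card := by
  classical
  have h1 := sum_W (Ω := Ω) (hF := hF) he φ
  have h3 : ∑ b ∈ S, W (hF := hF) he φ Ω b ≤ ∑ b : Fin n → F, W (hF := hF) he φ Ω b :=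
    Finset.sum_le_sum_of_subset_of_nonneg (Finset.subset_univ _)
      (fun b _ _ => W_nonneg he φ b)
  rw [h1] at h3
  refine le_trans ?_ h3
  calc c * (S.card : ℚ) = ∑ _b ∈ S, c := by rw [Finset.sum_const, nsmul_eq_mul, mul_comm]
    _ ≤ _ := Finset.sum_le_sum hS1

end W

end Cfsg.Agent.H77.Step5
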