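import Mathlib
import Cfsg.Agent.H77.Step5

/-!
# The main bound
-/

set_option autoImplicit false

namespace Cfsg.Agent.H77.Step6

open Cfsg Cfsg.Agent.LieClassical.HermBasic Cfsg.Agent.LieClassical.HermSiegel
open Cfsg.Agent.H77.Geom Cfsg.Agent.H77.Heis Cfsg.Agent.H77.Iso Cfsg.Agent.H77.Key1
open Cfsg.Agent.H77.Act Cfsg.Agent.H77.Step1 Cfsg.Agent.H77.Step2 Cfsg.Agent.H77.Step4
open Cfsg.Agent.H77.Step5

variable {F : Type*} [Field F] [Fintype F] {q n : ℕ}

/-- A nonzero additive character. -/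
theorem exists_phi {p : ℕ} (hp : p.Prime) [CharP F p] : ∃ φ : F →+ ZMod p, φ ≠ 0 := by
  have := Fact.mk hp
  let _ := ZMod.algebra F p
  have h1 := (Module.forall_dual_apply_eq_zero_iff (ZMod p) (1 : F)).not.2 one_ne_zero
  push Not at h1
  obtain ⟨φ, hφ⟩ := h1
  refine ⟨φ.toAddMonoidHom, fun h => hφ ?_⟩
  exact congrArg (fun ψ : F →+ ZMod p => ψ 1) h

open Classical in
/-- The nonisotropic vectors of `e^⊥`. -/
noncomputable def NI (q : ℕ) (e : Fin n → F) : Finset (Fin n → F) :=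
  Finset.univ.filter (fun x => hermForm n F q x x ≠ 0 ∧ hermForm n F q x e = 0)

theorem mem_NI {e x : Fin n → F} :
    x ∈ NI q e ↔ hermForm n F q x x ≠ 0 ∧ hermForm n F q x e = 0 := by
  classical
  rw [NI, Finset.mem_filter]
  simp

theorem card_NI (hF : Fintype.card F = q ^ 2) (hn : 5 ≤ n) {e : Fin n → F} (he0 : e ≠ 0)
    (he : hermForm n F q e e = 0) :
    ((NI q e).card : ℤ) = (q - 1) *
      (q * ((q : ℤ) ^ (n - 2) * ((q : ℤ) ^ (n - 2) - (-1) ^ n))) := by
  classical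
  have h2 := two_le hF
  have hz := card_OC_zero hF hn he0 he
  -- `e^⊥` is a disjoint union
  have hp := card_perp_one (q := q) hF he0
  have hs := card_span_one hF he0
  set L : Finset (Fin n → F) := Finset.univ.filter (fun x => x ∈ Submodule.span F {e}) with hL
  have hLcard : L.card = q ^ 2 := by
    rw [← hs, Nat.card_eq_fintype_card, Fintype.card_subtype]
  set P : Finset (Fin n → F) := Finset.univ.filter (fun x => x ∈ perp q {e}) with hP
  have hPcard : P.card = q ^ (2 * (n - 1)) := by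
    rw [← hp, Nat.card_eq_fintype_card, Fintype.card_subtype]
  have hd1 : Disjoint L (OC q e 0) := by
    rw [Finset.disjoint_left]
    intro x hx hx'
    rw [hL, Finset.mem_filter] at hx
    exact (mem_OC.1 hx').2.2 hx.2
  have hd2 : Disjoint (L ∪ OC q e 0) (NI q e) := by
    rw [Finset.disjoint_left]
    intro x hx hx'
    rw [mem_NI] at hx'
    rw [Finset.mem_union, hL, Finset.mem_filter] at hx
    rcases hx with ⟨-, hx⟩ | hx
    · obtain ⟨a, rfl⟩ := Submodule.mem_span_singleton.1 hx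
      apply hx'.1
      rw [herm_smul_left, herm_smul_right, he, mul_zero, mul_zero]
    · exact hx'.1 (mem_OC.1 hx).1
  have hun : (L ∪ OC q e 0) ∪ NI q e = P := by
    ext x
    rw [Finset.mem_union, Finset.mem_union, hL, hP, Finset.mem_filter, Finset.mem_filter,
      mem_OC, mem_NI, mem_perp_singleton]
    constructor
    · rintro ((⟨-, hx⟩ | ⟨-, hx, -⟩) | ⟨-, hx⟩)
      · obtain ⟨a, rfl⟩ := Submodule.mem_span_singleton.1 hx
        exact ⟨Finset.mem_univ _, by rw [herm_smul_left, he, mul_zero]⟩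
      · exact ⟨Finset.mem_univ _, hx⟩
      · exact ⟨Finset.mem_univ _, hx⟩
    · rintro ⟨-, hx⟩
      by_cases h1 : x ∈ Submodule.span F {e}
      · exact Or.inl (Or.inl ⟨Finset.mem_univ _, h1⟩)
      · by_cases h3 : hermForm n F q x x = 0
        · exact Or.inl (Or.inr ⟨h3, hx, h1⟩)
        · exact Or.inr ⟨h3, hx⟩
  have hcard := congrArg Finset.card hun
  rw [Finset.card_union_of_disjoint hd2, Finset.card_union_of_disjoint hd1, hLcard, hPcard] at hcard
  have hcard' : ((q : ℤ) ^ 2 + (OC q e 0).card + (NI q e).card) = (q : ℤ) ^ (2 * (n - 1)) := by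
    exact_mod_cast hcard
  have h4 : (q : ℤ) ^ (2 * (n - 1)) = q ^ 2 * ((q : ℤ) ^ (n - 2)) ^ 2 := by
    rw [← pow_mul, ← pow_add]
    congr 1
    omega
  have h5 : ((-1 : ℤ) ^ n) * ((-1 : ℤ) ^ n) = 1 := by
    rw [← mul_pow]; simp
  rw [hz, h4] at hcard'
  linear_combination hcard' - (q : ℤ) ^ 2 * h5 * (-1)

theorem pow_three_le (h2 : 2 ≤ q) (hn : 5 ≤ n) : (q : ℤ) ^ 3 ≤ (q : ℤ) ^ (n - 2) := by
  exact_mod_cast Nat.pow_le_pow_right (by omega) (by omega)

theorem zero_le_ne {Q X ε : ℤ} (hQ : 2 ≤ Q) (hX3 : Q ^ 3 ≤ X) (hε : ε = 1 ∨ ε = -1) :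
    Q * ((X - ε) * (X + ε * Q)) ≤ (Q ^ 2 - 1) * (Q * (X * (X - ε))) := by
  have hX := Arith2.X8 hQ hX3
  have hQX : Q ≤ X := by
    nlinarith [mul_nonneg (by omega : (0 : ℤ) ≤ Q) (by nlinarith : (0 : ℤ) ≤ Q ^ 2 - 1)]
  have h1 : 0 ≤ X - ε := by rcases hε with rfl | rfl <;> omega
  have h2 : X + ε * Q ≤ (Q ^ 2 - 1) * X := by
    have : 3 ≤ Q ^ 2 - 1 := by nlinarith
    rcases hε with rfl | rfl <;> nlinarith
  have h3 : (X - ε) * (X + ε * Q) ≤ (Q ^ 2 - 1) * (X * (X - ε)) := by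
    nlinarith [mul_le_mul_of_nonneg_left h2 h1]
  nlinarith

section

variable {Ω : Type*} [MulAction (SU n F q) Ω] [Fintype Ω]

theorem W_eq (hF : Fintype.card F = q ^ 2) (hn : 5 ≤ n) {e : Fin n → F} (he0 : e ≠ 0)
    (he : hermForm n F q e e = 0) {p : ℕ} (φ : F →+ ZMod p) {x y : Fin n → F}
    (hx : hermForm n F q x e = 0) (hy : hermForm n F q y e = 0)
    (hxs : x ∉ Submodule.span F {e}) (hys : y ∉ Submodule.span F {e})
    (hxy : hermForm n F q x x = hermForm n F q y y) :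
    W (hF := hF) he φ Ω x = W (hF := hF) he φ Ω y := by
  obtain ⟨g, hg, hgx⟩ := exists_fix_map hF hn he0 hx hy hxs hys hxy
  rw [← hgx, ← W_map (Ω := Ω) he φ one_ne_zero (g := g) (by rw [one_smul]; exact hg) x, inv_one,
    one_smul]

omit [Fintype F] in
theorem NI_span {e : Fin n → F} (he : hermForm n F q e e = 0) {z : Fin n → F}
    (hz : hermForm n F q z z ≠ 0) : z ∉ Submodule.span F {e} := by
  intro h
  obtain ⟨a, rfl⟩ := Submodule.mem_span_singleton.1 h
  apply hz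
  rw [herm_smul_left, herm_smul_right, he, mul_zero, mul_zero]

theorem W_eq_ni (hF : Fintype.card F = q ^ 2) (hn : 5 ≤ n) {e : Fin n → F} (he0 : e ≠ 0)
    (he : hermForm n F q e e = 0) {p : ℕ} (φ : F →+ ZMod p) {x y : Fin n → F}
    (hx : x ∈ NI q e) (hy : y ∈ NI q e) :
    W (hF := hF) he φ Ω x = W (hF := hF) he φ Ω y := by
  have hx' := mem_NI.1 hx
  have hy' := mem_NI.1 hy
  obtain ⟨l, hl0, hl⟩ := exists_norm_eq_ne hF
    (c := hermForm n F q x x * (hermForm n F q y y)⁻¹) (by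
      rw [mul_pow, inv_pow, herm_self_pow hF, herm_self_pow hF])
      (mul_ne_zero hx'.1 (inv_ne_zero hy'.1))
  obtain ⟨g, hg⟩ := exists_map (q := q) hF (by omega) he0 he (smul_ne_zero hl0 he0)
    (by rw [herm_smul_left, herm_smul_right, he, mul_zero, mul_zero])
  rw [← W_map (Ω := Ω) he φ hl0 hg x]
  have h1 : hermForm n F q (l⁻¹ • act g x) (l⁻¹ • act g x) = hermForm n F q y y := by
    rw [herm_smul_left, herm_smul_right, herm_act, ← mul_assoc, inv_pow, ← mul_inv, hl, mul_inv,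
      inv_inv, mul_comm _ (hermForm n F q y y), mul_assoc, inv_mul_cancel₀ hx'.1, mul_one]
  have h2 : hermForm n F q (l⁻¹ • act g x) e = 0 := by
    have h3 : hermForm n F q (act g x) (l • e) = 0 := by rw [← hg, herm_act, hx'.2]
    rw [herm_smul_right] at h3
    rw [herm_smul_left, (mul_eq_zero.1 h3).resolve_left (pow_ne_zero _ hl0), mul_zero]
  exact W_eq hF hn he0 he φ h2 hy'.2 (NI_span he (by rw [h1]; exact hy'.1))
    (NI_span he hy'.1) h1

/-- A vector outside the line of `e` in some dual. -/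
theorem exists_mem_Dd [MulAction.IsPretransitive (SU n F q) Ω] [Nontrivial Ω]
    (hF : Fintype.card F = q ^ 2) (hn : 5 ≤ n)
    (hN : (Nat.card Ω : ℤ) * ((q : ℤ) ^ 2 - 1) < In q n) {e : Fin n → F} (he0 : e ≠ 0)
    (he : hermForm n F q e e = 0) {p : ℕ} (hp : p.Prime) [CharP F p] {φ : F →+ ZMod p}
    (hφ : φ ≠ 0) : ∃ (ω : Ω) (b : Fin n → F), Fixed hF e ω ∧ b ∈ Dd (hF := hF) he φ ω ∧
      b ∉ Submodule.span F {e} := by
  obtain ⟨ω, hω, x, hx⟩ := exists_moved (Ω := Ω) hF hn hN he0 he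
  refine ⟨ω, ?_⟩
  by_contra hcon
  push Not at hcon
  have h1 : dn (hF := hF) he φ ω ≤ q ^ 2 := by
    rw [← card_span_one hF he0, dn]
    exact Nat.card_le_card_of_injective
      (fun b => (⟨b.1, hcon b.1 hω b.2⟩ : Submodule.span F {e}))
      (fun a b hab => Subtype.ext (congrArg (fun z : Submodule.span F {e} => z.1) hab))
  have h2 := card_orb_dn (hF := hF) he0 he hp hφ hω
  have h3 : 2 ≤ Nat.card (orb hF he ω) := by
    have h4 : ({ω, rho hF e he x • ω} : Set Ω) ⊆ orb hF he ω := by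
      intro y hy
      rcases hy with rfl | hy
      · exact ⟨1, by rw [map_one, one_smul]⟩
      · exact ⟨x, hy⟩
    have h5 : Set.ncard ({ω, rho hF e he x • ω} : Set Ω) = 2 := Set.ncard_pair (Ne.symm hx)
    rw [← h5]
    exact Set.ncard_le_ncard h4 (Set.toFinite _)
  have h4 := q_pos hF
  nlinarith [Nat.mul_le_mul_right (q ^ 2) h3, pow_pos h4 2]

omit [Fintype Ω] in
theorem Dd_orth {hF : Fintype.card F = q ^ 2} {e : Fin n → F} {he : hermForm n F q e e = 0}
    {p : ℕ} {φ : F →+ ZMod p} {ω : Ω} {b : Fin n → F} (hb : b ∈ Dd (hF := hF) he φ ω) :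
    hermForm n F q b e = 0 := (mem_Dd.1 hb).1

/-- First case. -/
theorem case_one (hF : Fintype.card F = q ^ 2) (hn : 5 ≤ n) {e : Fin n → F} (he0 : e ≠ 0)
    (he : hermForm n F q e e = 0) {p : ℕ} (hp : p.Prime) [CharP F p] {φ : F →+ ZMod p}
    (hφ : φ ≠ 0) {ω : Ω} {b : Fin n → F} (hω : Fixed hF e ω)
    (hb : b ∈ Dd (hF := hF) he φ ω) (hbs : b ∉ Submodule.span F {e})
    (hbb : hermForm n F q b b = 0) :
    ((OC q e 0).card : ℚ) ≤ ((q : ℚ) ^ 2 - 1) * (Ph hF e Ω).card := by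
  classical
  by_contra hcon
  push Not at hcon
  have h2 := two_le hF
  have hq2 : (2 : ℚ) ≤ q := by exact_mod_cast h2
  have hf0 : (0 : ℚ) ≤ (Ph hF e Ω).card := by positivity
  have hOC : ∀ x ∈ OC q e 0, W (hF := hF) he φ Ω x = W (hF := hF) he φ Ω b := by
    intro x hx
    have hx' := mem_OC.1 hx
    exact W_eq hF hn he0 he φ hx'.2.1 (Dd_orth hb) hx'.2.2 hbs (hx'.1.trans hbb.symm)
  have hWb : 1 ≤ W (hF := hF) he φ Ω b := one_le_W he0 he hp hφ hω hb
  have hW1 : ∀ x ∈ OC q e 0, 1 ≤ W (hF := hF) he φ Ω x := fun x hx => by rw [hOC x hx]; exact hWb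
  -- weights less than two
  have hlt : W (hF := hF) he φ Ω b < 2 := by
    by_contra h3
    push Not at h3
    have h4 := bound_general (Ω := Ω) (hF := hF) he φ (OC q e 0) (c := 2)
      (fun x hx => by rw [hOC x hx]; exact h3)
    have hq4 : (4 : ℚ) ≤ (q : ℚ) ^ 2 := by nlinarith
    nlinarith [mul_nonneg hf0 (sub_nonneg.2 hq4)]
  -- only isotropic vectors
  have hiso : ∀ ω' : Ω, Fixed hF e ω' → ∀ x ∈ Dd (hF := hF) he φ ω', hermForm n F q x x = 0 := by
    intro ω' hω' x hx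
    by_contra hxx
    set c := hermForm n F q x x with hc
    have hxc : x ∈ OC q e c := mem_OC.2 ⟨rfl, Dd_orth hx, NI_span he hxx⟩
    have hWx : 1 ≤ W (hF := hF) he φ Ω x := one_le_W he0 he hp hφ hω' hx
    have hdisj : Disjoint (OC q e 0) (OC q e c) := by
      rw [Finset.disjoint_left]
      intro y hy hy'
      exact hxx ((mem_OC.1 hy').1.symm.trans (mem_OC.1 hy).1)
    have h4 := bound_general (Ω := Ω) (hF := hF) he φ (OC q e 0 ∪ OC q e c) (c := 1) (by
      intro y hy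
      rw [Finset.mem_union] at hy
      rcases hy with hy | hy
      · exact hW1 y hy
      · have hy' := mem_OC.1 hy
        rw [W_eq hF hn he0 he φ hy'.2.1 (Dd_orth hx) hy'.2.2 (NI_span he hxx) hy'.1]
        exact hWx)
    rw [Finset.card_union_of_disjoint hdisj, one_mul] at h4
    have h5 := card_OC_ne hF hn he0 he (herm_self_pow hF x) hxx
    have h6 := card_OC_zero hF hn he0 he
    have h7 : (((OC q e 0).card : ℤ) : ℚ) ≤ ((((q : ℤ) ^ 2 - 1) * (OC q e c).card : ℤ) : ℚ) := by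
      rw [h5, h6]
      exact_mod_cast zero_le_ne (by exact_mod_cast h2) (pow_three_le h2 hn) (neg_one_pow_eq_or ℤ n)
    push_cast at h4 h7
    have hq4 : (4 : ℚ) ≤ (q : ℚ) ^ 2 := by nlinarith
    nlinarith [mul_le_mul_of_nonneg_left h4 (by linarith : (0 : ℚ) ≤ (q : ℚ) ^ 2 - 1),
      mul_lt_mul_of_pos_left hcon (by linarith : (0 : ℚ) < (q : ℚ) ^ 2)]
  -- invariance
  have hinv : ∀ ω' : Ω, Fixed hF e ω' → ∀ y ∈ Dd (hF := hF) he φ ω', y ∉ Submodule.span F {e} →
      ∀ g : SU n F q, act g e = e → act g y = y → ∀ z ∈ Dd (hF := hF) he φ ω',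
      act g z ∈ Dd (hF := hF) he φ ω' := by
    intro ω' hω' y hy hys g hge hgy z hz
    have hge' : act g e = (1 : F) • e := by rw [one_smul]; exact hge
    have hmap : ∀ u ∈ Dd (hF := hF) he φ ω', act g u ∈ Dd (hF := hF) he φ (g • ω') := by
      intro u hu
      have := Dd_map (hF := hF) he φ ω' one_ne_zero hge' hu
      rwa [inv_one, one_smul] at this
    have hyg : y ∈ Dd (hF := hF) he φ (g • ω') := by
      have := hmap y hy
      rwa [hgy] at this
    have hW : W (hF := hF) he φ Ω y < 2 := by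
      rw [W_eq hF hn he0 he φ (Dd_orth hy) (Dd_orth hb) hys hbs
        ((hiso ω' hω' y hy).trans hbb.symm)]
      exact hlt
    have horb : g • ω' ∈ orb hF he ω' := by
      by_contra h
      exact absurd (two_le_W he0 he hp hφ hω' ((fixed_map one_ne_zero hge').2 hω') hy hyg h)
        (not_le.2 hW)
    rw [← Dd_orb he φ horb]
    exact hmap z hz
  have hsmall : ∀ ω' : Ω, Fixed hF e ω' → dn (hF := hF) he φ ω' ≤ q ^ 4 := by
    intro ω' hω'
    by_cases h : ∃ y ∈ Dd (hF := hF) he φ ω', y ∉ Submodule.span F {e}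
    · obtain ⟨y, hy, hys⟩ := h
      have h3 := GeomD.le_span hF hn he0 (D := Dd (hF := hF) he φ ω')
        (fun x hx => Dd_orth hx) (hiso ω' hω') (hinv ω' hω') hy hys
      rw [← card_span_two hF he0 hys, dn]
      exact Nat.card_le_card_of_injective
        (fun u => (⟨u.1, h3 u.1 u.2⟩ : Submodule.span F {e, y}))
        (fun a c hac => Subtype.ext (congrArg (fun z : Submodule.span F {e, y} => z.1) hac))
    · push Not at h
      have h1 : dn (hF := hF) he φ ω' ≤ q ^ 2 := by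
        rw [← card_span_one hF he0, dn]
        exact Nat.card_le_card_of_injective
          (fun u => (⟨u.1, h u.1 u.2⟩ : Submodule.span F {e}))
          (fun a c hac => Subtype.ext (congrArg (fun z : Submodule.span F {e} => z.1) hac))
      exact h1.trans (Nat.pow_le_pow_right (by omega) (by omega))
  have h7 := bound_of_small (Ω := Ω) (hF := hF) he0 he φ hsmall (OC q e 0)
    (fun x hx => (mem_OC.1 hx).2.2) hW1
  exact absurd h7 (not_le.2 hcon)

/-- Second case. -/
theorem case_two (hF : Fintype.card F = q ^ 2) (hn : 5 ≤ n) {e : Fin n → F} (he0 : e ≠ 0)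
    (he : hermForm n F q e e = 0) {p : ℕ} (hp : p.Prime) [CharP F p] {φ : F →+ ZMod p}
    (hφ : φ ≠ 0) {ω : Ω} {b : Fin n → F} (hω : Fixed hF e ω)
    (hb : b ∈ Dd (hF := hF) he φ ω) (hbb : hermForm n F q b b ≠ 0)
    (hno : ∀ ω' : Ω, Fixed hF e ω' → ∀ x ∈ Dd (hF := hF) he φ ω', hermForm n F q x x = 0 →
      x ∈ Submodule.span F {e}) :
    ((NI q e).card : ℚ) ≤ ((q : ℚ) ^ 2 - 1) * (Ph hF e Ω).card := by
  classical
  have h2 := two_le hF
  have hbN : b ∈ NI q e := mem_NI.2 ⟨hbb, Dd_orth hb⟩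
  have hWb : 1 ≤ W (hF := hF) he φ Ω b := one_le_W he0 he hp hφ hω hb
  apply bound_of_small (Ω := Ω) (hF := hF) he0 he φ
  · intro ω' hω'
    by_contra hlt
    push Not at hlt
    obtain ⟨w, hw, hws, hww⟩ := CW.exists_isotropic_not_mem hF (Dd (hF := hF) he φ ω')
      (Submodule.span F {e}).toAddSubgroup (by
        intro x hx
        obtain ⟨a, rfl⟩ := Submodule.mem_span_singleton.1 hx
        exact smul_mem_Dd he φ ω' a) (by
        have h3 : Nat.card (Submodule.span F {e}).toAddSubgroup = q ^ 2 := card_span_one hF he0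
        rw [h3, ← pow_add]
        exact hlt)
    exact hws (hno ω' hω' w hw hww)
  · intro x hx
    exact NI_span he (mem_NI.1 hx).1
  · intro x hx
    rw [W_eq_ni hF hn he0 he φ hx hbN]
    exact hWb

end

end Cfsg.Agent.H77.Step6
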