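import Cfsg.Agent.H378.TwRows

/-!
# Cyclic subgroups of the maximal tori of the exceptional groups: more certificates (helper77)
-/

set_option autoImplicit false

namespace Cfsg.Agent.H77.E4Cert2

open Cfsg.Agent.H129.WData Cfsg.Agent.H378.AdjTab Cfsg.Agent.H493.PGTorus

/-! ### `F₄` : `x⁴ + 1` -/

/-- the partial products -/
def LF8 : List (Fin 4 × Mat 4) := [
    (2, ![![0, 1, 1, 1],
        ![-1, -2, -2, -1],
        ![2, 2, 2, 1],
        ![0, 2, 1, 0]]),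
    (1, ![![0, 1, 1, 1],
        ![-1, -2, -1, -1],
        ![2, 2, 1, 1],
        ![0, 2, 1, 0]]),
    (3, ![![0, 1, 1, 1],
        ![-1, -1, -1, -1],
        ![2, 2, 1, 1],
        ![0, 0, 1, 0]]),
    (0, ![![0, 1, 1, 0],
        ![-1, -1, -1, 0],
        ![2, 2, 1, 0],
        ![0, 0, 1, 1]]),
    (2, ![![1, 1, 1, 0],
        ![0, -1, -1, 0],
        ![0, 2, 1, 0],
        ![0, 0, 1, 1]]),
    (1, ![![1, 1, 0, 0],
        ![0, -1, 0, 0],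
        ![0, 2, 1, 0],
        ![0, 0, 0, 1]])]

/-- the coefficients -/
def cF8 : Fin (3 + 1) → ℤ := ![1, 0, 0, 0]

/-- the eigenvector -/
def VF8 : Fin (3 + 1) → Fin 4 → ℤ := ![![0, 1, 1, 0],
      ![-1, -2, -1, 0],
      ![0, -1, -1, -1],
      ![-1, 0, 0, 0]]

/-- the functional -/
def UF8 : Fin 4 → ℤ := ![0, -1, 2, -1]

theorem chainF8 : ChainOK H378.AdjF4.Am LF8 := by decide +kernel

theorem eigF8 : EigOK (hd LF8) cF8 VF8 UF8 := by decide +kernel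

/-! ### `²E₆` : `x⁵ + 1` -/

/-- the partial products -/
def LT10 : List (Fin 6 × Mat 6) := [
    (0, ![![0, 0, 1, 1, 0, 0],
        ![0, 1, 0, 1, 0, 0],
        ![-1, 0, -1, -1, 0, 0],
        ![1, 0, 1, 0, 0, 0],
        ![0, 0, 0, 1, 1, 0],
        ![0, 0, 0, 0, 0, 1]]),
    (3, ![![1, 0, 1, 1, 0, 0],
        ![0, 1, 0, 1, 0, 0],
        ![0, 0, -1, -1, 0, 0],
        ![0, 0, 1, 0, 0, 0],
        ![0, 0, 0, 1, 1, 0],
        ![0, 0, 0, 0, 0, 1]]),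
    (2, ![![1, 0, 1, 0, 0, 0],
        ![0, 1, 0, 0, 0, 0],
        ![0, 0, -1, 0, 0, 0],
        ![0, 0, 1, 1, 0, 0],
        ![0, 0, 0, 0, 1, 0],
        ![0, 0, 0, 0, 0, 1]])]

/-- the coefficients -/
def cT10 : Fin (4 + 1) → ℤ := ![1, 0, 0, 0, 0]

/-- the eigenvector -/
def VT10 : Fin (4 + 1) → Fin 6 → ℤ := ![![1, 0, -1, 1, -1, 0],
      ![1, 0, 0, 0, -1, 1],
      ![0, -1, 0, 1, -1, 1],
      ![0, -1, 1, 0, 0, 0],
      ![0, -1, 0, 0, 1, 0]]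

/-- the functional -/
def UT10 : Fin 6 → ℤ := ![1, 1, 1, 2, 1, 0]

/-- the twisted matrix -/
def ThT10 : Mat 6 := ![![0, 0, 0, 0, 0, 1],
      ![0, 1, 0, 1, 0, 0],
      ![0, 0, 0, 1, 1, 0],
      ![1, 0, 1, 0, 0, 0],
      ![-1, 0, -1, -1, 0, 0],
      ![0, 0, 1, 1, 0, 0]]

theorem chainT10 : ChainOK H493.PGE6T.Am LT10 := by decide +kernel

theorem thT10 : ∀ j, hd LT10 (H493.TwE6Alg.pi j) = ThT10 j := by decide +kernel

theorem eigT10 : EigOK (fun i j => ThT10 j i) cT10 VT10 UT10 := by decide +kernel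

end Cfsg.Agent.H77.E4Cert2
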