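import Cfsg.Agent.H77.E4Cls
import Cfsg.Agent.H65.UnivE
import Cfsg.Agent.S1077
import Cfsg.Agent.S1054
import Cfsg.Agent.S1064
import Cfsg.Agent.Lib.Involves
import Cfsg.Agent.ChevalleyStructure.StEmbed

/-!
# `E₇` over fields of odd order (helper77)

`E₆(q)` is a section of `E₇(q)` (the proof is a copy of `H720.RowSeven.involves67`, for a small import closure).
-/

set_option autoImplicit false
set_option linter.unusedSectionVars false

namespace Cfsg.Agent.H77.E4Seven

open Cfsg Cfsg.Lie Cfsg.Lie.ChevalleyDatum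
open Cfsg.Agent.ChevalleyStructure Cfsg.Agent.ChevalleyStructure.Elts Cfsg.Agent.ChevalleyStructure.StEmbed
open Cfsg.Agent.ChevalleyStructure.CoxeterGeomTypes Cfsg.Agent.Nodes.RGDChev
open Cfsg.Agent.BpExc.RowsUntw Cfsg.Agent.BpExc.FamInst Cfsg.Agent.BpExc.FamExt
open Cfsg.Agent.H77.E4Poly Cfsg.Agent.H77.E4Tor Cfsg.Agent.H378.ExcAdj Cfsg.Agent.H378.ExcNear Cfsg.Agent.H77.E4Cls

universe u

theorem involves67 (F : Type u) [Field F] :
    Cfsg.Agent.Lib.Involves.Involves ↥(chevE7.group F) ↥(chevE6.group F) := by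
  obtain ⟨θ6, hs6, hk6, he6⟩ := Cfsg.Agent.S1077.result (K := F) chevE6 (by simp)
  obtain ⟨θ7, hs7, hk7, he7⟩ := Cfsg.Agent.S1077.result (K := F) chevE7 (by simp)
  have hsimp := (Cfsg.Agent.S1054.result (F := F) chevE6 (by simp)).1
  have hperf := Cfsg.Agent.H65.UnivE.Typ.perfect Cfsg.Agent.H65.UnivE.typE6 F
  set f : chevE6.SteinbergGroup F →* ↥(chevE7.group F) := θ7.comp (hom emb67 F) with hf
  refine Cfsg.Agent.Lib.Involves.of_ker_le f θ6 hs6 ?_
  have hn : (f.ker.map θ6).Normal := Subgroup.Normal.map inferInstance θ6 hs6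
  rcases hn.eq_bot_or_eq_top with h | h
  · intro x hx
    have h1 : θ6 x ∈ f.ker.map θ6 := ⟨x, hx, rfl⟩
    rw [h] at h1
    exact h1
  · exfalso
    have hc : ∀ x y : chevE6.SteinbergGroup F, f x * f y = f y * f x := by
      intro x y
      have h1 : θ6 x ∈ f.ker.map θ6 := by rw [h]; exact Subgroup.mem_top _
      obtain ⟨n, hn, e⟩ := h1
      have h2 : n⁻¹ * x ∈ θ6.ker := by rw [MonoidHom.mem_ker, map_mul, map_inv, e, inv_mul_cancel]
      rw [hk6, Subgroup.mem_center_iff] at h2
      have h3 := congrArg f (h2 y)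
      have h4 : f n = 1 := hn
      simp only [map_mul, map_inv, h4, inv_one, one_mul] at h3
      exact h3.symm
    have h1 : commutator (chevE6.SteinbergGroup F) ≤ f.ker := by
      rw [commutator_def, Subgroup.commutator_le]
      intro x _ y _
      rw [MonoidHom.mem_ker, map_commutatorElement, commutatorElement_eq_one_iff_mul_comm]
      exact hc x y
    rw [hperf] at h1
    have h0 : (0 : ℕ) < chevE6.nroots := by decide +kernel
    have h7 : ι67 0 < chevE7.nroots := by decide +kernel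
    have h2 : f (chevE6.stGen F 0 1) = 1 := h1 (Subgroup.mem_top _)
    rw [hf, MonoidHom.comp_apply, hom_stGen emb67 h0] at h2
    have h3 := he7 (ι67 0) 1 h7
    rw [h2] at h3
    have hD : InList chevE7 := by simp
    have h4 : xG (F := F) hD (ι67 0) 1 = 1 := Units.ext h3.symm
    exact one_ne_zero ((xG_eq_one_iff hD h7 _).1 h4)

theorem tor_E7 (F : Type u) [Field F] [Finite F] : ∃ x : ↥(chevE7.group F),
    (Nat.card F ^ 4 - 1) * (Nat.card F ^ 2 - Nat.card F + 1) ∣ orderOf x * 3 := by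
  obtain ⟨y, hy⟩ := tor_E6 F
  obtain ⟨H, f, hf⟩ := (Cfsg.Agent.Lib.Involves.involves_def).1 (involves67 F)
  obtain ⟨h, rfl⟩ := hf y
  refine ⟨h.1, hy.trans (Nat.mul_dvd_mul_right ?_ _)⟩
  rw [Subgroup.orderOf_coe]
  exact orderOf_map_dvd f h

theorem exs_E7 (F : Type u) [Field F] [Finite F] (ho : Odd (Nat.card F)) :
    ExS ↥(chevE7.group F) ((Nat.card F ^ 4 - 1) * (Nat.card F ^ 2 - Nat.card F + 1)) 3 (Nat.card F)
      [7, 9, 12, 14, 18] := by
  have : Fintype F := Fintype.ofFinite F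
  have hc := Cfsg.Agent.S1064.result (F := F) rfl
  rw [← Nat.card_eq_fintype_card] at hc
  have h3 := card_ge ho
  have hI : ∀ m ∈ [7, 9, 12, 14, 18], 0 < m ∧ 7 + 1 < m + 1 + 1 ∧ ∀ m' ∈ [7, 9, 12, 14, 18], m ≠ m' →
      7 < m.totient + m'.totient := by decide
  refine ⟨h3, ho, pp_card F, tor_E7 F, fun x hx h2 => ?_⟩
  obtain ⟨m, hm, hall⟩ := allOd (q := Nat.card F) (P := fun m => m ∈ [7, 9, 12, 14, 18]) hx
    (fun r hr hrd => by
      obtain ⟨h3, h4⟩ := h2 r hr hrd
      have := ((adj_E7 F hr (hrd.trans (orderOf_dvd_natCard x))).resolve_left h3).resolve_left h4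
      simpa using this) (by
    rintro r s hr hs - - hmr hms hne ⟨z, hz⟩
    obtain ⟨h1, -, h3⟩ := hI _ hmr
    obtain ⟨h1', -, -⟩ := hI _ hms
    have key : ∀ t : ℕ, t.Prime → orderOf ((Nat.card F : ℕ) : ZMod t) ∈ [7, 9, 12, 14, 18] →
        7 + 1 < t ∧ ¬ t ∣ Nat.card F := by
      intro t ht hmt
      obtain ⟨k1, -, -⟩ := hI _ hmt
      obtain ⟨k2, k3⟩ := lt_of_od (q := Nat.card F) (m := orderOf ((Nat.card F : ℕ) : ZMod t)) ht rfl k1
      have k4 : 7 ≤ orderOf ((Nat.card F : ℕ) : ZMod t) := by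
        simp only [List.mem_cons, List.not_mem_nil, or_false] at hmt
        omega
      have k5 : t ≠ 8 := by rintro rfl; revert ht; norm_num
      refine ⟨by omega, k3⟩
    exact H169.TorPair.untw_no_pair e7T (Nat.card_eq_fintype_card.symm) hr hs (key r hr hmr).2 (key s hs hms).2
      (key r hr hmr).1 (key s hs hms).1 hne (h3 _ hms hne) z hz)
  refine ⟨m, hm, ?_⟩
  have hB : orderOf x ∣ Nat.card ↥(chevE7.group F) := orderOf_dvd_natCard x
  generalize orderOf x = B at *
  have hB := hB.mul_left (Nat.gcd 2 (Nat.card F - 1))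
  rw [hc] at hB
  have hB' := Int.natCast_dvd_natCast.2 hB
  simp only [Nat.cast_mul, Nat.cast_pow, cast_pred (show 1 ≤ Nat.card F by omega)] at hB'
  simp only [List.mem_cons, List.not_mem_nil, or_false] at hm
  rcases hm with rfl | rfl | rfl | rfl | rfl
  · exact fin_dvd hall 14 63 [2, 6, 8, 10, 12, 18] (by decide) (by decide) (by omega) (by decide) hB'
        (by simp only [List.map_cons, List.map_nil, List.prod_cons, List.prod_nil]; ring)
  · exact fin_dvd hall 18 63 [2, 6, 8, 10, 12, 14] (by decide) (by decide) (by omega) (by decide) hB'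
        (by simp only [List.map_cons, List.map_nil, List.prod_cons, List.prod_nil]; ring)
  · exact fin_dvd hall 12 63 [2, 6, 8, 10, 14, 18] (by decide) (by decide) (by omega) (by decide) hB'
        (by simp only [List.map_cons, List.map_nil, List.prod_cons, List.prod_nil]; ring)
  · exact fin_dvd hall 14 63 [2, 6, 8, 10, 12, 18] (by decide) (by decide) (by omega) (by decide) hB'
        (by simp only [List.map_cons, List.map_nil, List.prod_cons, List.prod_nil]; ring)
  · exact fin_dvd hall 18 63 [2, 6, 8, 10, 12, 14] (by decide) (by decide) (by omega) (by decide) hB'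
        (by simp only [List.map_cons, List.map_nil, List.prod_cons, List.prod_nil]; ring)

end Cfsg.Agent.H77.E4Seven
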