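import Cfsg.Agent.H378.CycTab

/-!
# Divisors of the orders of the exceptional groups all of whose primes have the same class (helper77)

* `Pn m u` : the values of the cyclotomic polynomials used;
* `AllOd u B m` : `u` has order `m` modulo all primes dividing `B`;
* `AllOd.dvd_*` : `B ∣ Pn m u`.
-/

set_option autoImplicit false

namespace Cfsg.Agent.H77.E4Poly

/-- values of the cyclotomic polynomials `Φ_m` -/
def Pz : ℕ → ℤ → ℤ
  | 3, u => u ^ 2 + u + 1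
  | 6, u => u ^ 2 - u + 1
  | 7, u => u ^ 6 + u ^ 5 + u ^ 4 + u ^ 3 + u ^ 2 + u + 1
  | 8, u => u ^ 4 + 1
  | 9, u => u ^ 6 + u ^ 3 + 1
  | 12, u => u ^ 4 - u ^ 2 + 1
  | 14, u => u ^ 6 - u ^ 5 + u ^ 4 - u ^ 3 + u ^ 2 - u + 1
  | 15, u => u ^ 8 - u ^ 7 + u ^ 5 - u ^ 4 + u ^ 3 - u + 1
  | 18, u => u ^ 6 - u ^ 3 + 1
  | 20, u => u ^ 8 - u ^ 6 + u ^ 4 - u ^ 2 + 1
  | 24, u => u ^ 8 - u ^ 4 + 1
  | 30, u => u ^ 8 + u ^ 7 - u ^ 5 - u ^ 4 - u ^ 3 + u + 1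
  | _, _ => 1

/-- values of the cyclotomic polynomials `Φ_m`, natural numbers -/
def Pn : ℕ → ℕ → ℕ
  | 3, u => u ^ 2 + u + 1
  | 6, u => u ^ 2 - u + 1
  | 7, u => u ^ 6 + u ^ 5 + u ^ 4 + u ^ 3 + u ^ 2 + u + 1
  | 8, u => u ^ 4 + 1
  | 9, u => u ^ 6 + u ^ 3 + 1
  | 12, u => u ^ 4 - u ^ 2 + 1
  | 14, u => u ^ 6 - u ^ 5 + u ^ 4 - u ^ 3 + u ^ 2 - u + 1
  | 15, u => u ^ 8 - u ^ 7 + u ^ 5 - u ^ 4 + u ^ 3 - u + 1
  | 18, u => u ^ 6 - u ^ 3 + 1
  | 20, u => u ^ 8 - u ^ 6 + u ^ 4 - u ^ 2 + 1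
  | 24, u => u ^ 8 - u ^ 4 + 1
  | 30, u => u ^ 8 + u ^ 7 - (u ^ 5 + u ^ 4 + u ^ 3) + u + 1
  | _, _ => 1

theorem cast_Pn {u : ℕ} (hu : 2 ≤ u) (m : ℕ) : ((Pn m u : ℕ) : ℤ) = Pz m (u : ℤ) := by
  have hp : ∀ a b : ℕ, a ≤ b → u ^ a ≤ u ^ b := fun a b h => Nat.pow_le_pow_right (by omega) h
  have h1 : u ≤ u ^ 2 := Nat.le_self_pow (by norm_num) _
  unfold Pn Pz
  split
  · push_cast; ring
  · rw [Nat.cast_add, Nat.cast_sub h1]; push_cast; ring
  · push_cast; ring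
  · push_cast; ring
  · push_cast; ring
  · rw [Nat.cast_add, Nat.cast_sub (hp 2 4 (by norm_num))]; push_cast; ring
  · have e1 := hp 5 6 (by norm_num)
    have e2 := hp 3 4 (by norm_num)
    rw [Nat.cast_add, Nat.cast_sub (by omega), Nat.cast_add, Nat.cast_sub (by omega), Nat.cast_add, Nat.cast_sub e1]
    push_cast; ring
  · have e1 := hp 7 8 (by norm_num)
    have e2 := hp 4 5 (by norm_num)
    have e3 := h1.trans (hp 2 3 (by norm_num))
    rw [Nat.cast_add, Nat.cast_sub (by omega), Nat.cast_add, Nat.cast_sub (by omega), Nat.cast_add, Nat.cast_sub e1]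
    push_cast; ring
  · rw [Nat.cast_add, Nat.cast_sub (hp 3 6 (by norm_num))]; push_cast; ring
  · have e1 := hp 6 8 (by norm_num)
    have e2 := hp 2 4 (by norm_num)
    rw [Nat.cast_add, Nat.cast_sub (by omega), Nat.cast_add, Nat.cast_sub e1]
    push_cast; ring
  · rw [Nat.cast_add, Nat.cast_sub (hp 4 8 (by norm_num))]; push_cast; ring
  · have e1 := hp 5 7 (by norm_num)
    have e2 : u ^ 4 + u ^ 3 ≤ u ^ 8 := by
      have : u ^ 8 = u ^ 4 * u ^ 4 := by ring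
      have e3 := hp 3 4 (by norm_num)
      have e4 : 2 ^ 4 ≤ u ^ 4 := Nat.pow_le_pow_left hu 4
      nlinarith
    rw [Nat.cast_add, Nat.cast_add, Nat.cast_sub (by omega)]
    push_cast; ring
  · simp

/-- `u` has order `m` modulo all primes dividing `B` -/
def AllOd (u B m : ℕ) : Prop := ∀ r : ℕ, r.Prime → r ∣ B → orderOf (u : ZMod r) = m

section

variable {u B m : ℕ} (h : AllOd u B m)

include h

theorem AllOd.cop_int (hm : m ≠ 0) {N : ℤ} {k : ℕ} (hk : ¬ m ∣ k) (hN : N ∣ (u : ℤ) ^ k - 1) :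
    IsCoprime (B : ℤ) N := by
  rw [Int.isCoprime_iff_gcd_eq_one]
  by_contra hg
  obtain ⟨r, hr, hd⟩ := Nat.exists_prime_and_dvd hg
  have h1 : r ∣ B := by
    have := hd.trans (Nat.gcd_dvd_left _ _)
    simpa using this
  have h2 : (r : ℤ) ∣ N := Int.natCast_dvd.2 (hd.trans (Nat.gcd_dvd_right _ _))
  have h3 := h r hr h1
  have h4 := (H378.CycTab.dvd_iff k).1 (h2.trans hN)
  rw [h3] at h4
  exact hk h4

theorem AllOd.cop_u (hm : m ≠ 0) (N : ℕ) : IsCoprime (B : ℤ) ((u : ℤ) ^ N) := by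
  apply IsCoprime.pow_right
  rw [Int.isCoprime_iff_gcd_eq_one]
  by_contra hg
  obtain ⟨r, hr, hd⟩ := Nat.exists_prime_and_dvd hg
  have h1 : r ∣ B := by
    have := hd.trans (Nat.gcd_dvd_left _ _)
    simpa using this
  have h2 : r ∣ u := by
    have := hd.trans (Nat.gcd_dvd_right _ _)
    simpa using this
  have h3 := h r hr h1
  have : Fact r.Prime := ⟨hr⟩
  rw [(ZMod.natCast_eq_zero_iff u r).2 h2, orderOf_zero] at h3
  exact hm h3.symm

/-- powers plus one -/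
theorem AllOd.cop_plus (hm : m ≠ 0) {k : ℕ} (hk : ¬ m ∣ 2 * k) : IsCoprime (B : ℤ) ((u : ℤ) ^ k + 1) :=
  h.cop_int hm hk ⟨(u : ℤ) ^ k - 1, by ring⟩

theorem AllOd.cop_minus (hm : m ≠ 0) {k : ℕ} (hk : ¬ m ∣ k) : IsCoprime (B : ℤ) ((u : ℤ) ^ k - 1) :=
  h.cop_int hm hk dvd_rfl

/-- the other sign -/
theorem AllOd.cop_plus_of (hm : m ≠ 0) (hm1 : m ≠ 1) {k : ℕ} (hk : m ∣ k) : IsCoprime (B : ℤ) ((u : ℤ) ^ k + 1) := by
  rw [Int.isCoprime_iff_gcd_eq_one]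
  by_contra hg
  obtain ⟨r, hr, hd⟩ := Nat.exists_prime_and_dvd hg
  have h1 : r ∣ B := by
    have := hd.trans (Nat.gcd_dvd_left _ _)
    simpa using this
  have h2 : (r : ℤ) ∣ (u : ℤ) ^ k + 1 := Int.natCast_dvd.2 (hd.trans (Nat.gcd_dvd_right _ _))
  have h3 := h r hr h1
  have h4 : (r : ℤ) ∣ (u : ℤ) ^ k - 1 := (H378.CycTab.dvd_iff k).2 (by rw [h3]; exact hk)
  have h5 : (r : ℤ) ∣ 2 := by
    have := dvd_sub h2 h4
    ring_nf at this
    exact this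
  have h6 : r = 2 := (Nat.prime_dvd_prime_iff_eq hr Nat.prime_two).1 (by exact_mod_cast h5)
  subst h6
  have h7 : ∀ x : ZMod 2, orderOf x = 0 ∨ orderOf x = 1 := by
    intro x
    fin_cases x
    · exact Or.inl (orderOf_zero _)
    · exact Or.inr orderOf_one
  rcases h7 (u : ZMod 2) with h8 | h8 <;> omega

end

theorem AllOd.dvd_of {u B m : ℕ} (h : AllOd u B m) {k : ℕ} (hu : 2 ≤ u)
    (hm : (m = 3 ∧ k = 6) ∨ (m = 6 ∧ k = 6) ∨ (m = 7 ∧ k = 14) ∨ (m = 8 ∧ k = 8) ∨ (m = 9 ∧ k = 18) ∨ (m = 9 ∧ k = 9) ∨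
      (m = 12 ∧ k = 12) ∨ (m = 14 ∧ k = 14) ∨ (m = 15 ∧ k = 30) ∨ (m = 18 ∧ k = 18) ∨ (m = 20 ∧ k = 20) ∨
      (m = 24 ∧ k = 24) ∨ (m = 30 ∧ k = 30)) (hd : (B : ℤ) ∣ (u : ℤ) ^ k - 1) : B ∣ Pn m u := by
  rw [← Int.natCast_dvd_natCast, cast_Pn hu]
  generalize hv : (u : ℤ) = v at *
  rcases hm with ⟨rfl, rfl⟩ | ⟨rfl, rfl⟩ | ⟨rfl, rfl⟩ | ⟨rfl, rfl⟩ | ⟨rfl, rfl⟩ | ⟨rfl, rfl⟩ | ⟨rfl, rfl⟩ | ⟨rfl, rfl⟩ |
    ⟨rfl, rfl⟩ | ⟨rfl, rfl⟩ | ⟨rfl, rfl⟩ | ⟨rfl, rfl⟩ | ⟨rfl, rfl⟩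
  · -- 3
    have c1 := h.cop_plus_of (by norm_num) (by norm_num) (k := 3) (by norm_num)
    have c2 := h.cop_minus (by norm_num) (k := 1) (by norm_num)
    rw [hv] at c1 c2
    refine (c1.mul_right c2).dvd_of_dvd_mul_left (hd.trans (dvd_of_eq ?_))
    show _ = _ * (v ^ 2 + v + 1); ring
  · -- 6
    have c1 := h.cop_minus (by norm_num) (k := 3) (by norm_num)
    have c2 := h.cop_minus (by norm_num) (k := 2) (by norm_num)
    rw [hv] at c1 c2
    refine (c1.mul_right c2).dvd_of_dvd_mul_left ((hd.mul_right (v - 1)).trans (dvd_of_eq ?_))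
    show _ = _ * (v ^ 2 - v + 1); ring
  · -- 7
    have c1 := h.cop_plus_of (by norm_num) (by norm_num) (k := 7) (by norm_num)
    have c2 := h.cop_minus (by norm_num) (k := 1) (by norm_num)
    rw [hv] at c1 c2
    refine (c1.mul_right c2).dvd_of_dvd_mul_left (hd.trans (dvd_of_eq ?_))
    show _ = _ * (v ^ 6 + v ^ 5 + v ^ 4 + v ^ 3 + v ^ 2 + v + 1); ring
  · -- 8
    have c1 := h.cop_minus (by norm_num) (k := 4) (by norm_num)
    rw [hv] at c1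
    refine c1.dvd_of_dvd_mul_left (hd.trans (dvd_of_eq ?_))
    show _ = _ * (v ^ 4 + 1); ring
  · -- 9, 18
    have c1 := h.cop_plus_of (by norm_num) (by norm_num) (k := 9) (by norm_num)
    have c2 := h.cop_minus (by norm_num) (k := 3) (by norm_num)
    rw [hv] at c1 c2
    refine (c1.mul_right c2).dvd_of_dvd_mul_left (hd.trans (dvd_of_eq ?_))
    show _ = _ * (v ^ 6 + v ^ 3 + 1); ring
  · -- 9, 9
    have c2 := h.cop_minus (by norm_num) (k := 3) (by norm_num)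
    rw [hv] at c2
    refine c2.dvd_of_dvd_mul_left (hd.trans (dvd_of_eq ?_))
    show _ = _ * (v ^ 6 + v ^ 3 + 1); ring
  · -- 12
    have c1 := h.cop_minus (by norm_num) (k := 6) (by norm_num)
    have c2 := h.cop_plus (by norm_num) (k := 2) (by norm_num)
    rw [hv] at c1 c2
    refine (c1.mul_right c2).dvd_of_dvd_mul_left (hd.trans (dvd_of_eq ?_))
    show _ = _ * (v ^ 4 - v ^ 2 + 1); ring
  · -- 14
    have c1 := h.cop_minus (by norm_num) (k := 7) (by norm_num)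
    have c2 := h.cop_plus (by norm_num) (k := 1) (by norm_num)
    rw [hv] at c1 c2
    refine (c1.mul_right c2).dvd_of_dvd_mul_left (hd.trans (dvd_of_eq ?_))
    show _ = _ * (v ^ 6 - v ^ 5 + v ^ 4 - v ^ 3 + v ^ 2 - v + 1); ring
  · -- 15
    have c1 := h.cop_plus_of (by norm_num) (by norm_num) (k := 15) (by norm_num)
    have c2 := h.cop_minus (by norm_num) (k := 3) (by norm_num)
    have c3 := h.cop_minus (by norm_num) (k := 5) (by norm_num)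
    rw [hv] at c1 c2 c3
    refine ((c1.mul_right c2).mul_right c3).dvd_of_dvd_mul_left ((hd.mul_right (v - 1)).trans (dvd_of_eq ?_))
    show _ = _ * (v ^ 8 - v ^ 7 + v ^ 5 - v ^ 4 + v ^ 3 - v + 1); ring
  · -- 18
    have c1 := h.cop_minus (by norm_num) (k := 9) (by norm_num)
    have c2 := h.cop_plus (by norm_num) (k := 3) (by norm_num)
    rw [hv] at c1 c2
    refine (c1.mul_right c2).dvd_of_dvd_mul_left (hd.trans (dvd_of_eq ?_))
    show _ = _ * (v ^ 6 - v ^ 3 + 1); ring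
  · -- 20
    have c1 := h.cop_minus (by norm_num) (k := 10) (by norm_num)
    have c2 := h.cop_plus (by norm_num) (k := 2) (by norm_num)
    rw [hv] at c1 c2
    refine (c1.mul_right c2).dvd_of_dvd_mul_left (hd.trans (dvd_of_eq ?_))
    show _ = _ * (v ^ 8 - v ^ 6 + v ^ 4 - v ^ 2 + 1); ring
  · -- 24
    have c1 := h.cop_minus (by norm_num) (k := 12) (by norm_num)
    have c2 := h.cop_plus (by norm_num) (k := 4) (by norm_num)
    rw [hv] at c1 c2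
    refine (c1.mul_right c2).dvd_of_dvd_mul_left (hd.trans (dvd_of_eq ?_))
    show _ = _ * (v ^ 8 - v ^ 4 + 1); ring
  · -- 30
    have c1 := h.cop_minus (by norm_num) (k := 15) (by norm_num)
    have c2 := h.cop_plus (by norm_num) (k := 3) (by norm_num)
    have c3 := h.cop_plus (by norm_num) (k := 5) (by norm_num)
    rw [hv] at c1 c2 c3
    refine ((c1.mul_right c2).mul_right c3).dvd_of_dvd_mul_left ((hd.mul_right (v + 1)).trans (dvd_of_eq ?_))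
    show _ = _ * (v ^ 8 + v ^ 7 - v ^ 5 - v ^ 4 - v ^ 3 + v + 1); ring

end Cfsg.Agent.H77.E4Poly
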