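import Cfsg.Agent.H830.B57.Defs
import Cfsg.Agent.H901.PrimBound
import Cfsg.Agent.StandardComponent.AltAut

/-!
# S5717, A4: bases of the alternating groups from the length of subgroup chains (helper77)

* `LenLE.of_surjective`;
* `tbase_of_len` : `T` simple, `LenLE (MulAut T) k → TBase T k`;
* `tbase_alt`.
-/

set_option autoImplicit false

open Subgroup

namespace Cfsg.Agent.H77.TBaseAlt

open Cfsg.Agent.H901.ChainLen Cfsg.Agent.H830.B57

theorem lenLE_of_surjective {G Q : Type*} [Group G] [Group Q] {k : ℕ} (h : LenLE G k) (f : G →* Q)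
    (hf : Function.Surjective f) : LenLE Q k := by
  obtain ⟨r, hr, hk⟩ := exists_rank h
  refine of_rank (fun K => r (K.comap f)) ?_ fun K => hk _
  intro A B hAB
  apply hr
  refine lt_of_le_of_ne (Subgroup.comap_mono hAB.le) fun he => hAB.ne ?_
  have h1 := congrArg (Subgroup.map f) he
  rwa [Subgroup.map_comap_eq_self_of_surjective hf, Subgroup.map_comap_eq_self_of_surjective hf] at h1

section base

variable {T : Type*} [Group T]

/-- an automorphism which moves every element inside its coset of a proper subgroup is trivial -/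
theorem eq_one_of_forall [IsSimpleGroup T] {H : Subgroup T} (hH : H ≠ ⊤) {a : MulAut T} (h : ∀ t, t⁻¹ * a t ∈ H) :
    a = 1 := by
  let M : Subgroup T := Subgroup.closure (Set.range fun t => t⁻¹ * a t)
  have hM : ∀ t, t⁻¹ * a t ∈ M := fun t => Subgroup.subset_closure ⟨t, rfl⟩
  have hn : M.Normal := by
    rw [← Subgroup.normalizer_eq_top_iff, Subgroup.eq_top_iff']
    intro s
    have key : ∀ s : T, ∀ m ∈ M, s * m * s⁻¹ ∈ M := by
      intro s m hm
      induction hm using Subgroup.closure_induction with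
      | mem x hx =>
        obtain ⟨t, rfl⟩ := hx
        have h1 : s * (t⁻¹ * a t) * s⁻¹ = ((t * s⁻¹)⁻¹ * a (t * s⁻¹)) * ((s⁻¹)⁻¹ * a (s⁻¹))⁻¹ := by
          rw [map_mul, map_inv]; group
        show s * (t⁻¹ * a t) * s⁻¹ ∈ M
        rw [h1]
        exact mul_mem (hM _) (inv_mem (hM _))
      | one => rw [mul_one, mul_inv_cancel]; exact one_mem _
      | mul x y _ _ hx hy =>
        have h1 : s * (x * y) * s⁻¹ = (s * x * s⁻¹) * (s * y * s⁻¹) := by group
        rw [h1]; exact mul_mem hx hy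
      | inv x _ hx =>
        have h1 : s * x⁻¹ * s⁻¹ = (s * x * s⁻¹)⁻¹ := by group
        rw [h1]; exact inv_mem hx
    rw [Subgroup.mem_normalizer_iff]
    intro m
    refine ⟨key s m, fun hm => ?_⟩
    have h1 := key s⁻¹ _ hm
    have h2 : s⁻¹ * (s * m * s⁻¹) * s⁻¹⁻¹ = m := by group
    rwa [h2] at h1
  have hle : M ≤ H := by
    rw [Subgroup.closure_le]
    rintro _ ⟨t, rfl⟩
    exact h t
  rcases hn.eq_bot_or_eq_top with h1 | h1
  · ext t
    have h2 := hM t
    rw [h1, Subgroup.mem_bot, inv_mul_eq_one] at h2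
    exact h2.symm
  · exact absurd (top_le_iff.1 (h1 ▸ hle)) hH

/-- the automorphisms fixing the coset `t H` -/
def st (H : Subgroup T) (t : T) : Subgroup (MulAut T) where
  carrier := {a | (∀ h, h ∈ H ↔ a h ∈ H) ∧ t⁻¹ * a t ∈ H}
  one_mem' := ⟨fun h => Iff.rfl, by rw [MulAut.one_apply, inv_mul_cancel]; exact one_mem _⟩
  mul_mem' := by
    rintro a b ⟨ha, ha'⟩ ⟨hb, hb'⟩
    refine ⟨fun h => ?_, ?_⟩
    · rw [MulAut.mul_apply, ← ha, ← hb]
    · have h1 : t⁻¹ * (a * b) t = (t⁻¹ * a t) * a (t⁻¹ * b t) := by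
        rw [MulAut.mul_apply, map_mul, map_inv]; group
      rw [h1]
      exact mul_mem ha' ((ha _).1 hb')
  inv_mem' := by
    rintro a ⟨ha, ha'⟩
    have h0 : ∀ h, h ∈ H ↔ (a⁻¹ : MulAut T) h ∈ H := fun h => by
      conv_lhs => rw [← MulAut.apply_inv_self T a h]
      exact (ha _).symm
    refine ⟨h0, ?_⟩
    have h1 : t⁻¹ * (a⁻¹ : MulAut T) t = (a⁻¹ : MulAut T) ((t⁻¹ * a t)⁻¹) := by
      rw [mul_inv_rev, map_mul, inv_inv, ← map_inv a t, MulAut.inv_apply_self]
    rw [h1]
    exact (h0 _).1 (inv_mem ha')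

theorem tbase_of_len [IsSimpleGroup T] {k : ℕ} (h : LenLE (MulAut T) k) : TBase T k := by
  intro H hH
  obtain ⟨r, hr, hk⟩ := exists_rank h
  have key : ∀ m : ℕ, ∀ B : Subgroup (MulAut T), (∀ a ∈ B, ∀ h, h ∈ H ↔ a h ∈ H) → r B ≤ m →
      ∃ t : Fin m → T, ∀ a ∈ B, (∀ j, (t j)⁻¹ * a (t j) ∈ H) → a = 1 := by
    intro m
    induction m with
    | zero =>
      intro B _ hB
      have h1 : B = ⊥ := by
        by_contra hne
        have h2 := hr (bot_lt_iff_ne_bot.2 hne)
        omega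
      refine ⟨fun j => j.elim0, fun a ha _ => ?_⟩
      rwa [h1, Subgroup.mem_bot] at ha
    | succ m ih =>
      intro B hBH hB
      by_cases hne : ∀ a ∈ B, a = 1
      · exact ⟨fun _ => 1, fun a ha _ => hne a ha⟩
      push Not at hne
      obtain ⟨a, ha, ha1⟩ := hne
      obtain ⟨t₀, ht₀⟩ : ∃ t, t⁻¹ * a t ∉ H := by
        by_contra hcon
        push Not at hcon
        exact ha1 (eq_one_of_forall hH hcon)
      have hlt : B ⊓ st H t₀ < B := by
        refine lt_of_le_of_ne inf_le_left fun he => ht₀ ?_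
        have h1 : a ∈ B ⊓ st H t₀ := by rw [he]; exact ha
        exact h1.2.2
      obtain ⟨t, ht⟩ := ih (B ⊓ st H t₀) (fun b hb => hBH b hb.1) (by have := hr hlt; omega)
      refine ⟨Fin.cons t₀ t, fun b hb hj => ?_⟩
      refine ht b ⟨hb, hBH b hb, ?_⟩ fun j => ?_
      · simpa using hj 0
      · simpa using hj j.succ
  let A₀ : Subgroup (MulAut T) :=
    { carrier := {a | ∀ h, h ∈ H ↔ a h ∈ H}
      one_mem' := fun h => Iff.rfl
      mul_mem' := by
        intro a b ha hb h
        rw [MulAut.mul_apply, ← ha, ← hb]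
      inv_mem' := by
        intro a ha h
        conv_lhs => rw [← MulAut.apply_inv_self T a h]
        exact (ha _).symm }
  obtain ⟨t, ht⟩ := key k A₀ (fun a ha => ha) (hk _)
  exact ⟨t, fun a ha hj => ht a ha hj⟩

end base

theorem F_le (n : ℕ) : H901.PopCount.F n ≤ 2 * n := by
  unfold H901.PopCount.F
  omega

/-- the automorphism groups of the alternating groups -/
theorem lenLE_aut {n : ℕ} (hn : 7 ≤ n) : LenLE (MulAut (alternatingGroup (Fin n))) (2 * n) := by
  obtain ⟨m, rfl⟩ : ∃ m, n = m + 2 := ⟨n - 2, by omega⟩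
  have h1 := (H901.ChainUpper.lenLE_perm H901.PrimBound.primBound (m + 2)).mono (F_le (m + 2))
  refine lenLE_of_surjective h1 (MulAut.conjNormal (H := alternatingGroup (Fin (m + 2)))) ?_
  intro e
  obtain ⟨σ, hσ⟩ := StandardComponent.AltAut.exists_conj (m := m) (by omega) e
  refine ⟨σ, ?_⟩
  ext1 x
  apply Subtype.ext
  rw [MulAut.conjNormal_apply, hσ]

/-- **A4** -/
theorem tbase_alt : ∃ C' : ℕ, ∀ (n : ℕ), 5 ≤ n → ∀ (T : Type) [Group T] [Finite T],
    Nonempty (T ≃* alternatingGroup (Fin n)) → TBase T (C' * n) := by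
  set c5 := ArithmeticFunction.cardFactors (Nat.card (MulAut (alternatingGroup (Fin 5))))
  set c6 := ArithmeticFunction.cardFactors (Nat.card (MulAut (alternatingGroup (Fin 6))))
  refine ⟨2 + c5 + c6, fun n hn T _ _ ⟨e⟩ => ?_⟩
  have hs : IsSimpleGroup (alternatingGroup (Fin n)) := alternatingGroup.isSimpleGroup (by rw [Nat.card_fin]; exact hn)
  have : IsSimpleGroup T := e.isSimpleGroup
  apply tbase_of_len
  have key : ∀ k, LenLE (MulAut (alternatingGroup (Fin n))) k → LenLE (MulAut T) k := fun k h =>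
    h.of_equiv (MulAut.congr e)
  rcases (by omega : n = 5 ∨ n = 6 ∨ 7 ≤ n) with rfl | rfl | h7
  · exact key _ (LenLE.of_card.mono (by omega))
  · exact key _ (LenLE.of_card.mono (by omega))
  · refine key _ ((lenLE_aut h7).mono ?_)
    nlinarith

end Cfsg.Agent.H77.TBaseAlt
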