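import Cfsg.Agent.H403.SpEvenUpper

/-!
# Numerical consequences of the upper bound for the element orders of `Sp_{2n}(q)`, `q` even (helper77)

* `TL.le` : `L ≤ 3 q ^ n`;
* `UB q n N` : the bounds for an element order `N` of `Sp_{2n}(q)`;
* `ub_of` : `UB` for a divisor of `L * 2 ^ b`.
-/

set_option autoImplicit false

namespace Cfsg.Agent.H77.E4Num

open Cfsg.Agent.H403

/-- the factors of a torus list -/
theorem TL.exists_sets {q n L : ℕ} (h : TL q n L) :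
    ∃ P N : Finset ℕ, (∀ k ∈ P, 1 ≤ k) ∧ (∀ k ∈ N, 1 ≤ k) ∧ P.sum id + N.sum id ≤ n ∧
      L ∣ (∏ k ∈ P, (q ^ k + 1)) * ∏ k ∈ N, (q ^ k - 1) := by
  induction h with
  | one n => exact ⟨∅, ∅, by simp, by simp, by simp, by simp⟩
  | pos k hk h ih =>
    obtain ⟨P, N, hP, hN, hs, hd⟩ := ih
    by_cases hkN : k ∈ N
    · refine ⟨P, N, hP, hN, by omega, Nat.lcm_dvd ?_ hd⟩
      exact (Finset.dvd_prod_of_mem (fun k => q ^ k - 1) hkN).trans (dvd_mul_left _ _)
    · refine ⟨P, insert k N, hP, fun j hj => ?_, ?_, Nat.lcm_dvd ?_ ?_⟩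
      · rcases Finset.mem_insert.1 hj with rfl | hj
        · exact hk
        · exact hN j hj
      · rw [Finset.sum_insert hkN]
        show P.sum id + (k + N.sum id) ≤ _
        omega
      · rw [Finset.prod_insert hkN, mul_left_comm]
        exact dvd_mul_right _ _
      · rw [Finset.prod_insert hkN, mul_left_comm]
        exact hd.trans (dvd_mul_left _ _)
  | neg k hk h ih =>
    obtain ⟨P, N, hP, hN, hs, hd⟩ := ih
    by_cases hkP : k ∈ P
    · refine ⟨P, N, hP, hN, by omega, Nat.lcm_dvd ?_ hd⟩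
      exact (Finset.dvd_prod_of_mem (fun k => q ^ k + 1) hkP).trans (dvd_mul_right _ _)
    · refine ⟨insert k P, N, fun j hj => ?_, hN, ?_, Nat.lcm_dvd ?_ ?_⟩
      · rcases Finset.mem_insert.1 hj with rfl | hj
        · exact hk
        · exact hP j hj
      · rw [Finset.sum_insert hkP]
        show k + P.sum id + N.sum id ≤ _
        omega
      · rw [Finset.prod_insert hkP, mul_assoc]
        exact dvd_mul_right _ _
      · rw [Finset.prod_insert hkP, mul_assoc]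
        exact hd.trans (dvd_mul_left _ _)

theorem sum_half_le (P : Finset ℕ) (hP : ∀ k ∈ P, 1 ≤ k) : ∑ k ∈ P, ((1 : ℝ) / 2) ^ k ≤ 1 := by
  have h1 : ∑ k ∈ P, ((1 : ℝ) / 2) ^ k = ∑ k ∈ P.image (fun k => k - 1), ((1 : ℝ) / 2) ^ (k + 1) := by
    rw [Finset.sum_image]
    · refine Finset.sum_congr rfl fun k hk => ?_
      rw [Nat.sub_add_cancel (hP k hk)]
    · intro a ha b hb hab
      have h2 := hP a ha
      have h3 := hP b hb
      simp only at hab
      omega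
  rw [h1]
  have hs : Summable fun k : ℕ => ((1 : ℝ) / 2) ^ (k + 1) := by
    simpa [pow_succ] using summable_geometric_two.mul_right ((1 : ℝ) / 2)
  have h2 := hs.sum_le_tsum (P.image (fun k => k - 1)) (fun k _ => by positivity)
  refine h2.trans (le_of_eq ?_)
  have h3 : ∑' k : ℕ, ((1 : ℝ) / 2) ^ (k + 1) = (∑' k : ℕ, ((1 : ℝ) / 2) ^ k) * (1 / 2) := by
    rw [← tsum_mul_right]
    exact tsum_congr fun k => pow_succ _ _
  rw [h3, tsum_geometric_two]
  norm_num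

theorem prod_plus_le {q : ℕ} (hq : 2 ≤ q) (P : Finset ℕ) (hP : ∀ k ∈ P, 1 ≤ k) :
    ∏ k ∈ P, (q ^ k + 1) ≤ 3 * q ^ P.sum id := by
  have hq0 : (0 : ℝ) < q := by exact_mod_cast (by omega : 0 < q)
  have h1 : ((∏ k ∈ P, (q ^ k + 1) : ℕ) : ℝ) ≤ 3 * (q : ℝ) ^ P.sum id := by
    push_cast
    have h2 : ∏ k ∈ P, ((q : ℝ) ^ k + 1) ≤ ∏ k ∈ P, ((q : ℝ) ^ k * Real.exp ((1 / 2) ^ k)) := by
      refine Finset.prod_le_prod (fun k _ => by positivity) fun k hk => ?_
      have h3 : (1 : ℝ) ≤ (q : ℝ) ^ k * (1 / 2) ^ k := by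
        rw [← mul_pow]
        refine one_le_pow₀ ?_
        have : (2 : ℝ) ≤ q := by exact_mod_cast hq
        linarith
      calc (q : ℝ) ^ k + 1 ≤ (q : ℝ) ^ k + (q : ℝ) ^ k * (1 / 2) ^ k := by linarith
        _ = (q : ℝ) ^ k * ((1 / 2) ^ k + 1) := by ring
        _ ≤ _ := mul_le_mul_of_nonneg_left (Real.add_one_le_exp _) (by positivity)
    refine h2.trans ?_
    rw [Finset.prod_mul_distrib, ← Real.exp_sum, Finset.prod_pow_eq_pow_sum, mul_comm]
    have h4 : P.sum id = ∑ k ∈ P, k := rfl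
    rw [h4]
    refine mul_le_mul_of_nonneg_right ?_ (by positivity)
    calc Real.exp (∑ k ∈ P, (1 / 2) ^ k) ≤ Real.exp 1 := Real.exp_le_exp.2 (sum_half_le P hP)
      _ ≤ 3 := by
        have := Real.exp_one_lt_d9
        linarith
  exact_mod_cast h1

theorem TL.le {q n L : ℕ} (hq : 2 ≤ q) (h : TL q n L) : L ≤ 3 * q ^ n := by
  obtain ⟨P, N, hP, hN, hs, hd⟩ := TL.exists_sets h
  have h1 : 0 < (∏ k ∈ P, (q ^ k + 1)) * ∏ k ∈ N, (q ^ k - 1) := by
    refine Nat.mul_pos (Finset.prod_pos fun k _ => by positivity) (Finset.prod_pos fun k hk => ?_)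
    have := Nat.one_lt_pow (n := k) (by have := hN k hk; omega) hq
    omega
  refine (Nat.le_of_dvd h1 hd).trans ?_
  have h2 : ∏ k ∈ N, (q ^ k - 1) ≤ q ^ N.sum id := by
    rw [← Finset.prod_pow_eq_pow_sum]
    exact Finset.prod_le_prod (fun _ _ => Nat.zero_le _) fun k _ => Nat.sub_le _ _
  calc (∏ k ∈ P, (q ^ k + 1)) * ∏ k ∈ N, (q ^ k - 1) ≤ (3 * q ^ P.sum id) * q ^ N.sum id :=
        Nat.mul_le_mul (prod_plus_le hq P hP) h2
    _ = 3 * q ^ (P.sum id + N.sum id) := by rw [pow_add]; ring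
    _ ≤ _ := Nat.mul_le_mul_left _ (Nat.pow_le_pow_right (by omega) hs)

theorem TL.dvd_prod {q n L : ℕ} (h : TL q n L) {r : ℕ} (hr : r.Prime) (hd : r ∣ L) :
    ∃ k, 1 ≤ k ∧ k ≤ n ∧ r ∣ q ^ (2 * k) - 1 := by
  obtain ⟨P, N, hP, hN, hs, hL⟩ := TL.exists_sets h
  rcases hr.dvd_mul.1 (hd.trans hL) with h1 | h1
  · obtain ⟨k, hk, h2⟩ := (hr.prime.dvd_finsetProd_iff _).1 h1
    have h3 := Finset.single_le_sum (f := id) (fun i _ => Nat.zero_le i) hk
    refine ⟨k, hP k hk, by simp only [id] at h3; simp only [id] at hs; omega, h2.trans ?_⟩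
    have h4 : q ^ (2 * k) - 1 = (q ^ k + 1) * (q ^ k - 1) := by
      rw [mul_comm 2 k, pow_mul]
      have := Nat.sq_sub_sq (q ^ k) 1
      rw [one_pow] at this
      exact this
    rw [h4]
    exact dvd_mul_right _ _
  · obtain ⟨k, hk, h2⟩ := (hr.prime.dvd_finsetProd_iff _).1 h1
    have h3 := Finset.single_le_sum (f := id) (fun i _ => Nat.zero_le i) hk
    refine ⟨k, hN k hk, by simp only [id] at h3; simp only [id] at hs; omega, h2.trans ?_⟩
    rw [mul_comm 2 k, pow_mul]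
    have h4 := Nat.sub_dvd_pow_sub_pow (q ^ k) 1 2
    rwa [one_pow] at h4

theorem TL.odd {q n L : ℕ} (hq : Even q) (h : TL q n L) (h0 : 2 ≤ q) : Odd L := by
  obtain ⟨P, N, hP, hN, hs, hL⟩ := TL.exists_sets h
  rw [← Nat.not_even_iff_odd, even_iff_two_dvd]
  intro h2
  rcases Nat.prime_two.dvd_mul.1 (h2.trans hL) with h1 | h1
  · obtain ⟨k, hk, h2⟩ := (Nat.prime_two.prime.dvd_finsetProd_iff _).1 h1
    have h3 : Even (q ^ k) := hq.pow_of_ne_zero (by have := hP k hk; omega)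
    rw [← even_iff_two_dvd] at h2
    exact (Nat.not_even_iff_odd.2 h3.add_one) h2
  · obtain ⟨k, hk, h2⟩ := (Nat.prime_two.prime.dvd_finsetProd_iff _).1 h1
    have h3 : Even (q ^ k) := hq.pow_of_ne_zero (by have := hN k hk; omega)
    rw [← even_iff_two_dvd] at h2
    have h5 : 1 ≤ q ^ k := Nat.one_le_pow _ _ (by omega)
    obtain ⟨a, ha⟩ := h3
    obtain ⟨b, hb⟩ := h2
    omega

theorem mb_succ_lt (b : ℕ) : mb b + 1 ≤ mb (b + 1) := by
  match b with
  | 0 => decide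
  | 1 => decide
  | b + 2 =>
    show 2 ^ b + 1 + 1 ≤ 2 ^ (b + 1) + 1
    have : 1 ≤ 2 ^ b := Nat.one_le_two_pow
    rw [pow_succ]
    omega

theorem mb_add (b c : ℕ) : mb b + c ≤ mb (b + c) := by
  induction c with
  | zero => rfl
  | succ c ih =>
    have := mb_succ_lt (b + c)
    rw [← add_assoc b c 1]
    omega

/-- **The bounds for an element order `N` of `Sp_{2n}(q)`.** -/
structure UB (q n N : ℕ) : Prop where
  le : ∀ b, 2 ^ b ∣ N → mb b ≤ n ∧ N ≤ 3 * 2 ^ b * q ^ (n - mb b)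
  dvd : ∀ r : ℕ, r.Prime → r ≠ 2 → r ∣ N → ∃ k, 1 ≤ k ∧ k ≤ n ∧ r ∣ q ^ (2 * k) - 1

theorem ub_of {q n N b L : ℕ} (hq : Even q) (hq2 : 2 ≤ q) (hmb : mb b ≤ n) (hL : TL q (n - mb b) L) (hN : N ∣ L * 2 ^ b) :
    UB q n N := by
  have hodd := TL.odd hq hL hq2
  have hcop : ∀ c, Nat.Coprime (2 ^ c) L := fun c => Nat.Coprime.pow_left _ (Nat.coprime_two_left.2 hodd)
  constructor
  · intro c hc
    have h1 : 2 ^ c ∣ 2 ^ b := (hcop c).dvd_of_dvd_mul_left (hc.trans hN)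
    have h2 : c ≤ b := (Nat.pow_dvd_pow_iff_le_right (by norm_num)).1 h1
    obtain ⟨d, rfl⟩ := Nat.exists_eq_add_of_le h2
    have h3 := mb_add c d
    refine ⟨by omega, ?_⟩
    have h4 : 0 < L := Nat.pos_of_ne_zero fun h => by
      rw [h] at hodd
      exact absurd hodd (by decide)
    calc N ≤ L * 2 ^ (c + d) := Nat.le_of_dvd (by positivity) hN
      _ ≤ (3 * q ^ (n - mb (c + d))) * 2 ^ (c + d) := Nat.mul_le_mul_right _ (TL.le hq2 hL)
      _ = 3 * 2 ^ c * (q ^ (n - mb (c + d)) * 2 ^ d) := by rw [pow_add]; ring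
      _ ≤ 3 * 2 ^ c * (q ^ (n - mb (c + d)) * q ^ d) :=
        Nat.mul_le_mul_left _ (Nat.mul_le_mul_left _ (Nat.pow_le_pow_left hq2 d))
      _ = 3 * 2 ^ c * q ^ (n - mb (c + d) + d) := by rw [pow_add]
      _ ≤ _ := Nat.mul_le_mul_left _ (Nat.pow_le_pow_right (by omega) (by omega))
  · intro r hr hr2 hd
    rcases hr.dvd_mul.1 (hd.trans hN) with h1 | h1
    · obtain ⟨k, h2, h3, h4⟩ := TL.dvd_prod hL hr h1
      exact ⟨k, h2, by omega, h4⟩
    · exact absurd ((Nat.prime_dvd_prime_iff_eq hr Nat.prime_two).1 (hr.dvd_of_dvd_pow h1)) hr2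

end Cfsg.Agent.H77.E4Num
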