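import Cfsg.Agent.H77.LFLin
import Cfsg.Agent.H72.AdjPSL
import Cfsg.Agent.H72.AdjPSUW

/-!
# `PSL_n(q)`, `PSU_n(q)`, `n ≥ 3`: the facts `LF` of S3441 (helper77)

`lf_lin`, `lf_psl`, `lf_psu`.
-/

set_option autoImplicit false
set_option linter.unusedSectionVars false

namespace Cfsg.Agent.H77.LFMain

open Cfsg.Agent.H403 Cfsg.Agent.H403.NumTop Cfsg.Agent.H376.Cyc Cfsg.Agent.H77.LFLin

theorem lcm_gt {n k l : ℕ} (hk : 1 ≤ k) (hl : 1 ≤ l) (h : n < k + l) (h1 : ¬ k ∣ l) (h2 : ¬ l ∣ k) : n < Nat.lcm k l := by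
  obtain ⟨a, ha⟩ := Nat.dvd_lcm_left k l
  obtain ⟨b, hb⟩ := Nat.dvd_lcm_right k l
  have hpos : 0 < Nat.lcm k l := Nat.lcm_pos (by omega) (by omega)
  have ha2 : 2 ≤ a := by
    by_contra hlt
    rcases (by omega : a = 0 ∨ a = 1) with rfl | rfl
    · rw [mul_zero] at ha; omega
    · rw [mul_one] at ha
      apply h2
      rw [← ha]
      exact Nat.dvd_lcm_right k l
  have hb2 : 2 ≤ b := by
    by_contra hlt
    rcases (by omega : b = 0 ∨ b = 1) with rfl | rfl
    · rw [mul_zero] at hb; omega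
    · rw [mul_one] at hb
      apply h1
      rw [← hb]
      exact Nat.dvd_lcm_left k l
  have e1 : k * 2 ≤ k * a := Nat.mul_le_mul_left k ha2
  have e2 : l * 2 ≤ l * b := Nat.mul_le_mul_left l hb2
  omega

/-- the two cases for a prime `s` dividing `A` and `n` -/
theorem part_cases {s A n : ℕ} (hs : s.Prime) (hA : A ≠ 0) (hn : n ≠ 0) :
    (∃ n', ¬ s ∣ n' ∧ n ∣ A * n') ∨ (∃ h', ¬ s ∣ h' ∧ A ∣ n * h') := by
  obtain ⟨a, n', hn', ha⟩ := Nat.exists_eq_pow_mul_and_not_dvd hn s hs.ne_one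
  obtain ⟨b, h', hh', hb⟩ := Nat.exists_eq_pow_mul_and_not_dvd hA s hs.ne_one
  rcases le_total a b with hab | hab
  · left
    refine ⟨n', hn', ?_⟩
    conv_lhs => rw [ha]
    refine Nat.mul_dvd_mul_right ?_ n'
    rw [hb]
    exact Dvd.dvd.mul_right (pow_dvd_pow s hab) h'
  · right
    refine ⟨h', hh', ?_⟩
    conv_lhs => rw [hb]
    refine Nat.mul_dvd_mul_right ?_ h'
    rw [ha]
    exact Dvd.dvd.mul_right (pow_dvd_pow s hab) n'

section

variable {F : Type*} [Field F] [Fintype F] {e : Bool} {n q : ℕ} {L : Type*} [Group L]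

theorem exists_char (hF : Fintype.card F = q ^ (cond e 0 1 + 1)) : ∃ p f : ℕ, p.Prime ∧ 1 ≤ f ∧ q = p ^ f := by
  obtain ⟨p, hp⟩ := CharP.exists F
  obtain ⟨k, hpp, hk⟩ := FiniteField.card F p
  have hdvd : q ∣ p ^ (k : ℕ) := by
    rw [← hk, hF]
    exact dvd_pow_self q (Nat.succ_ne_zero _)
  obtain ⟨j, -, hj⟩ := (Nat.dvd_prime_pow hpp).1 hdvd
  refine ⟨p, j, hpp, ?_, hj⟩
  by_contra hlt
  have hj0 : j = 0 := by omega
  rw [hj0, pow_zero] at hj
  rw [hj, one_pow] at hF
  have := Fintype.one_lt_card (α := F)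
  omega

/-- involutions -/
theorem exists_two (h : IsL L e n q F) (hF : Fintype.card F = q ^ (cond e 0 1 + 1)) (hn : 3 ≤ n) :
    ∃ g : L, orderOf g = 2 := by
  have hq : 2 ≤ q := two_le_of_card hF
  cases e with
  | true =>
    obtain ⟨f⟩ := h
    have hF' : Fintype.card F = q := by simpa using hF
    have h1 := H72.AdjPSL.hasBlock_wL (F := F) Nat.prime_two
    have h2 : H72.AdjPSL.wL (Fintype.card F) 2 = 2 := by
      rw [H72.AdjPSL.wL, if_pos]
      omega
    rw [h2] at h1
    obtain ⟨z, hz⟩ := H72.AdjPSL.exists_order_of_block_lt (n := n) h1 (by omega) 2 dvd_rfl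
    exact ⟨f.symm z, by rw [← hz]; exact MulEquiv.orderOf_eq f.symm z⟩
  | false =>
    obtain ⟨f⟩ := h
    have hF' : Fintype.card F = q ^ 2 := by simpa using hF
    have h1 := H72.AdjPSU.hasBlock_wU (F := F) hF' Nat.prime_two
    have h2 : H72.AdjPSU.wU q 2 = 2 := by
      rw [H72.AdjPSU.wU, if_pos]
      omega
    rw [h2] at h1
    obtain ⟨z, hz⟩ := H72.AdjPSU.exists_order_of_block_lt (n := n) hF' hn h1 (by omega) 2 dvd_rfl
    exact ⟨f.symm z, by rw [← hz]; exact MulEquiv.orderOf_eq f.symm z⟩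

theorem five_le {r i : ℕ} (hr : r.Prime) (hi : 3 ≤ i) (h : orderOf ((xv e q : ℤ) : ZMod r) = i) : 5 ≤ r := by
  have h1 := order_dvd_pred hr (by omega) h
  have h2 := hr.two_le
  have h3 := Nat.le_of_dvd (by omega) h1
  have h4 : r ≠ 4 := by
    rintro rfl
    exact absurd hr (by norm_num)
  omega

theorem mem_card [Finite L] (h : IsL L e n q F) (hF : Fintype.card F = q ^ (cond e 0 1 + 1)) (hn : 3 ≤ n) {r i : ℕ}
    (hr : r.Prime) (hi2 : 2 ≤ i) (hin : i ≤ n) (hi : orderOf ((xv e q : ℤ) : ZMod r) = i) : r ∣ Nat.card L := by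
  have hq : 2 ≤ q := two_le_of_card hF
  obtain ⟨g, hg⟩ := h.exists_tor_le hF hn (i := i) (N := r) (by omega) hin hr.pos
    ((Nat.Prime.coprime_iff_not_dvd hr).2 (not_dvd_AA_one (by omega) hi hi2))
    ((dvd_AA_iff (by omega)).2 (by rw [← hi]; exact pow_orderOf_eq_one _))
  rw [← hg]
  exact orderOf_dvd_natCard g

/-- the isolated component `r_i`, `i = n` or `i = n - 1` -/
theorem lf_iso [Finite L] (h : IsL L e n q F) (hF : Fintype.card F = q ^ (cond e 0 1 + 1)) (hn : 3 ≤ n) {i : ℕ}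
    (hin : i = n ∨ i = n - 1) (hi3 : 3 ≤ i) (hex : ¬ Exc e i q)
    (hk : ∀ s r : ℕ, s.Prime → r.Prime → ¬ s ∣ q → orderOf ((xv e q : ℤ) : ZMod r) = i →
      orderOf ((xv e q : ℤ) : ZMod s) ≠ i → 1 ≤ orderOf ((xv e q : ℤ) : ZMod s) →
      orderOf ((xv e q : ℤ) : ZMod s) ≤ n → ¬ ∃ g : L, orderOf g = r * s) : LF L := by
  have hq : 2 ≤ q := two_le_of_card hF
  have hL := h.lin (E := AlgebraicClosure F) hF hn
  obtain ⟨p, f, hp, hf, hpf⟩ := exists_char hF
  have hpq : p ∣ q := by rw [hpf]; exact dvd_pow_self p (by omega)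
  obtain ⟨P, hP, -, hPi⟩ := exists_prime (e := e) hq hi3 hex
  have hP5 := five_le hP hi3 hPi
  refine LF.of_isolated (π := fun r => orderOf ((xv e q : ℤ) : ZMod r) = i) hP hP5
    (mem_card h hF hn hP (by omega) (by omega) hPi) hPi ?_ ?_ ?_
  · obtain ⟨g, hg⟩ := exists_two h hF hn
    rw [← hg]
    exact orderOf_dvd_natCard g
  · intro h2
    have := five_le Nat.prime_two hi3 h2
    omega
  · intro r s hr hs hri hsi hg
    by_cases hsq : s ∣ q
    · have hsp : s = p := by
        rw [hpf] at hsq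
        exact (Nat.prime_dvd_prime_iff_eq hs hp).1 (hs.dvd_of_dvd_pow hsq)
      subst hsp
      exact hL.not_adj_char hF hp hpq hn hr hri hin hg
    · have hg' : ∃ g : L, orderOf g = s := by
        obtain ⟨g, hg⟩ := hg
        refine ⟨g ^ r, ?_⟩
        rw [orderOf_pow_of_dvd hr.ne_zero (by rw [hg]; exact dvd_mul_right r s), hg, Nat.mul_div_cancel_left _ hr.pos]
      obtain ⟨h1, h2⟩ := hL.ord_le hF (by omega) hs hsq hg'
      exact hk s r hs hr hsq hri hsi h1 h2 hg

/-- `n = 3` -/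
theorem lf_three [Finite L] (h : IsL L e 3 q F) (hF : Fintype.card F = q ^ (cond e 0 1 + 1))
    (hne : ¬ (e = false ∧ q = 2)) : LF L := by
  have hq : 2 ≤ q := two_le_of_card hF
  have hL := h.lin (E := AlgebraicClosure F) hF le_rfl
  refine lf_iso h hF le_rfl (i := 3) (Or.inl rfl) le_rfl ?_ ?_
  · rintro (⟨-, h1, -⟩ | ⟨h1, -, h2⟩)
    · omega
    · exact hne ⟨h1, h2⟩
  · intro s r hs hr hsq hri hsi h1 h2
    have h3 : orderOf ((xv e q : ℤ) : ZMod s) = 1 ∨ orderOf ((xv e q : ℤ) : ZMod s) = 2 := by omega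
    rcases h3 with h3 | h3
    · have hsA : s ∣ AA e 1 q := by
        rw [dvd_AA_one_iff (by omega)]
        exact orderOf_eq_one_iff.1 h3
      by_cases hs2 : s = 2
      · subst hs2
        refine hL.two_odd_n hF ?_ (by norm_num) hr hri (Or.inl (by decide))
        rw [← Nat.not_even_iff_odd, even_iff_two_dvd]
        exact hsq
      · refine not_adj_n hL hF (by norm_num) hr hs hs2 hri hsA ?_
        by_cases hs3 : s = 3
        · subst hs3
          exact ⟨1, by norm_num, by rw [mul_one]; exact hsA⟩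
        · refine ⟨3, ?_, dvd_mul_left _ _⟩
          intro h4
          exact hs3 ((Nat.prime_dvd_prime_iff_eq hs Nat.prime_three).1 h4)
    · exact hL.not_adj hF (by norm_num) hr hs hri h3 (by norm_num) le_rfl (by norm_num)
        (lcm_gt (by norm_num) (by norm_num) (by norm_num) (by norm_num) (by norm_num))

/-- an index for the prime 2 -/
theorem exists_na (hF : Fintype.card F = q ^ (cond e 0 1 + 1)) (hn : 4 ≤ n) :
    ∃ i, (i = n ∨ i = n - 1) ∧ i ∈ NumSpor.na e n q ∧ ¬ Exc e i q := by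
  have hq : 2 ≤ q := two_le_of_card hF
  by_cases h2 : q % 2 = 0
  · have h3 : NumSpor.na e n q = [n, n - 1] := by simp [NumSpor.na, h2]
    rw [h3]
    by_cases hex : Exc e n q
    · refine ⟨n - 1, Or.inr rfl, by simp, ?_⟩
      rcases hex with ⟨h4, h5, h6⟩ | ⟨h4, h5, h6⟩
      · rintro (⟨-, h7, -⟩ | ⟨h7, -, -⟩)
        · omega
        · rw [h4] at h7; exact Bool.noConfusion h7
      · omega
    · exact ⟨n, Or.inl rfl, by simp, hex⟩
  · have hex : ∀ i, ¬ Exc e i q := by
      rintro i (⟨-, -, h3⟩ | ⟨-, -, h3⟩) <;> omega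
    have h3 : Nat.beq (q % 2) 0 = false := by
      rw [← Bool.not_eq_true, Nat.beq_eq]; exact h2
    by_cases hno : n % 2 = 1
    · have h4 : Nat.beq (n % 2) 1 = true := by rw [Nat.beq_eq]; exact hno
      refine ⟨n, Or.inl rfl, ?_, hex n⟩
      unfold NumSpor.na
      rw [h3, h4]
      simp
    · have h4 : Nat.beq (n % 2) 1 = false := by rw [← Bool.not_eq_true, Nat.beq_eq]; exact hno
      cases h6 : Nat.beq ((cond e (q - 1) (q + 1)) % (2 * Nat.gcd n (2 ^ n))) 0 with
      | false =>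
        refine ⟨n - 1, Or.inr rfl, ?_, hex _⟩
        unfold NumSpor.na
        rw [h3, h4, h6]
        simp
      | true =>
        refine ⟨n, Or.inl rfl, ?_, hex _⟩
        rw [Nat.beq_eq] at h6
        have h7 := Nat.dvd_of_mod_eq_zero h6
        obtain ⟨v, n', hn', hnv, hg⟩ := gcd_two_pow (n := n) (by omega)
        have hv : 1 ≤ v := by
          by_contra hcon
          have hv0 : v = 0 := by omega
          rw [hv0, pow_zero, one_mul] at hnv
          rw [hnv] at hno
          exact hno (Nat.odd_iff.1 hn')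
        have h8 : 4 ∣ 2 * Nat.gcd n (2 ^ n) := by
          rw [hg, show (4 : ℕ) = 2 * 2 ^ 1 by norm_num]
          exact Nat.mul_dvd_mul_left 2 (pow_dvd_pow 2 hv)
        have h9 : Nat.beq ((cond e (q - 1) (q + 1)) % 4) 0 = true := by
          rw [Nat.beq_eq]; exact Nat.mod_eq_zero_of_dvd (h8.trans h7)
        have h10 : Nat.beq ((cond e (q - 1) (q + 1)) % Nat.gcd n (2 ^ n)) 0 = true := by
          rw [Nat.beq_eq]; exact Nat.mod_eq_zero_of_dvd ((dvd_mul_left _ 2).trans h7)
        unfold NumSpor.na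
        rw [h3, h4, h9, h10]
        simp

/-- `n ≥ 4`, both primes -/
theorem lf_both [Finite L] (h : IsL L e n q F) (hF : Fintype.card F = q ^ (cond e 0 1 + 1)) (hn : 4 ≤ n)
    (hex1 : ¬ Exc e n q) (hex2 : ¬ Exc e (n - 1) q) : LF L := by
  have hq : 2 ≤ q := two_le_of_card hF
  have hL := h.lin (E := AlgebraicClosure F) hF (by omega)
  obtain ⟨p, f, hp, hf, hpf⟩ := exists_char hF
  have hpq : p ∣ q := by rw [hpf]; exact dvd_pow_self p (by omega)
  obtain ⟨P, hP, -, hPi⟩ := exists_prime (e := e) hq (i := n) (by omega) hex1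
  obtain ⟨T, hT, -, hTi⟩ := exists_prime (e := e) hq (i := n - 1) (by omega) hex2
  refine ⟨?_, ?_⟩
  · obtain ⟨i, hin, hna, hex⟩ := exists_na (n := n) hF hn
    obtain ⟨r, hr, -, hri⟩ := exists_prime (e := e) hq (i := i) (by omega) hex
    exact ⟨r, hr, five_le hr (by omega) hri, mem_card h hF (by omega) hr (by omega) (by omega) hri,
      hL.not_two hF hn hna hr hri⟩
  · intro r hr hr2 hrL
    have hf := Fact.mk hr
    obtain ⟨g, hg⟩ := exists_prime_orderOf_dvd_card' r hrL
    by_cases hrq : r ∣ q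
    · have hrp : r = p := by
        rw [hpf] at hrq
        exact (Nat.prime_dvd_prime_iff_eq hr hp).1 (hr.dvd_of_dvd_pow hrq)
      subst hrp
      refine ⟨P, hP, ?_, mem_card h hF (by omega) hP (by omega) le_rfl hPi, ?_⟩
      · rintro rfl
        exact not_dvd_q hP hPi (by omega) hrq
      · rw [mul_comm]
        exact hL.not_adj_char hF hp hpq (by omega) hP hPi (Or.inl rfl)
    obtain ⟨h1, h2⟩ := hL.ord_le hF (by omega) hr hrq ⟨g, hg⟩
    obtain ⟨k, hk⟩ : ∃ k, orderOf ((xv e q : ℤ) : ZMod r) = k := ⟨_, rfl⟩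
    rw [hk] at h1 h2
    have hP' := mem_card h hF (by omega) hP (by omega) le_rfl hPi
    have hT' := mem_card h hF (by omega) hT (by omega) (by omega) hTi
    by_cases hk1 : k = 1
    · subst hk1
      have hrA : r ∣ AA e 1 q := by
        rw [dvd_AA_one_iff (by omega)]
        exact orderOf_eq_one_iff.1 hk
      have hrP : P ≠ r := by rintro rfl; omega
      have hrT : T ≠ r := by rintro rfl; omega
      rcases part_cases (s := r) hr (AA_one_pos (e := e) hq).ne' (show n ≠ 0 by omega) with hc | hc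
      · refine ⟨P, hP, hrP, hP', ?_⟩
        rw [mul_comm]
        exact not_adj_n hL hF (by omega) hP hr hr2 hPi hrA hc
      · refine ⟨T, hT, hrT, hT', ?_⟩
        rw [mul_comm]
        exact not_adj_pred hL hF (by omega) hT hr hTi hrA hc
    · by_cases hkn : k = n ∨ k ∣ n
      · have hkn' : k ∣ n := by
          rcases hkn with rfl | h3
          · exact dvd_rfl
          · exact h3
        have h3 : ¬ k ∣ n - 1 := by
          intro h4
          have h5 := Nat.dvd_sub hkn' h4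
          have h6 : n - (n - 1) = 1 := by omega
          rw [h6, Nat.dvd_one] at h5
          exact hk1 h5
        have h4 : ¬ n - 1 ∣ k := by
          intro h5
          have h6 := h5.trans hkn'
          have h7 := Nat.dvd_sub h6 (dvd_refl (n - 1))
          have h8 : n - (n - 1) = 1 := by omega
          rw [h8, Nat.dvd_one] at h7
          omega
        refine ⟨T, hT, ?_, hT', ?_⟩
        · rintro rfl
          rw [hTi] at hk
          exact h3 (by rw [hk])
        · exact hL.not_adj hF (by omega) hr hT hk hTi (by omega) (by omega) (by omega)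
            (lcm_gt (by omega) (by omega) (by omega) h3 h4)
      · rw [not_or] at hkn
        refine ⟨P, hP, ?_, hP', ?_⟩
        · rintro rfl
          rw [hPi] at hk
          exact hkn.1 hk.symm
        · refine hL.not_adj hF (by omega) hr hP hk hPi (by omega) (by omega) (by omega)
            (lcm_gt (by omega) (by omega) (by omega) hkn.2 ?_)
          intro h5
          have := Nat.le_of_dvd (by omega) h5
          omega

theorem exc_six [Finite L] (h : IsL L true 6 2 F) (hF : Fintype.card F = 2 ^ (cond true 0 1 + 1)) : LF L := by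
  have hL := h.lin (E := AlgebraicClosure F) hF (by norm_num)
  refine lf_iso h hF (by norm_num) (i := 5) (Or.inr rfl) (by norm_num) ?_ ?_
  · rintro (⟨-, h1, -⟩ | ⟨h1, -, -⟩)
    · omega
    · exact Bool.noConfusion h1
  · intro s r hs hr hsq hri hsi h1 h2
    have h3 : orderOf ((xv true 2 : ℤ) : ZMod s) ≠ 1 := by
      intro h3
      have h4 := orderOf_eq_one_iff.1 h3
      rw [← dvd_AA_one_iff (by norm_num), AA_one] at h4
      exact hs.one_lt.ne' (Nat.dvd_one.1 h4)
    obtain ⟨k, hk⟩ : ∃ k, orderOf ((xv true 2 : ℤ) : ZMod s) = k := ⟨_, rfl⟩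
    rw [hk] at hsi h1 h2 h3
    refine hL.not_adj hF (by norm_num) hr hs hri hk (by norm_num) (by omega) (by omega)
      (lcm_gt (by norm_num) (by omega) (by omega) ?_ ?_)
    · intro h5
      have := Nat.le_of_dvd (by omega) h5
      interval_cases k <;> omega
    · intro h5
      interval_cases k <;> omega

theorem exc_seven [Finite L] (h : IsL L true 7 2 F) (hF : Fintype.card F = 2 ^ (cond true 0 1 + 1)) : LF L := by
  have hL := h.lin (E := AlgebraicClosure F) hF (by norm_num)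
  refine lf_iso h hF (by norm_num) (i := 7) (Or.inl rfl) (by norm_num) ?_ ?_
  · rintro (⟨-, h1, -⟩ | ⟨h1, -, -⟩)
    · omega
    · exact Bool.noConfusion h1
  · intro s r hs hr hsq hri hsi h1 h2
    have h3 : orderOf ((xv true 2 : ℤ) : ZMod s) ≠ 1 := by
      intro h3
      have h4 := orderOf_eq_one_iff.1 h3
      rw [← dvd_AA_one_iff (by norm_num), AA_one] at h4
      exact hs.one_lt.ne' (Nat.dvd_one.1 h4)
    obtain ⟨k, hk⟩ : ∃ k, orderOf ((xv true 2 : ℤ) : ZMod s) = k := ⟨_, rfl⟩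
    rw [hk] at hsi h1 h2 h3
    refine hL.not_adj hF (by norm_num) hr hs hri hk (by norm_num) (by omega) (by omega)
      (lcm_gt (by norm_num) (by omega) (by omega) ?_ ?_)
    · intro h5
      interval_cases k <;> omega
    · intro h5
      interval_cases k <;> omega

theorem exc_four [Finite L] (h : IsL L false 4 2 F) (hF : Fintype.card F = 2 ^ (cond false 0 1 + 1)) : LF L := by
  have hL := h.lin (E := AlgebraicClosure F) hF (by norm_num)
  refine lf_iso h hF (by norm_num) (i := 4) (Or.inl rfl) (by norm_num) ?_ ?_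
  · rintro (⟨h1, -, -⟩ | ⟨-, h1, -⟩)
    · exact Bool.noConfusion h1
    · omega
  · intro s r hs hr hsq hri hsi h1 h2
    have h3 : s = 3 := by
      obtain ⟨k, hk⟩ : ∃ k, orderOf ((xv false 2 : ℤ) : ZMod s) = k := ⟨_, rfl⟩
      rw [hk] at hsi h1 h2
      have h4 : s ∣ AA false k 2 := (dvd_AA_iff (by norm_num)).2 (by rw [← hk]; exact pow_orderOf_eq_one _)
      have h5 : AA false k 2 ∣ 9 := by
        have : k = 1 ∨ k = 2 ∨ k = 3 := by omega
        rcases this with rfl | rfl | rfl <;> decide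
      have h6 : s ∣ 3 ^ 2 := h4.trans h5
      exact (Nat.prime_dvd_prime_iff_eq hs Nat.prime_three).1 (hs.dvd_of_dvd_pow h6)
    subst h3
    exact hL.not_adj_torus hF (by norm_num) hr hs hri (by rw [AA_one]; norm_num) (by norm_num) (by norm_num)

/-- **`PSL_n(q)` and `PSU_n(q)`, `n ≥ 3`.** -/
theorem lf_lin [Finite L] (h : IsL L e n q F) (hF : Fintype.card F = q ^ (cond e 0 1 + 1)) (hn : 3 ≤ n)
    (hne : ¬ (e = false ∧ n = 3 ∧ q = 2)) : LF L := by
  rcases Nat.eq_or_lt_of_le hn with h3 | h4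
  · subst h3
    exact lf_three h hF fun hh => hne ⟨hh.1, rfl, hh.2⟩
  by_cases hex1 : Exc e n q
  · rcases hex1 with ⟨rfl, rfl, rfl⟩ | ⟨-, h5, -⟩
    · exact exc_six h hF
    · omega
  by_cases hex2 : Exc e (n - 1) q
  · rcases hex2 with ⟨rfl, h5, rfl⟩ | ⟨rfl, h5, rfl⟩
    · have h6 : n = 7 := by omega
      subst h6
      exact exc_seven h hF
    · have h6 : n = 4 := by omega
      subst h6
      exact exc_four h hF
  exact lf_both h hF h4 hex1 hex2

end

/-- **T-LF1.** -/
theorem lf_psl {F : Type*} [Field F] [Fintype F] {n : ℕ} (hn : 3 ≤ n) :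
    LF (Matrix.ProjectiveSpecialLinearGroup (Fin n) F) :=
  lf_lin (e := true) (q := Fintype.card F) (F := F) ⟨MulEquiv.refl _⟩ (by simp) hn (fun h => Bool.noConfusion h.1)

/-- **T-LF2.** -/
theorem lf_psu {F : Type*} [Field F] [Fintype F] {n q : ℕ} (hF : Fintype.card F = q ^ 2) (hn : 3 ≤ n)
    (h32 : ¬ (n = 3 ∧ q = 2)) : LF (Cfsg.PSU n F q) := by
  have : Finite (Cfsg.PSU n F q) := Quotient.finite _
  exact lf_lin (e := false) (q := q) (F := F) ⟨MulEquiv.refl _⟩ (by simpa using hF) hn (fun h => h32 h.2)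

end Cfsg.Agent.H77.LFMain
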