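import Mathlib
import Cfsg.Agent.H375.Out.Split

/-!
# E5: element orders that do not occur in `Ω^±_{2n}(q)`, `q` even (helper77)

* `n1` : order `s * T`, `η = n - 1`: `s` divides the torus `M` or `q - δ`;
* `n2` : order `2 * s * T`, `η = n - 2`: impossible if `s ∤ M` and (`s ∤ q ^ 2 - 1` or the complement is of minus type).
-/

set_option autoImplicit false
set_option linter.unusedVariables false
set_option linter.unusedSectionVars false

namespace Cfsg.Agent.H77.OutN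

open Module Finset Cfsg.Agent.H375.Odd Cfsg.Agent.H375.Out

variable {F : Type*} [Field F] [Fintype F] [CharP F 2] {V : Type*} [AddCommGroup V] [Module F V] [Fintype V]
  [FiniteDimensional F V] {β : V →ₗ[F] V →ₗ[F] F} {Q : V → F} {ψ : F → ℤ}

/-- The sign of the complement. -/
def sg (η e : ℕ) (ε : ℤ) : ℤ := if e = η then ε else -ε

theorem sg_pm {η e : ℕ} {ε : ℤ} (h : ε = 1 ∨ ε = -1) : sg η e ε = 1 ∨ sg η e ε = -1 := by
  unfold sg
  split_ifs
  · exact h
  · rcases h with h | h <;> rw [h] <;> simp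

/-- `q ^ η` modulo `l`. -/
theorem pow_mod {l a e η M : ℕ} (B : Blk (Fintype.card F) l a e η M) {ε : ℤ} :
    (l : ℤ) ∣ ε * (Fintype.card F : ℤ) ^ η - sg η e ε := by
  have hl := B.dvd (F := F)
  have hl1 : (l : ℤ) ∣ (M : ℤ) := int_dvd_of_nat (q := 0) ((dvd_pow_self l (Nat.succ_ne_zero a)).trans hl)
  rcases B.case with ⟨h0, h1, h2⟩ | ⟨h0, h1, h2⟩
  · have h3 : (M : ℤ) = (Fintype.card F : ℤ) ^ η - 1 := by
      rw [h2, Nat.cast_sub (Nat.one_le_pow _ _ Fintype.card_pos)]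
      push_cast
      rfl
    rw [sg, if_pos h1]
    have : ε * (Fintype.card F : ℤ) ^ η - ε = (M : ℤ) * ε := by rw [h3]; ring
    rw [this]
    exact hl1.mul_right _
  · have h3 : (M : ℤ) = (Fintype.card F : ℤ) ^ η + 1 := by
      rw [h2]
      push_cast
      rfl
    rw [sg, if_neg (by omega)]
    have : ε * (Fintype.card F : ℤ) ^ η - -ε = (M : ℤ) * ε := by rw [h3]; ring
    rw [this]
    exact hl1.mul_right _

/-- The type of the complement. -/
theorem GS_compl (hψ : Psi ψ) (hQ : QF Q β) (hβ : Alt β) {l a e η M : ℕ} (B : Blk (Fintype.card F) l a e η M)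
    {t : V ≃ₗ[F] V} (ht : Tor t l a e) (htQ : t ∈ OQ Q) {k : ℕ} (hk : finrank F (bV (t ^ l ^ a)) = 2 * k) {ε : ℤ}
    (hε : ε = 1 ∨ ε = -1) (hG : GS ψ Q ⊤ = ε * (Fintype.card F : ℤ) ^ (η + k)) :
    GS ψ Q (bV (t ^ l ^ a)) = sg η e ε * (Fintype.card F : ℤ) ^ k := by
  have htQ' : t ^ l ^ a ∈ OQ Q := (OQ Q).pow_mem htQ _
  have hsq := GS_sq hψ hQ (bV (t ^ l ^ a)) (fun v hv huv =>
    nd_bV hβ (OQ_le hQ htQ') (ht.hl.odd_of_ne_two ht.hl2) ht.ht v hv (fun u hu => by
      rw [hβ.symm]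
      exact huv u hu))
  rw [hk] at hsq
  have h3 := GS_mod hψ (Q := Q) (x := t ^ l ^ a) htQ' ht.hl ht.ht ⊤ (bV (t ^ l ^ a)) (fun _ _ => trivial) (fun w => by
    rw [mem_bV]; simp)
  rw [hG] at h3
  have hsq' : GS ψ Q (bV (t ^ l ^ a)) ^ 2 = ((Fintype.card F : ℤ) ^ k) ^ 2 := by
    rw [hsq, ← pow_mul, mul_comm k 2]
  obtain ⟨δ, hδ, h4⟩ : ∃ δ : ℤ, (δ = 1 ∨ δ = -1) ∧ GS ψ Q (bV (t ^ l ^ a)) = δ * (Fintype.card F : ℤ) ^ k := by
    rcases sq_eq_sq_iff_eq_or_eq_neg.1 hsq' with h4 | h4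
    · exact ⟨1, Or.inl rfl, by rw [h4, one_mul]⟩
    · exact ⟨-1, Or.inr rfl, by rw [h4]; ring⟩
  rw [h4] at h3 ⊢
  have h5 := (pow_mod (ε := ε) B).mul_right ((Fintype.card F : ℤ) ^ k)
  have h6 : (l : ℤ) ∣ sg η e ε * ((Fintype.card F ^ k : ℕ) : ℤ) - δ * ((Fintype.card F ^ k : ℕ) : ℤ) := by
    push_cast
    have : sg η e ε * (Fintype.card F : ℤ) ^ k - δ * (Fintype.card F : ℤ) ^ k =
      (ε * (Fintype.card F : ℤ) ^ (η + k) - δ * (Fintype.card F : ℤ) ^ k) -
      (ε * (Fintype.card F : ℤ) ^ η - sg η e ε) * (Fintype.card F : ℤ) ^ k := by rw [pow_add]; ring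
    rw [this]
    exact dvd_sub h3 h5
  have hlq : ¬ l ∣ Fintype.card F ^ k := fun h => not_dvd_card (F := F) ht.hl ht.hl2 (ht.hl.dvd_of_dvd_pow h)
  rw [sign_eq ht.hl ht.hl2 hlq (sg_pm hε) hδ h6]

theorem comm_zpowers {y x u : V ≃ₗ[F] V} (hx : x ∈ Subgroup.zpowers y) (hu : u ∈ Subgroup.zpowers y) (v : V) :
    x (u v) = u (x v) := by
  obtain ⟨i, rfl⟩ := Subgroup.mem_zpowers_iff.1 hx
  obtain ⟨j, rfl⟩ := Subgroup.mem_zpowers_iff.1 hu
  show (y ^ i * y ^ j) v = (y ^ j * y ^ i) v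
  rw [← zpow_add, ← zpow_add, add_comm]

theorem commz {y x u : V ≃ₗ[F] V} (hx : x ∈ Subgroup.zpowers y) (hu : u ∈ Subgroup.zpowers y) (i j : ℕ) (v : V) :
    (x ^ i) ((u ^ j) v) = (u ^ j) ((x ^ i) v) :=
  comm_zpowers (Subgroup.pow_mem _ hx i) (Subgroup.pow_mem _ hu j) v

/-- **N1** -/
theorem n1 (hψ : Psi ψ) (hQ : QF Q β) (hβ : Alt β) {l a e η M : ℕ} (B : Blk (Fintype.card F) l a e η M)
    (hn : finrank F V = 2 * (η + 1)) (hη : 2 ≤ η) {ε : ℤ} (hε : ε = 1 ∨ ε = -1)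
    (hG : GS ψ Q ⊤ = ε * (Fintype.card F : ℤ) ^ (η + 1)) {s : ℕ} (hs : s.Prime) (hs2 : s ≠ 2) {y : V ≃ₗ[F] V}
    (hy : y ∈ OQ Q) (ho : orderOf y = s * l ^ (a + 1)) :
    s ∣ M ∨ (s : ℤ) ∣ sg η e ε * Fintype.card F - 1 := by
  by_cases hsM : s ∣ M
  · exact Or.inl hsM
  right
  obtain ⟨t, x, u, ht, hx, hu, hT, hxo, huo, hW, hV, hxW, huW⟩ := split (c := 0) hβ B (by omega)
    (hs.odd_of_ne_two hs2) ((hs.coprime_iff_not_dvd).2 hsM) (OQ_le hQ hy) (by rw [ho, pow_zero, one_mul])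
  have hV2 : finrank F (bV (t ^ l ^ a)) = 2 * 1 := by omega
  have h8 := GS_compl hψ hQ hβ B hT (mem_of_zpowers hy ht) hV2 hε hG
  have hxs : x ^ s = 1 := by rw [← hxo, pow_orderOf_eq_one]
  have hle : bW x ≤ bV (t ^ l ^ a) := bW_le_bV (hT.hl.odd_of_ne_two hT.hl2) hT.ht
    (fun v => comm_zpowers hx (Subgroup.pow_mem _ ht _) v) hxW
  have hx1 : x ≠ 1 := by
    intro h
    rw [h, orderOf_one] at hxo
    exact hs.one_lt.ne hxo
  have hpos : 0 < finrank F (bW x) := by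
    rw [Nat.pos_iff_ne_zero]
    intro h
    exact bW_ne_bot hx1 (Submodule.finrank_eq_zero.1 h)
  have hev := even_bW hβ (OQ_le hQ (mem_of_zpowers hy hx)) (hs.odd_of_ne_two hs2) hxs
  have hle2 := Submodule.finrank_mono hle
  have hdim : finrank F (bW x) = 2 := by obtain ⟨k, hk⟩ := hev; omega
  have heq : bW x = bV (t ^ l ^ a) := Submodule.eq_of_le_of_finrank_le hle (by omega)
  have h9 := plane_fix hψ hQ (mem_of_zpowers hy hx) hs hs2 hxs heq
  rw [h8, pow_one] at h9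
  exact h9

/-- `u - 1` on a plane. -/
theorem rank_one {u : V ≃ₗ[F] V} {C : Submodule F V} (hC : ∀ v ∈ C, u v ∈ C) (h2 : finrank F C = 2)
    (hu : u ^ 2 = 1) (hu1 : u ≠ 1) (hall : ∀ v, ∃ c ∈ C, Nu u v = Nu u c) : finrank F (bW u) = 1 := by
  have hnn : ∀ v, Nu u (Nu u v) = 0 := by
    intro v
    have h := Nu_pow u 1
    rw [pow_one, hu, Nu_one] at h
    have := LinearMap.congr_fun h v
    rw [pow_two] at this
    exact this
  have hle : bW u ≤ C := by
    rintro _ ⟨v, rfl⟩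
    obtain ⟨c, hc, h⟩ := hall v
    show Nu u v ∈ C
    rw [h]
    exact C.sub_mem (hC c hc) hc
  have hpos : 0 < finrank F (bW u) := by
    rw [Nat.pos_iff_ne_zero]
    intro h
    exact bW_ne_bot hu1 (Submodule.finrank_eq_zero.1 h)
  have hlt : bW u < C := by
    refine lt_of_le_of_ne hle fun heq => hu1 ?_
    apply LinearEquiv.ext
    intro v
    obtain ⟨c, hc, h⟩ := hall v
    have h1 : c ∈ bW u := by rw [heq]; exact hc
    obtain ⟨w, hw⟩ := h1
    have h3 : Nu u c = 0 := by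
      rw [← hw]
      exact hnn w
    rw [h3] at h
    exact sub_eq_zero.1 h
  have := Submodule.finrank_lt_finrank_of_lt hlt
  omega

/-- **N2** -/
theorem n2 (hψ : Psi ψ) (hQ : QF Q β) (hβ : Alt β) {l a e η M : ℕ} (B : Blk (Fintype.card F) l a e η M)
    (hn : finrank F V = 2 * (η + 2)) (hη : 3 ≤ η) {ε : ℤ} (hε : ε = 1 ∨ ε = -1)
    (hG : GS ψ Q ⊤ = ε * (Fintype.card F : ℤ) ^ (η + 2)) {s : ℕ} (hs : s.Prime) (hs2 : s ≠ 2) (hsM : ¬ s ∣ M)
    (hmin : ¬ s ∣ Fintype.card F ^ 2 - 1 ∨ sg η e ε = -1) {y : V ≃ₗ[F] V} (hy : y ∈ OQ Q)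
    (hpar : ∀ u ∈ Subgroup.zpowers y, Even (finrank F (bV u))) (hev : Even (finrank F V))
    (ho : orderOf y = 2 * (s * l ^ (a + 1))) : False := by
  obtain ⟨t, x, u, ht, hx, hu, hT, hxo, huo, hW, hV, hxW, huW⟩ := split (c := 1) hβ B (by omega)
    (hs.odd_of_ne_two hs2) ((hs.coprime_iff_not_dvd).2 hsM) (OQ_le hQ hy) (by rw [ho, pow_one])
  have hV2 : finrank F (bV (t ^ l ^ a)) = 2 * 2 := by omega
  have hso := hs.odd_of_ne_two hs2
  have hxs : x ^ s = 1 := by rw [← hxo, pow_orderOf_eq_one]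
  rw [pow_one] at huo
  have hus : u ^ 2 = 1 := by rw [← huo, pow_orderOf_eq_one]
  have hxt := fun v => comm_zpowers hx (Subgroup.pow_mem _ ht (l ^ a)) v
  have hxu := fun v => comm_zpowers hx hu v
  have hut := fun v => comm_zpowers hu (Subgroup.pow_mem _ ht (l ^ a)) v
  have htodd := hT.hl.odd_of_ne_two hT.hl2
  have hle : bW x ≤ bV (t ^ l ^ a) := bW_le_bV htodd hT.ht hxt hxW
  have hx1 : x ≠ 1 := by
    intro h
    rw [h, orderOf_one] at hxo
    exact hs.one_lt.ne hxo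
  have hu1 : u ≠ 1 := by
    intro h
    rw [h, orderOf_one] at huo
    omega
  have hpos : 0 < finrank F (bW x) := by
    rw [Nat.pos_iff_ne_zero]
    intro h
    exact bW_ne_bot hx1 (Submodule.finrank_eq_zero.1 h)
  have hxI := OQ_le hQ (mem_of_zpowers hy hx)
  have huI := OQ_le hQ (mem_of_zpowers hy hu)
  have hevx := even_bW hβ hxI hso hxs
  have hle2 := Submodule.finrank_mono hle
  have hthree := finrank_three htodd hT.ht hso hxs hxt hxW
  have hsplit := three_split htodd hT.ht hso hxs hxt hxW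
  have hW0 : ∀ w ∈ bW (t ^ l ^ a), Nu u w = 0 := fun w hw => by rw [Nu_apply, huW w hw, sub_self]
  have hdim : finrank F (bW x) = 2 ∨ finrank F (bW x) = 4 := by obtain ⟨k, hk⟩ := hevx; omega
  rcases hdim with hdim | hdim
  · -- rank one on the plane
    have hD0 : ∀ w ∈ bW x, Nu u w = 0 := by
      intro w hw
      have := unip hβ hxI huI hxu hso hxs (c := 1) (by rw [pow_one]; exact hus) (k := 1) (by omega) w hw
      rwa [pow_one] at this
    have h1 : finrank F (bW u) = 1 := by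
      apply rank_one (C := bV (t ^ l ^ a) ⊓ bV x) ?_ (by omega) hus hu1
      · intro v
        obtain ⟨w, hw, d, hd, c, hc, rfl⟩ := hsplit v
        refine ⟨c, hc, ?_⟩
        rw [map_add, map_add, hW0 w hw, hD0 d hd, zero_add, zero_add]
      · rintro v ⟨hv, hv'⟩
        exact ⟨bV_inv (fun v => hut v) v hv, bV_inv (fun v => (hxu v).symm) v hv'⟩
    have h2 := finrank_bW_add (F := F) u
    have h3 := hpar u hu
    rw [h1] at h2
    rw [← h2] at hev
    obtain ⟨k, hk⟩ := h3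
    obtain ⟨k', hk'⟩ := hev
    omega
  · have heq : bW x = bV (t ^ l ^ a) := Submodule.eq_of_le_of_finrank_le hle (by omega)
    have hmin' : ¬ s ∣ Fintype.card F ^ 2 - 1 := by
      rcases hmin with hmin | hmin
      · exact hmin
      have h8 := GS_compl hψ hQ hβ B hT (mem_of_zpowers hy ht) hV2 hε hG
      have h9 := plane_fix hψ hQ (mem_of_zpowers hy hx) hs hs2 hxs heq
      rw [h8, hmin] at h9
      have h10 : (s : ℤ) ∣ ((Fintype.card F ^ 2 + 1 : ℕ) : ℤ) := by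
        have : ((Fintype.card F ^ 2 + 1 : ℕ) : ℤ) = -(-1 * (Fintype.card F : ℤ) ^ 2 - 1) := by push_cast; ring
        rw [this]
        exact (dvd_neg).2 h9
      have h11 : s ∣ Fintype.card F ^ 2 + 1 := by exact_mod_cast h10
      intro h12
      have h13 := Nat.dvd_sub h11 h12
      have h14 : 1 ≤ Fintype.card F ^ 2 := Nat.one_le_pow _ _ Fintype.card_pos
      have h15 : Fintype.card F ^ 2 + 1 - (Fintype.card F ^ 2 - 1) = 2 := by omega
      rw [h15] at h13
      exact hs2 ((Nat.prime_dvd_prime_iff_eq hs Nat.prime_two).1 h13)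
    -- `u` is trivial
    apply hu1
    set E := (bW x).map (Nu u) with hE
    have hED : E ≤ bW x := by
      rintro _ ⟨w, hw, rfl⟩
      exact (bW x).sub_mem (bW_inv (fun v => (hxu v).symm) w hw) hw
    have hEx : ∀ w ∈ E, x w ∈ E := by
      rintro _ ⟨w, hw, rfl⟩
      refine ⟨x w, bW_inv (fun _ => rfl) w hw, ?_⟩
      have := Nu_comm hxu 1 w
      rwa [pow_one] at this
    have hnn : ∀ v, Nu u (Nu u v) = 0 := by
      intro v
      have h := Nu_pow u 1
      rw [pow_one, hus, Nu_one] at h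
      have := LinearMap.congr_fun h v
      rw [pow_two] at this
      exact this
    have hE2 : finrank F E ≤ 2 := by
      set g := (Nu u).domRestrict (bW x) with hg
      have h1 := LinearMap.finrank_range_add_finrank_ker g
      have hrange : LinearMap.range g = E := by
        ext z
        constructor
        · rintro ⟨⟨w, hw⟩, rfl⟩
          exact ⟨w, hw, rfl⟩
        · rintro ⟨w, hw, rfl⟩
          exact ⟨⟨w, hw⟩, rfl⟩
      have hker : E.comap (bW x).subtype ≤ LinearMap.ker g := by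
        rintro ⟨z, hz⟩ hz'
        obtain ⟨w, hw, hwz⟩ := hz'
        rw [LinearMap.mem_ker]
        show Nu u z = 0
        have : z = Nu u w := hwz.symm
        rw [this]
        exact hnn w
      have h2 := Submodule.finrank_mono hker
      have h3 := (Submodule.comapSubtypeEquivOfLe hED).finrank_eq
      rw [h3] at h2
      rw [hrange] at h1
      omega
    have hd := dvd_card_sub_one (x := x) hs hs2 (b := 0) (by rw [hxo, zero_add, pow_one]) hEx
      (by rw [pow_zero, pow_one]; exact hED)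
    rw [zero_add, pow_one] at hd
    have hE0 : finrank F E = 0 := by
      by_contra h0
      apply hmin'
      have h1 : finrank F E = 1 ∨ finrank F E = 2 := by omega
      rcases h1 with h1 | h1
      · rw [h1, pow_one] at hd
        exact hd.trans (sub_one_dvd _ _)
      · rwa [h1] at hd
    have hEb := Submodule.finrank_eq_zero.1 hE0
    apply LinearEquiv.ext
    intro v
    obtain ⟨w, hw, d, hd', rfl⟩ := exists_split htodd hT.ht v
    rw [← heq] at hd'
    have h1 : Nu u (w + d) = 0 := by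
      rw [map_add, hW0 w hw, zero_add]
      have h2 : Nu u d ∈ E := ⟨d, hd', rfl⟩
      rw [hEb] at h2
      exact (Submodule.mem_bot F).1 h2
    exact sub_eq_zero.1 h1

end Cfsg.Agent.H77.OutN
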