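import Mathlib
import Cfsg.Agent.H77.OutN
import Cfsg.Agent.H375.Out.Def

/-!
# E5: N1, N2 for `Om Q` (helper77)
-/

set_option autoImplicit false
set_option linter.unusedVariables false
set_option linter.unusedSectionVars false

namespace Cfsg.Agent.H77.OutNOm

open Module Finset QuadraticMap Cfsg Cfsg.Agent.H375.Odd Cfsg.Agent.H375.Out Cfsg.Agent.H77.OutN

variable {F : Type*} [Field F] [Fintype F] [CharP F 2] {ι : Type} [Fintype ι] [DecidableEq ι]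
  {Q : QuadraticForm F (ι → F)} {ψ : F → ℤ}

/-- **N1** for `Om Q`: `e = η` odd, or `e = 2 η`. -/
theorem n1 (hψ : Psi ψ) (hQ : (polarBilin Q).Nondegenerate) {l a e η M : ℕ} (B : Blk (Fintype.card F) l a e η M)
    (hn : Fintype.card ι = 2 * (η + 1)) (hη : 2 ≤ η) {ε : ℤ} (hε : ε = 1 ∨ ε = -1)
    (hG : GS ψ (⇑Q) ⊤ = ε * (Fintype.card F : ℤ) ^ (η + 1)) {s : ℕ} (hs : s.Prime) (hs2 : s ≠ 2)
    {y : (ι → F) ≃ₗ[F] (ι → F)} (hy : y ∈ Om Q) (ho : orderOf y = s * l ^ (a + 1)) :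
    s ∣ M ∨ (s : ℤ) ∣ sg η e ε * Fintype.card F - 1 :=
  OutN.n1 hψ (qf_of Q) (alt_of hQ) B (by rw [finrank_fintype_fun_eq_card, hn]) hη hε hG hs hs2 (Om_le hy) ho

/-- **N2** for `Om Q`. -/
theorem n2 (hψ : Psi ψ) (hQ : (polarBilin Q).Nondegenerate) {l a e η M : ℕ} (B : Blk (Fintype.card F) l a e η M)
    (hn : Fintype.card ι = 2 * (η + 2)) (hη : 3 ≤ η) {ε : ℤ} (hε : ε = 1 ∨ ε = -1)
    (hG : GS ψ (⇑Q) ⊤ = ε * (Fintype.card F : ℤ) ^ (η + 2)) {s : ℕ} (hs : s.Prime) (hs2 : s ≠ 2) (hsM : ¬ s ∣ M)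
    (hmin : ¬ s ∣ Fintype.card F ^ 2 - 1 ∨ sg η e ε = -1)
    {y : (ι → F) ≃ₗ[F] (ι → F)} (hy : y ∈ Om Q) (ho : orderOf y = 2 * (s * l ^ (a + 1))) : False := by
  have hev : Even (Fintype.card ι) := ⟨η + 2, by omega⟩
  refine OutN.n2 hψ (qf_of Q) (alt_of hQ) B (by rw [finrank_fintype_fun_eq_card, hn]) hη hε hG hs hs2 hsM hmin
    (Om_le hy) ?_ (by rw [finrank_fintype_fun_eq_card]; exact hev) ho
  intro u hu
  exact ((mem_Om hQ (by omega) hev).1 (mem_of_zpowers hy hu)).2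

end Cfsg.Agent.H77.OutNOm
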