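import Cfsg.Agent.H378.TwRows

/-!
# Cyclic subgroups of the maximal tori of the exceptional groups: certificates (helper77)

Weyl group elements `w` (as products of simple reflections with the partial products) with an eigenvector for a divisor
of the characteristic polynomial.
-/

set_option autoImplicit false

namespace Cfsg.Agent.H77.E4Cert

open Cfsg.Agent.H129.WData Cfsg.Agent.H378.AdjTab Cfsg.Agent.H493.PGTorus

/-! ### `E₆` : `(x⁴ - 1) (x² - x + 1)` -/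

/-- the partial products -/
def LE6 : List (Fin 6 × Mat 6) := [
    (4, ![![1, 1, 1, 2, 1, 0],
        ![0, 0, 0, 0, -1, 0],
        ![0, -1, -1, -2, -1, 0],
        ![0, 0, 1, 1, 1, 0],
        ![0, 1, 0, 1, 1, 1],
        ![0, 0, 0, -1, -1, -1]]),
    (3, ![![1, 1, 1, 2, 1, 0],
        ![0, 0, 0, 0, 1, 0],
        ![0, -1, -1, -2, -1, 0],
        ![0, 0, 1, 1, 0, 0],
        ![0, 1, 0, 1, 1, 1],
        ![0, 0, 0, -1, -1, -1]]),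
    (1, ![![1, 1, 1, 1, 1, 0],
        ![0, 0, 0, 1, 1, 0],
        ![0, -1, -1, -1, -1, 0],
        ![0, 0, 1, 0, 0, 0],
        ![0, 1, 0, 1, 1, 1],
        ![0, 0, 0, 0, -1, -1]]),
    (4, ![![1, 0, 1, 1, 1, 0],
        ![0, 1, 0, 1, 1, 0],
        ![0, 0, -1, -1, -1, 0],
        ![0, 0, 1, 0, 0, 0],
        ![0, 0, 0, 1, 1, 1],
        ![0, 0, 0, 0, -1, -1]]),
    (5, ![![1, 0, 1, 1, 0, 0],
        ![0, 1, 0, 1, 0, 0],
        ![0, 0, -1, -1, 0, 0],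
        ![0, 0, 1, 0, 0, 0],
        ![0, 0, 0, 1, 1, 1],
        ![0, 0, 0, 0, 0, -1]]),
    (3, ![![1, 0, 1, 1, 0, 0],
        ![0, 1, 0, 1, 0, 0],
        ![0, 0, -1, -1, 0, 0],
        ![0, 0, 1, 0, 0, 0],
        ![0, 0, 0, 1, 1, 0],
        ![0, 0, 0, 0, 0, 1]]),
    (2, ![![1, 0, 1, 0, 0, 0],
        ![0, 1, 0, 0, 0, 0],
        ![0, 0, -1, 0, 0, 0],
        ![0, 0, 1, 1, 0, 0],
        ![0, 0, 0, 0, 1, 0],
        ![0, 0, 0, 0, 0, 1]])]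

/-- the coefficients -/
def cE6 : Fin (5 + 1) → ℤ := ![-1, 1, -1, 0, 1, -1]

/-- the eigenvector -/
def VE6 : Fin (5 + 1) → Fin 6 → ℤ := ![![-1, -1, -2, -2, -2, -1],
      ![0, 0, 0, -1, 0, 0],
      ![-1, -1, -1, -1, -1, 0],
      ![-1, 0, -1, -1, -1, -1],
      ![0, 0, 0, 0, 1, 1],
      ![-1, -1, -1, -1, -1, -1]]

/-- the functional -/
def UE6 : Fin 6 → ℤ := ![1, 0, -1, 0, 0, 0]

theorem chainE6 : ChainOK H378.AdjE6.Am LE6 := by decide +kernel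

theorem eigE6 : EigOK (hd LE6) cE6 VE6 UE6 := by decide +kernel

/-! ### `E₈` : `x⁸ - 1` -/

/-- the partial products -/
def LE8 : List (Fin 8 × Mat 8) := [
    (0, ![![0, 0, 1, 0, 0, 0, 0, 0],
        ![1, 1, 1, 1, 0, 0, 0, 0],
        ![0, 0, 0, 1, 0, 0, 0, 0],
        ![0, 0, 0, 0, 1, 1, 0, 0],
        ![-1, 0, -1, -1, -1, -1, 0, 0],
        ![1, 0, 1, 1, 1, 1, 1, 0],
        ![0, 0, 0, 0, 0, 0, 0, 1],
        ![0, 0, 0, 0, 0, -1, -1, -1]]),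
    (5, ![![1, 0, 1, 0, 0, 0, 0, 0],
        ![0, 1, 1, 1, 0, 0, 0, 0],
        ![0, 0, 0, 1, 0, 0, 0, 0],
        ![0, 0, 0, 0, 1, 1, 0, 0],
        ![0, 0, -1, -1, -1, -1, 0, 0],
        ![0, 0, 1, 1, 1, 1, 1, 0],
        ![0, 0, 0, 0, 0, 0, 0, 1],
        ![0, 0, 0, 0, 0, -1, -1, -1]]),
    (2, ![![1, 0, 1, 0, 0, 0, 0, 0],
        ![0, 1, 1, 1, 0, 0, 0, 0],
        ![0, 0, 0, 1, 0, 0, 0, 0],
        ![0, 0, 0, 0, 1, 0, 0, 0],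
        ![0, 0, -1, -1, -1, 0, 0, 0],
        ![0, 0, 1, 1, 1, 1, 1, 0],
        ![0, 0, 0, 0, 0, 0, 0, 1],
        ![0, 0, 0, 0, 0, 0, -1, -1]]),
    (6, ![![1, 0, 0, 0, 0, 0, 0, 0],
        ![0, 1, 0, 1, 0, 0, 0, 0],
        ![0, 0, 1, 1, 0, 0, 0, 0],
        ![0, 0, 0, 0, 1, 0, 0, 0],
        ![0, 0, 0, -1, -1, 0, 0, 0],
        ![0, 0, 0, 1, 1, 1, 1, 0],
        ![0, 0, 0, 0, 0, 0, 0, 1],
        ![0, 0, 0, 0, 0, 0, -1, -1]]),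
    (7, ![![1, 0, 0, 0, 0, 0, 0, 0],
        ![0, 1, 0, 1, 0, 0, 0, 0],
        ![0, 0, 1, 1, 0, 0, 0, 0],
        ![0, 0, 0, 0, 1, 0, 0, 0],
        ![0, 0, 0, -1, -1, 0, 0, 0],
        ![0, 0, 0, 1, 1, 1, 0, 0],
        ![0, 0, 0, 0, 0, 0, 1, 1],
        ![0, 0, 0, 0, 0, 0, 0, -1]]),
    (3, ![![1, 0, 0, 0, 0, 0, 0, 0],
        ![0, 1, 0, 1, 0, 0, 0, 0],
        ![0, 0, 1, 1, 0, 0, 0, 0],
        ![0, 0, 0, 0, 1, 0, 0, 0],
        ![0, 0, 0, -1, -1, 0, 0, 0],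
        ![0, 0, 0, 1, 1, 1, 0, 0],
        ![0, 0, 0, 0, 0, 0, 1, 0],
        ![0, 0, 0, 0, 0, 0, 0, 1]]),
    (4, ![![1, 0, 0, 0, 0, 0, 0, 0],
        ![0, 1, 0, 0, 0, 0, 0, 0],
        ![0, 0, 1, 0, 0, 0, 0, 0],
        ![0, 0, 0, 1, 1, 0, 0, 0],
        ![0, 0, 0, 0, -1, 0, 0, 0],
        ![0, 0, 0, 0, 1, 1, 0, 0],
        ![0, 0, 0, 0, 0, 0, 1, 0],
        ![0, 0, 0, 0, 0, 0, 0, 1]])]

/-- the coefficients -/
def cE8 : Fin (7 + 1) → ℤ := ![-1, 0, 0, 0, 0, 0, 0, 0]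

/-- the eigenvector -/
def VE8 : Fin (7 + 1) → Fin 8 → ℤ := ![![0, -1, 0, 0, 0, 0, 0, 0],
      ![0, -1, 0, -1, -1, 0, 0, 0],
      ![0, -1, -1, -2, -2, -1, -1, -1],
      ![-1, -1, -2, -3, -3, -2, -2, -1],
      ![-1, -1, -2, -3, -3, -3, -2, -1],
      ![-1, -1, -2, -3, -2, -2, -1, 0],
      ![-1, -1, -2, -2, -1, -1, 0, 0],
      ![-1, -1, -1, -1, 0, 0, 0, 0]]

/-- the functional -/
def UE8 : Fin 8 → ℤ := ![1, -1, -1, 1, 0, 0, -1, 1]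

theorem chainE8 : ChainOK H378.AdjE8.Am LE8 := by decide +kernel

theorem eigE8 : EigOK (hd LE8) cE8 VE8 UE8 := by decide +kernel

/-! ### `G₂` : `x² - 1` -/

/-- the partial products -/
def LG2 : List (Fin 2 × Mat 2) := [
    (1, ![![1, 1],
        ![0, -1]])]

/-- the coefficients -/
def cG2 : Fin (1 + 1) → ℤ := ![-1, 0]

/-- the eigenvector -/
def VG2 : Fin (1 + 1) → Fin 2 → ℤ := ![![-1, 0],
      ![-1, -1]]

/-- the functional -/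
def UG2 : Fin 2 → ℤ := ![-1, 1]

theorem chainG2 : ChainOK H378.AdjG2.Am LG2 := by decide +kernel

theorem eigG2 : EigOK (hd LG2) cG2 VG2 UG2 := by decide +kernel

/-! ### `F₄` : `x² - 1` and `x² + 1` -/

/-- the partial products -/
def LF4 : List (Fin 4 × Mat 4) := [
    (2, ![![1, 2, 1, 0],
        ![-1, -1, 0, 0],
        ![0, 0, -1, 0],
        ![2, 2, 2, 1]]),
    (0, ![![1, 2, 1, 0],
        ![-1, -1, -1, 0],
        ![0, 0, 1, 0],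
        ![2, 2, 1, 1]]),
    (1, ![![1, 2, 1, 0],
        ![0, -1, -1, 0],
        ![0, 0, 1, 0],
        ![0, 2, 1, 1]]),
    (2, ![![1, 1, 1, 0],
        ![0, -1, -1, 0],
        ![0, 2, 1, 0],
        ![0, 0, 1, 1]]),
    (1, ![![1, 1, 0, 0],
        ![0, -1, 0, 0],
        ![0, 2, 1, 0],
        ![0, 0, 0, 1]])]

/-- the coefficients -/
def cF4 : Fin (1 + 1) → ℤ := ![-1, 0]

/-- the coefficients -/
def cF4' : Fin (1 + 1) → ℤ := ![1, 0]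

/-- the eigenvector -/
def VF4 : Fin (1 + 1) → Fin 4 → ℤ := ![![-1, -2, -2, -1],
      ![-1, -2, -1, -1]]

/-- the functional -/
def UF4 : Fin 4 → ℤ := ![1, 0, -1, 0]

/-- the eigenvector -/
def VF4' : Fin (1 + 1) → Fin 4 → ℤ := ![![1, 0, 0, 0],
      ![-1, -2, -1, 0]]

/-- the functional -/
def UF4' : Fin 4 → ℤ := ![1, 0, -1, 0]

theorem chainF4 : ChainOK H378.AdjF4.Am LF4 := by decide +kernel

theorem eigF4 : EigOK (hd LF4) cF4 VF4 UF4 := by decide +kernel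

theorem eigF4' : EigOK (hd LF4) cF4' VF4' UF4' := by decide +kernel

/-! ### `²E₆` : `(x⁴ - 1) (x² + x + 1)` -/

/-- the partial products -/
def LT6 : List (Fin 6 × Mat 6) := [
    (3, ![![1, 0, 0, 0, 0, 0],
        ![0, -1, 0, -1, 0, 0],
        ![0, 0, 1, 1, 0, 0],
        ![0, 1, 0, 0, 0, 0],
        ![0, 0, 0, 1, 1, 1],
        ![0, 0, 0, 0, 0, -1]]),
    (5, ![![1, 0, 0, 0, 0, 0],
        ![0, -1, 0, 0, 0, 0],
        ![0, 0, 1, 0, 0, 0],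
        ![0, 1, 0, 1, 0, 0],
        ![0, 0, 0, 0, 1, 1],
        ![0, 0, 0, 0, 0, -1]]),
    (1, ![![1, 0, 0, 0, 0, 0],
        ![0, -1, 0, 0, 0, 0],
        ![0, 0, 1, 0, 0, 0],
        ![0, 1, 0, 1, 0, 0],
        ![0, 0, 0, 0, 1, 0],
        ![0, 0, 0, 0, 0, 1]])]

/-- the coefficients -/
def cT6 : Fin (5 + 1) → ℤ := ![-1, -1, -1, 0, 1, 1]

/-- the eigenvector -/
def VT6 : Fin (5 + 1) → Fin 6 → ℤ := ![![0, 1, 0, 0, -1, 1],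
      ![1, 1, 0, -1, 0, 1],
      ![1, 0, 0, 0, 0, 0],
      ![0, 0, 0, 0, 1, -1],
      ![-1, -1, 1, 0, 1, -1],
      ![-1, -1, 0, 1, 0, 0]]

/-- the functional -/
def UT6 : Fin 6 → ℤ := ![0, 1, 1, 1, 0, 0]

/-- the twisted matrix -/
def ThT6 : Mat 6 := ![![0, 0, 0, 0, 0, -1],
      ![0, -1, 0, -1, 0, 0],
      ![0, 0, 0, 1, 1, 1],
      ![0, 1, 0, 0, 0, 0],
      ![0, 0, 1, 1, 0, 0],
      ![1, 0, 0, 0, 0, 0]]

theorem chainT6 : ChainOK H493.PGE6T.Am LT6 := by decide +kernel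

theorem thT6 : ∀ j, hd LT6 (H493.TwE6Alg.pi j) = ThT6 j := by decide +kernel

theorem eigT6 : EigOK (fun i j => ThT6 j i) cT6 VT6 UT6 := by decide +kernel

end Cfsg.Agent.H77.E4Cert
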