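import Cfsg.Agent.H77.E4Frame
import Cfsg.Agent.H200.STwo.LTwo
import Cfsg.Agent.H168.ExcCoc

/-!
# Cocliques of `L` and of the section (helper77)

* `exists_coc` : a coclique of `L` from a set of classes;
* `FrS.coc_sub` : at most one prime of it is lost in the section;
* `card_le` : a set of classes has at most `c + 2` elements.
-/

set_option autoImplicit false

namespace Cfsg.Agent.H77.E4Coc

open Cfsg Cfsg.Agent.H436 Cfsg.Agent.H425.Chr Cfsg.Agent.H200.STwo Cfsg.Agent.H376.Coc Cfsg.Agent.H77.E4Frame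

/-- pairwise nonadjacent classes -/
def Cls (N m : ℕ) (KL : ℕ → Prop) (A : Finset ℕ) : Prop :=
  (∀ k ∈ A, 3 ≤ k ∧ KL k ∧ k * m ≠ 6) ∧ ∀ k ∈ A, ∀ l ∈ A, k < l → N < eta k + eta l ∧ Rat k l

theorem exists_coc {L : Type*} [Group L] {m N : ℕ} {KL : ℕ → Prop} (T : Fac L 2 m N KL) (hN : 4 ≤ N) {A : Finset ℕ}
    (hA : Cls N m KL A) : ∃ C : Finset ℕ, IsCoc L C ∧ C.card = A.card ∧ ∀ r ∈ C, 3 < r := by
  classical
  have hm := T.hm
  have h3 : ∀ {a : ℕ}, 3 ≤ a → 3 ≤ a * m := fun {a} ha => by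
    have : 3 * 1 ≤ a * m := Nat.mul_le_mul ha hm
    omega
  have hex : ∀ k : ℕ, ∃ w : ℕ, k ∈ A → H436.Prim 2 (k * m) w := by
    intro k
    by_cases hk : k ∈ A
    · obtain ⟨h1, -, h2⟩ := hA.1 k hk
      obtain ⟨w, hw⟩ := exists_prim_two Nat.prime_two (h3 h1) h2
      exact ⟨w, fun _ => hw⟩
    · exact ⟨0, fun h => absurd h hk⟩
  choose f hf using hex
  have hinj : Set.InjOn f A := by
    intro k hk l hl hkl
    have h1 := hf k hk
    rw [hkl] at h1
    exact Nat.eq_of_mul_eq_mul_right (by omega) (h1.unique (hf l hl))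
  refine ⟨A.image f, ⟨?_, ?_, ?_⟩, Finset.card_image_of_injOn hinj, ?_⟩
  · intro p hp
    obtain ⟨k, hk, rfl⟩ := Finset.mem_image.1 hp
    exact (hf k hk).prime
  · intro p hp
    obtain ⟨k, hk, rfl⟩ := Finset.mem_image.1 hp
    obtain ⟨h1, h2, -⟩ := hA.1 k hk
    exact T.dvd_of (hf k hk) h1 h2
  · intro p hp q hq hne
    obtain ⟨k, hk, rfl⟩ := Finset.mem_image.1 hp
    obtain ⟨l, hl, rfl⟩ := Finset.mem_image.1 hq
    have hkl : k ≠ l := fun h => hne (by rw [h])
    rcases Nat.lt_or_ge k l with h | h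
    · obtain ⟨h1, h2⟩ := hA.2 k hk l hl h
      exact na_prim T.hp hm T.na hN (hf k hk) (hf l hl) (hA.1 k hk).1 (hA.1 l hl).1 h1 h2
    · obtain ⟨h1, h2⟩ := hA.2 l hl k hk (by omega)
      exact na_prim T.hp hm T.na hN (hf k hk) (hf l hl) (hA.1 k hk).1 (hA.1 l hl).1 (by omega) h2.symm
  · intro r hr
    obtain ⟨k, hk, rfl⟩ := Finset.mem_image.1 hr
    have h1 := H200.STwo.prim_ne_two (hf k hk) (h3 (hA.1 k hk).1)
    have h2 := (hf k hk).prime.two_le
    rcases Nat.lt_or_ge 3 (f k) with h | h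
    · exact h
    · exfalso
      have h4 : f k = 3 := by omega
      have h5 := hf k hk
      rw [h4] at h5
      have h6 : k * m ∣ 2 := (h5.dvd_iff 2).1 (by norm_num)
      have h7 := Nat.le_of_dvd (by norm_num) h6
      have h8 := h3 (hA.1 k hk).1
      omega

theorem FrS.coc_sub {L S : Type*} [Group L] [Group S] (F : FrS L S) {C : Finset ℕ} (hC : IsCoc L C) (h3 : 3 ≤ C.card) :
    ∃ D ⊆ C, IsCoc S D ∧ C.card ≤ D.card + 1 := by
  classical
  refine ⟨C.filter (fun x => x ∣ Nat.card S), Finset.filter_subset _ _, ⟨?_, ?_, ?_⟩, ?_⟩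
  · exact fun p hp => hC.prime p (Finset.mem_filter.1 hp).1
  · exact fun p hp => (Finset.mem_filter.1 hp).2
  · rintro p hp q hq hne ⟨x, hx⟩
    obtain ⟨y, hy⟩ := F.sub x
    exact hC.indep p (Finset.mem_filter.1 hp).1 q (Finset.mem_filter.1 hq).1 hne ⟨y, by rw [hy, hx]⟩
  · rw [← Finset.card_filter_add_card_filter_not (s := C) (fun x => x ∣ Nat.card S)]
    have h1 : (C.filter (fun x => ¬ x ∣ Nat.card S)).card ≤ 1 := by
      rw [Finset.card_le_one]
      intro a ha b hb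
      by_contra hab
      obtain ⟨ha1, ha2⟩ := Finset.mem_filter.1 ha
      obtain ⟨hb1, hb2⟩ := Finset.mem_filter.1 hb
      obtain ⟨c, hc, hca, hcb⟩ : ∃ c ∈ C, c ≠ a ∧ c ≠ b := by
        by_contra hcon
        push Not at hcon
        have h4 : C ⊆ {a, b} := by
          intro c hc
          rw [Finset.mem_insert, Finset.mem_singleton]
          by_contra hcc
          rw [not_or] at hcc
          exact hcc.2 (hcon c hc hcc.1)
        have h5 := (Finset.card_le_card h4).trans Finset.card_le_two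
        omega
      rcases F.coc a b c (hC.prime a ha1) (hC.prime b hb1) (hC.prime c hc) (hC.dvd a ha1) (hC.dvd b hb1) (hC.dvd c hc)
        hab hca.symm hcb.symm (hC.indep a ha1 b hb1 hab) (hC.indep a ha1 c hc hca.symm) (hC.indep b hb1 c hc hcb.symm)
        with h | h
      · exact ha2 h
      · exact hb2 h
    omega

/-- **Number of classes.** -/
theorem card_le {L S : Type*} [Group L] [Group S] {m N : ℕ} {KL : ℕ → Prop} (T : Fac L 2 m N KL) (hN : 4 ≤ N)
    (F : FrS L S) {A : Finset ℕ} (hA : Cls N m KL A) {q c : ℕ} (hc : 1 ≤ c) (hS : H168.ExcCoc.ExcCov S q c) :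
    A.card ≤ c + 2 := by
  obtain ⟨C, hC, hcard, h3⟩ := exists_coc T hN hA
  by_cases h : 3 ≤ C.card
  · obtain ⟨D, hD, hDc, hle⟩ := FrS.coc_sub F hC h
    have := H168.ExcCoc.coc_le_big hS hDc fun r hr => h3 r (hD hr)
    omega
  · omega

/-! ### The classes of `L` -/

def AC (n : ℕ) : Finset ℕ := (Finset.range (2 * n + 1)).filter fun k =>
  (k % 2 = 0 ∧ n ≤ k) ∨ (k % 2 = 1 ∧ n < 2 * k ∧ k ≤ n)
def AD (n : ℕ) : Finset ℕ := (Finset.range (2 * n - 1)).filter fun k =>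
  (k % 2 = 0 ∧ n ≤ k) ∨ (k % 2 = 1 ∧ n < 2 * k ∧ k ≤ n)
def AM (n : ℕ) : Finset ℕ := (Finset.range (2 * n + 1)).filter fun k =>
  (k % 2 = 0 ∧ n ≤ k) ∨ (k % 2 = 1 ∧ n < 2 * k ∧ k ≤ n - 1)

theorem cls_gen {n m : ℕ} (hn : 7 ≤ n) {KL : ℕ → Prop} {A : Finset ℕ}
    (hA : ∀ k ∈ A, k ≤ 2 * n ∧ ((k % 2 = 0 ∧ n ≤ k) ∨ (k % 2 = 1 ∧ n < 2 * k ∧ k ≤ n))) (hK : ∀ k ∈ A, KL k) :
    Cls n m KL A := by
  refine ⟨fun k hk => ⟨?_, hK k hk, ?_⟩, fun k hk l hl hkl => ?_⟩
  · have := hA k hk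
    omega
  · have h := hA k hk
    intro h6
    have h1 : k ∣ 6 := Dvd.intro _ h6
    have h2 := Nat.le_of_dvd (by norm_num) h1
    have h3 : k = 4 ∨ k = 5 := by
      rcases Nat.lt_or_ge k 6 with h4 | h4
      · omega
      · have : k = 6 := by omega
        omega
    rcases h3 with rfl | rfl <;> revert h1 <;> decide
  · have h1 := hA k hk
    have h2 := hA l hl
    have e1 := eta_cases k
    have e2 := eta_cases l
    refine ⟨by omega, ?_⟩
    rcases Nat.lt_or_ge l (3 * k) with h3 | h3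
    · exact (rat_of_lt hkl h3).symm
    · exact (rat_of_parity (by omega) (by omega) (by omega) hkl).symm

theorem cls_AC {n m : ℕ} (hn : 7 ≤ n) : Cls n m (KC n) (AC n) := by
  refine cls_gen hn (fun k hk => ?_) fun k hk => ?_ <;>
    simp only [AC, Finset.mem_filter, Finset.mem_range, KC] at hk ⊢ <;> omega

theorem cls_AD {n m : ℕ} (hn : 7 ≤ n) : Cls n m (KP n) (AD n) := by
  refine cls_gen hn (fun k hk => ?_) fun k hk => ?_ <;>
    simp only [AD, Finset.mem_filter, Finset.mem_range, KP] at hk ⊢ <;> omega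

theorem cls_AM {n m : ℕ} (hn : 7 ≤ n) : Cls n m (KM n) (AM n) := by
  refine cls_gen hn (fun k hk => ?_) fun k hk => ?_ <;>
    simp only [AM, Finset.mem_filter, Finset.mem_range, KM] at hk ⊢ <;> omega

/-- large `n` -/
theorem card_large {n : ℕ} (hn : 32 ≤ n) {A : Finset ℕ} (hA : ∀ k, k % 2 = 0 → n ≤ k → k < 2 * n - 1 → k ∈ A) :
    15 ≤ A.card := by
  have h1 : ((Finset.range 15).image fun i => 2 * (n - 1 - i)) ⊆ A := by
    intro k hk
    obtain ⟨i, hi, rfl⟩ := Finset.mem_image.1 hk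
    rw [Finset.mem_range] at hi
    exact hA _ (by omega) (by omega) (by omega)
  have h2 : ((Finset.range 15).image fun i => 2 * (n - 1 - i)).card = 15 := by
    rw [Finset.card_image_of_injOn, Finset.card_range]
    intro i hi j hj hij
    rw [Finset.mem_coe, Finset.mem_range] at hi hj
    simp only at hij
    omega
  rw [← h2]
  exact Finset.card_le_card h1

/-- the least `n` with `t` classes -/
theorem card_AC {n : ℕ} : (7 ≤ n → 6 ≤ (AC n).card) ∧ (9 ≤ n → 8 ≤ (AC n).card) ∧ (13 ≤ n → 11 ≤ (AC n).card) ∧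
    (19 ≤ n → 15 ≤ (AC n).card) := by
  rcases Nat.lt_or_ge n 32 with h | h
  · revert n
    decide +kernel
  · have := card_large h (A := AC n) fun k h1 h2 h3 => by
      simp only [AC, Finset.mem_filter, Finset.mem_range]
      omega
    omega

theorem card_AD {n : ℕ} : (8 ≤ n → 6 ≤ (AD n).card) ∧ (11 ≤ n → 8 ≤ (AD n).card) ∧ (15 ≤ n → 11 ≤ (AD n).card) ∧
    (20 ≤ n → 15 ≤ (AD n).card) := by
  rcases Nat.lt_or_ge n 32 with h | h
  · revert n
    decide +kernel
  · have := card_large h (A := AD n) fun k h1 h2 h3 => by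
      simp only [AD, Finset.mem_filter, Finset.mem_range]
      omega
    omega

theorem card_AM {n : ℕ} : (8 ≤ n → 6 ≤ (AM n).card) ∧ (10 ≤ n → 8 ≤ (AM n).card) ∧ (14 ≤ n → 11 ≤ (AM n).card) ∧
    (20 ≤ n → 15 ≤ (AM n).card) := by
  rcases Nat.lt_or_ge n 32 with h | h
  · revert n
    decide +kernel
  · have := card_large h (A := AM n) fun k h1 h2 h3 => by
      simp only [AM, Finset.mem_filter, Finset.mem_range]
      omega
    omega

end Cfsg.Agent.H77.E4Coc
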