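import Cfsg.Agent.H77.E4Num
import Cfsg.Agent.H77.E4Poly
import Cfsg.Agent.H588.ZsigPart
import Cfsg.Agent.H94.PrimeGraph

/-!
# The numerical contradictions (helper77)

* `LH q n E S` : what is used of a section `S` of a group with the element orders of `L` (rank `n`, field of even order `q`);
* `XD` : what is used of the family of `S`;
* `Num` : the numerical hypotheses; `ana` : contradiction for large `q`; `fin` : for a given `q`.
-/

set_option autoImplicit false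

namespace Cfsg.Agent.H77.E4Fin

open Cfsg.Agent.H403 Cfsg.Agent.H77.E4Num Cfsg.Agent.H77.E4Poly Cfsg.Agent.H588.ZsigPart Cfsg.Agent.H365.Zsig

/-- the hypotheses on `S` from `L` -/
structure LH (q n : ℕ) (E : List ℕ) (S : Type*) [Group S] : Prop where
  ub : ∀ x : S, UB q n (orderOf x)
  cls : ∀ e ∈ E, ∀ B : ℕ, 1 < B → Prim q e B →
    (∃ x : S, orderOf x = B) ∧ ∀ r : ℕ, r.Prime → r ∣ B → r ≠ 2 ∧ ¬ H94.PG.Adj S r 2

/-- the numerical hypotheses -/
structure Num (q n : ℕ) (E : List ℕ) (N g u : ℕ) (I : List ℕ) : Prop where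
  up : ∀ b : ℕ, 2 ^ b ∣ N → mb b ≤ n ∧ N ≤ 3 * g * 2 ^ b * q ^ (n - mb b)
  cls : ∀ e ∈ E, ∀ B : ℕ, 1 < B → Prim q e B → ∃ m ∈ I, B ∣ Pn m u

theorem Num.mono {q n : ℕ} {E E' : List ℕ} {N g u : ℕ} {I : List ℕ} (h : Num q n E N g u I) (hE : ∀ e ∈ E', e ∈ E) :
    Num q n E' N g u I := ⟨h.up, fun e he => h.cls e (hE e he)⟩

/-- the family of `S` -/
structure XD (Nf : ℕ → ℕ) (g b0 : ℕ) (I : List ℕ) : Prop where
  mono : ∀ u v : ℕ, 3 ≤ u → u ≤ v → Nf u ≤ Nf v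
  two : ∀ u : ℕ, Odd u → 2 ^ b0 ∣ Nf u
  le : ∀ u : ℕ, 3 ≤ u → ∀ m ∈ I, Pn m u ≤ 2 * Nf u
  pos : 0 < g

theorem num_up {q n N g o : ℕ} (hg : Odd g) (h : UB q n o) (ho : 0 < o) (hN : N ∣ o * g) (b : ℕ) (hb : 2 ^ b ∣ N) :
    mb b ≤ n ∧ N ≤ 3 * g * 2 ^ b * q ^ (n - mb b) := by
  have h1 : 2 ^ b ∣ o := (Nat.Coprime.pow_left b (Nat.coprime_two_left.2 hg)).dvd_of_dvd_mul_right (hb.trans hN)
  obtain ⟨h2, h3⟩ := h.le b h1
  refine ⟨h2, ?_⟩
  have hg0 : 0 < g := hg.pos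
  calc N ≤ o * g := Nat.le_of_dvd (Nat.mul_pos ho hg0) hN
    _ ≤ (3 * 2 ^ b * q ^ (n - mb b)) * g := Nat.mul_le_mul_right _ h3
    _ = _ := by ring

/-! ### large `q` -/

theorem pow_mono {Q q j φ K : ℕ} (hQ : 1 ≤ Q) (hq : Q ≤ q) (hj : j ≤ φ) (h : K * Q ^ j ≤ (Q - 1) ^ φ) :
    K * q ^ j ≤ (q - 1) ^ φ := by
  have h1 : q * (Q - 1) ≤ (q - 1) * Q := by
    rw [Nat.mul_sub, Nat.sub_mul, mul_one, one_mul]
    exact Nat.sub_le_sub_left hq _
  have h2 : (q * (Q - 1)) ^ φ ≤ ((q - 1) * Q) ^ φ := Nat.pow_le_pow_left h1 φ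
  rw [mul_pow, mul_pow] at h2
  have h3 : q ^ φ * (K * Q ^ j) ≤ (q - 1) ^ φ * Q ^ φ := (Nat.mul_le_mul_left _ h).trans h2
  have h4 : (K * q ^ j) * Q ^ φ ≤ q ^ φ * (K * Q ^ j) := by
    obtain ⟨d, rfl⟩ := Nat.exists_eq_add_of_le hj
    have h5 : Q ^ d ≤ q ^ d := Nat.pow_le_pow_left hq d
    calc K * q ^ j * Q ^ (j + d) = K * q ^ j * Q ^ j * Q ^ d := by rw [pow_add]; ring
      _ ≤ K * q ^ j * Q ^ j * q ^ d := Nat.mul_le_mul_left _ h5
      _ = _ := by rw [pow_add]; ring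
  exact Nat.le_of_mul_le_mul_right (h4.trans h3) (by positivity)

theorem Ph_gt {e q : ℕ} (he : 2 ≤ e) (hq : 2 ≤ q) : (q - 1) ^ e.totient < Ph e q :=
  Polynomial.sub_one_pow_totient_lt_natAbs_cyclotomic_eval (by omega) (by omega)

/-- **Contradiction for large `q`.** -/
theorem ana {q n : ℕ} {E : List ℕ} {Nf : ℕ → ℕ} {g b0 u : ℕ} {I : List ℕ} (hX : XD Nf g b0 I)
    (h : Num q n E (Nf u) g u I) (hu : 3 ≤ u) (ho : Odd u) {e P Q : ℕ} (he : e ∈ E) (he3 : 3 ≤ e) (hP : P.Prime)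
    (hPe : P ∣ e) (hmax : ∀ s : ℕ, s.Prime → s ∣ e → s ≤ P) (hQ2 : 2 ≤ Q) (hQ : Q ≤ q) (hφ : n - mb b0 ≤ e.totient)
    (hc : P * 2 * (3 * g * 2 ^ b0) * Q ^ (n - mb b0) ≤ (Q - 1) ^ e.totient) : False := by
  obtain ⟨B, hB, hle⟩ := exists_prim (q := q) (by omega) he3 hP hPe hmax
  have h1 := pow_mono (by omega) hQ hφ hc
  have h2 := Ph_gt (e := e) (by omega) (show 2 ≤ q by omega)
  have h3 : P * 2 * (3 * g * 2 ^ b0) * q ^ (n - mb b0) < B * P := h1.trans_lt (h2.trans_le hle)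
  have h4 : 2 * (3 * g * 2 ^ b0 * q ^ (n - mb b0)) < B := by
    have : P * (2 * (3 * g * 2 ^ b0 * q ^ (n - mb b0))) < P * B := by
      calc P * (2 * (3 * g * 2 ^ b0 * q ^ (n - mb b0))) = P * 2 * (3 * g * 2 ^ b0) * q ^ (n - mb b0) := by ring
        _ < _ := h3
        _ = _ := mul_comm _ _
    exact Nat.lt_of_mul_lt_mul_left this
  have hg := hX.pos
  have h5 : 0 < 3 * g * 2 ^ b0 * q ^ (n - mb b0) := by
    have : 0 < q := by omega
    positivity
  obtain ⟨m, hm, hd⟩ := h.cls e he B (by omega) hB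
  have h6 := hX.le u hu m hm
  obtain ⟨-, h7⟩ := h.up b0 (hX.two u ho)
  have h8 : 0 < Pn m u := by
    rw [Nat.pos_iff_ne_zero]
    intro h0
    have h9 := cast_Pn (show 2 ≤ u by omega) m
    rw [h0] at hd
    have h10 : ∀ v : ℤ, 3 ≤ v → 0 < Pz m v := by
      intro v hv
      unfold Pz
      have p1 : ∀ a b : ℕ, a ≤ b → v ^ a ≤ v ^ b := fun a b hab => pow_le_pow_right₀ (by omega) hab
      split <;> first | positivity | skip
      · nlinarith
      · have := p1 2 4 (by norm_num); omega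
      · have := p1 5 6 (by norm_num); have := p1 3 4 (by norm_num); have := p1 1 2 (by norm_num)
        rw [pow_one] at this; omega
      · have := p1 7 8 (by norm_num); have := p1 4 5 (by norm_num); have := p1 1 3 (by norm_num)
        rw [pow_one] at this; omega
      · have := p1 3 6 (by norm_num); omega
      · have := p1 6 8 (by norm_num); have := p1 2 4 (by norm_num); omega
      · have := p1 4 8 (by norm_num); omega
      · have a1 := p1 5 7 (by norm_num)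
        have a2 : v ^ 4 + v ^ 3 ≤ v ^ 8 := by
          have a3 : v ^ 8 = v ^ 4 * v ^ 4 := by ring
          have a4 := p1 3 4 (by norm_num)
          have a5 : 2 ≤ v ^ 4 := by
            have : (3 : ℤ) ^ 4 ≤ v ^ 4 := pow_le_pow_left₀ (by norm_num) hv 4
            omega
          nlinarith
        omega
    have h11 := h10 u (by exact_mod_cast hu)
    rw [← h9, h0] at h11
    simp at h11
  have h9 := Nat.le_of_dvd h8 hd
  omega

/-! ### small `q` -/

/-- all values of a test -/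
def chkAll (f : ℕ → Bool) : ℕ → Bool
  | 0 => true
  | k + 1 => f k && chkAll f k

theorem chkAll_spec {f : ℕ → Bool} {K : ℕ} (h : chkAll f K = true) : ∀ k, k < K → f k = true := by
  induction K with
  | zero => intro k hk; omega
  | succ K ih =>
    intro k hk
    rw [chkAll, Bool.and_eq_true] at h
    rcases Nat.lt_succ_iff_lt_or_eq.1 hk with h1 | rfl
    · exact ih h.2 k h1
    · exact h.1

/-- some exponent `b ≤ k` violates the upper bound -/
def badB (n q c N : ℕ) : ℕ → Bool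
  | 0 => Nat.blt (c * q ^ n) N
  | k + 1 => (Nat.beq (N % 2 ^ (k + 1)) 0 && (Nat.blt n (mb (k + 1)) || Nat.blt (c * 2 ^ (k + 1) * q ^ (n - mb (k + 1))) N)) ||
      badB n q c N k

/-- the test for one value of `u` -/
def ok (n q c : ℕ) (Nf : ℕ → ℕ) (I Bs : List ℕ) (u : ℕ) : Bool :=
  badB n q c (Nf u) 12 || Bs.any fun B => I.all fun m => !(Nat.beq (Pn m u % B) 0)

/-- primitive divisors -/
def primB (q e B : ℕ) : Bool :=
  Nat.blt 1 B && Nat.beq ((q ^ e - 1) % B) 0 && chkAll (fun i => Nat.beq i 0 || Nat.beq (Nat.gcd B (q ^ i - 1)) 1) e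

theorem primB_spec {q e B : ℕ} (h : primB q e B = true) : 1 < B ∧ Prim q e B := by
  simp only [primB, Bool.and_eq_true] at h
  obtain ⟨⟨h1, h2⟩, h3⟩ := h
  refine ⟨Nat.le_of_ble_eq_true h1, Nat.dvd_of_mod_eq_zero (Nat.eq_of_beq_eq_true h2), fun i hi hie => ?_⟩
  have h4 := chkAll_spec h3 i hie
  rw [Bool.or_eq_true] at h4
  rcases h4 with h4 | h4
  · have := Nat.eq_of_beq_eq_true h4
    omega
  · exact Nat.eq_of_beq_eq_true h4

theorem badB_spec {n q g N k : ℕ} (h : badB n q (3 * g) N k = true)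
    (hup : ∀ b : ℕ, 2 ^ b ∣ N → mb b ≤ n ∧ N ≤ 3 * g * 2 ^ b * q ^ (n - mb b)) : False := by
  induction k with
  | zero =>
    obtain ⟨-, h1⟩ := hup 0 (by simp)
    simp only [badB, Nat.blt, Nat.ble_eq] at h
    simp only [pow_zero, mul_one] at h1
    change N ≤ 3 * g * q ^ (n - 0) at h1
    rw [Nat.sub_zero] at h1
    omega
  | succ k ih =>
    simp only [badB, Bool.or_eq_true, Bool.and_eq_true, Nat.blt, Nat.ble_eq] at h
    rcases h with ⟨h1, h2⟩ | h
    · obtain ⟨h3, h4⟩ := hup (k + 1) (Nat.dvd_of_mod_eq_zero (Nat.eq_of_beq_eq_true h1))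
      rcases h2 with h2 | h2 <;> omega
    · exact ih h

/-- **Contradiction for a given `q`, with exceptions.** -/
theorem finE {q n : ℕ} {E : List ℕ} {Nf : ℕ → ℕ} {g b0 u : ℕ} {I : List ℕ} (hX : XD Nf g b0 I)
    (h : Num q n E (Nf u) g u I) (hu : 3 ≤ u) (ho : Odd u) (Bs : List (ℕ × ℕ)) (K : ℕ) (X : List ℕ)
    (hBs : (Bs.all fun p => decide (p.1 ∈ E) && primB q p.1 p.2) = true)
    (hK : Nat.blt (3 * g * 2 ^ b0 * q ^ (n - mb b0)) (Nf (2 * K + 3)) = true)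
    (hall : chkAll (fun k => ok n q (3 * g) Nf I (Bs.map Prod.snd) (2 * k + 3) || decide (2 * k + 3 ∈ X)) K = true) :
    u ∈ X := by
  obtain ⟨k, hk⟩ : ∃ k, u = 2 * k + 3 := by
    obtain ⟨k, hk⟩ := ho
    exact ⟨k - 1, by omega⟩
  by_cases hkK : k < K
  · have h1 := chkAll_spec hall k hkK
    rw [← hk, ok, Bool.or_eq_true, Bool.or_eq_true] at h1
    rcases h1 with (h1 | h1) | h1
    · exact (badB_spec h1 h.up).elim
    · exfalso
      rw [List.any_eq_true] at h1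
      obtain ⟨B, hB, h2⟩ := h1
      obtain ⟨⟨e, B'⟩, hp, rfl⟩ := List.mem_map.1 hB
      rw [List.all_eq_true] at hBs
      have h3 := hBs _ hp
      rw [Bool.and_eq_true, decide_eq_true_eq] at h3
      obtain ⟨h4, h5⟩ := primB_spec h3.2
      obtain ⟨m, hm, hd⟩ := h.cls e h3.1 _ h4 h5
      rw [List.all_eq_true] at h2
      have h6 := h2 m hm
      have h7 : Pn m u % B' = 0 := Nat.mod_eq_zero_of_dvd hd
      simp [h7] at h6
    · exact of_decide_eq_true h1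
  · have h1 := hX.mono (2 * K + 3) u (by omega) (by omega)
    obtain ⟨-, h2⟩ := h.up b0 (hX.two u ho)
    simp only [Nat.blt, Nat.ble_eq] at hK
    omega

/-- **Contradiction for a given `q`.** -/
theorem fin {q n : ℕ} {E : List ℕ} {Nf : ℕ → ℕ} {g b0 u : ℕ} {I : List ℕ} (hX : XD Nf g b0 I)
    (h : Num q n E (Nf u) g u I) (hu : 3 ≤ u) (ho : Odd u) (Bs : List (ℕ × ℕ)) (K : ℕ)
    (hBs : (Bs.all fun p => decide (p.1 ∈ E) && primB q p.1 p.2) = true)
    (hK : Nat.blt (3 * g * 2 ^ b0 * q ^ (n - mb b0)) (Nf (2 * K + 3)) = true)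
    (hall : chkAll (fun k => ok n q (3 * g) Nf I (Bs.map Prod.snd) (2 * k + 3)) K = true) : False := by
  refine List.not_mem_nil (finE hX h hu ho Bs K [] hBs hK ?_)
  have h1 := chkAll_spec hall
  clear hK hall
  induction K with
  | zero => rfl
  | succ K ih =>
    rw [chkAll, Bool.and_eq_true]
    exact ⟨by rw [h1 K (Nat.lt_succ_self K), Bool.true_or], ih fun k hk => h1 k (by omega)⟩

/-- **Contradiction for large `q`, two classes, one factor.** -/
theorem ana2 {q n : ℕ} {E : List ℕ} {Nf : ℕ → ℕ} {g b0 u m : ℕ} (hX : XD Nf g b0 [m])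
    (h : Num q n E (Nf u) g u [m]) (hu : 3 ≤ u) (ho : Odd u) {e e' P P' Q : ℕ} (he : e ∈ E) (he' : e' ∈ E)
    (hlt : e' < e) (he3 : 3 ≤ e') (hP : P.Prime) (hP' : P'.Prime)
    (hPe : P ∣ e) (hmax : ∀ s : ℕ, s.Prime → s ∣ e → s ≤ P)
    (hPe' : P' ∣ e') (hmax' : ∀ s : ℕ, s.Prime → s ∣ e' → s ≤ P') (hQ2 : 2 ≤ Q) (hQ : Q ≤ q)
    (hφ : n - mb b0 ≤ e.totient + e'.totient) (hpos : 0 < Pn m u) (hq1 : P < (Q - 1) ^ e.totient)
    (hq2 : P' < (Q - 1) ^ e'.totient)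
    (hc : P * P' * 2 * (3 * g * 2 ^ b0) * Q ^ (n - mb b0) ≤ (Q - 1) ^ (e.totient + e'.totient)) : False := by
  obtain ⟨B, hB, hle⟩ := exists_prim (q := q) (by omega) (by omega) hP hPe hmax
  obtain ⟨B', hB', hle'⟩ := exists_prim (q := q) (by omega) he3 hP' hPe' hmax'
  have h1 := pow_mono (by omega) hQ hφ hc
  have h2 := Ph_gt (e := e) (by omega) (show 2 ≤ q by omega)
  have h2' := Ph_gt (e := e') (by omega) (show 2 ≤ q by omega)
  have hQq : Q - 1 ≤ q - 1 := by omega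
  have b1 : 1 < B := by
    have h3 : P < B * P := (hq1.trans_le (Nat.pow_le_pow_left hQq _)).trans (h2.trans_le hle)
    have h4 : P * 1 < P * B := by rw [mul_one, mul_comm P B]; exact h3
    exact Nat.lt_of_mul_lt_mul_left h4
  have b2 : 1 < B' := by
    have h3 : P' < B' * P' := (hq2.trans_le (Nat.pow_le_pow_left hQq _)).trans (h2'.trans_le hle')
    have h4 : P' * 1 < P' * B' := by rw [mul_one, mul_comm P' B']; exact h3
    exact Nat.lt_of_mul_lt_mul_left h4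
  obtain ⟨m1, hm1, hd1⟩ := h.cls e he B b1 hB
  obtain ⟨m2, hm2, hd2⟩ := h.cls e' he' B' b2 hB'
  rw [List.mem_singleton] at hm1 hm2
  rw [hm1] at hd1
  rw [hm2] at hd2
  have hcop : Nat.Coprime B B' := Nat.Coprime.coprime_dvd_right hB'.1 (hB.2 e' (by omega) hlt)
  have h5 := Nat.le_of_dvd hpos (hcop.mul_dvd_of_dvd_of_dvd hd1 hd2)
  have h6 := hX.le u hu m (List.mem_singleton.2 rfl)
  obtain ⟨-, h7⟩ := h.up b0 (hX.two u ho)
  have h8 : (q - 1) ^ (e.totient + e'.totient) < (B * P) * (B' * P') := by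
    rw [pow_add]
    exact Nat.mul_lt_mul'' (h2.trans_le hle) (h2'.trans_le hle')
  have h9 : P * P' * (2 * (3 * g * 2 ^ b0 * q ^ (n - mb b0))) < P * P' * (B * B') := by
    calc P * P' * (2 * (3 * g * 2 ^ b0 * q ^ (n - mb b0))) = P * P' * 2 * (3 * g * 2 ^ b0) * q ^ (n - mb b0) := by ring
      _ ≤ _ := h1
      _ < _ := h8
      _ = _ := by ring
  have h10 := Nat.lt_of_mul_lt_mul_left h9
  omega

/-- the largest prime divisor -/
theorem hmax_of {e P : ℕ} (he : 0 < e) (h : ∀ s : ℕ, s < e + 1 → s.Prime → s ∣ e → s ≤ P) :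
    ∀ s : ℕ, s.Prime → s ∣ e → s ≤ P :=
  fun s hs hd => h s (Nat.lt_succ_of_le (Nat.le_of_dvd he hd)) hs hd

end Cfsg.Agent.H77.E4Fin
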