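import Cfsg.Agent.H77.E4XD
import Cfsg.Agent.H77.E4Cls
import Cfsg.Agent.H403.S88.Def

/-!
# From the frame to the numerical hypotheses (helper77)

* `LL q n E L` : what is used of `L`;
* `FrS L S` : what is used of the section `S`; `frS_of` : from `H403.S88.Fr`;
* `LL.lh` : `LH q n E S`; `num_of` : the numerical hypotheses.
-/

set_option autoImplicit false

namespace Cfsg.Agent.H77.E4Frame

open Cfsg.Agent.H403 Cfsg.Agent.H77.E4Num Cfsg.Agent.H77.E4Poly Cfsg.Agent.H588.ZsigPart Cfsg.Agent.H77.E4Fin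
open Cfsg.Agent.H77.E4Cls

/-- what is used of `L` -/
structure LL (q n : ℕ) (E : List ℕ) (L : Type*) [Group L] : Prop where
  even : Even q
  pos : 0 < q
  ub : ∀ y : L, UB q n (orderOf y)
  ex : ∀ e ∈ E, ∀ B : ℕ, 1 < B → Prim q e B → ∃ y : L, orderOf y = B
  two : ∀ e ∈ E, ∀ r : ℕ, r.Prime → orderOf (q : ZMod r) = e → ¬ ∃ y : L, orderOf y = 2 * r
  elarge : ∀ e ∈ E, 1 ≤ e
  el : ∀ k B : ℕ, 1 ≤ k → k < n → Odd B → B ∣ q ^ k - 1 ∨ B ∣ q ^ k + 1 → ∃ y : L, orderOf y = B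

/-- what is used of the section -/
structure FrS (L S : Type*) [Group L] [Group S] : Prop where
  sub : ∀ x : S, ∃ y : L, orderOf y = orderOf x
  coc : ∀ a b c : ℕ, a.Prime → b.Prime → c.Prime → a ∣ Nat.card L → b ∣ Nat.card L → c ∣ Nat.card L → a ≠ b → a ≠ c →
    b ≠ c → (¬ ∃ x : L, orderOf x = a * b) → (¬ ∃ x : L, orderOf x = a * c) → (¬ ∃ x : L, orderOf x = b * c) →
    a ∣ Nat.card S ∨ b ∣ Nat.card S
  two : ∀ B : ℕ, Odd B → (∃ y : L, orderOf y = B) → (∀ r : ℕ, r.Prime → r ∣ B → ¬ ∃ y : L, orderOf y = 2 * r) →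
    ∃ x : S, orderOf x = B
  full : ∀ B : ℕ, (∃ y : L, orderOf y = B) → (∀ r : ℕ, r.Prime → r ∣ B → ∃ a c : ℕ, a.Prime ∧ c.Prime ∧
    a ∣ Nat.card L ∧ c ∣ Nat.card L ∧ a ≠ r ∧ a ≠ c ∧ r ≠ c ∧ (¬ ∃ x : L, orderOf x = a * r) ∧
    (¬ ∃ x : L, orderOf x = a * c) ∧ (¬ ∃ x : L, orderOf x = r * c) ∧ ¬ a ∣ Nat.card S) → ∃ x : S, orderOf x = B

theorem prim_order {q e B r : ℕ} (hq : 0 < q) (he : 1 ≤ e) (h : Prim q e B) (hr : r.Prime) (hd : r ∣ B) :
    orderOf (q : ZMod r) = e := by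
  have key : ∀ m : ℕ, (q : ZMod r) ^ m = 1 ↔ r ∣ q ^ m - 1 := by
    intro m
    have h1 : 1 ≤ q ^ m := Nat.one_le_pow _ _ hq
    rw [← ZMod.natCast_eq_zero_iff, Nat.cast_sub h1, Nat.cast_pow, Nat.cast_one, sub_eq_zero]
  have h1 : (q : ZMod r) ^ e = 1 := (key e).2 (hd.trans h.1)
  apply Nat.le_antisymm (Nat.le_of_dvd he (orderOf_dvd_of_pow_eq_one h1))
  by_contra hlt
  rw [not_le] at hlt
  have h2 : 1 ≤ orderOf (q : ZMod r) := orderOf_pos_iff.2 (isOfFinOrder_iff_pow_eq_one.2 ⟨e, he, h1⟩)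
  have h3 := h.2 _ h2 hlt
  have h4 : r ∣ q ^ orderOf (q : ZMod r) - 1 := (key _).1 (pow_orderOf_eq_one _)
  have h5 := Nat.dvd_gcd hd h4
  rw [h3] at h5
  exact hr.one_lt.ne' (Nat.dvd_one.1 h5)

theorem prim_odd {q e B : ℕ} (hq : Even q) (hq0 : 0 < q) (he : 1 ≤ e) (h : Prim q e B) : Odd B := by
  rw [← Nat.not_even_iff_odd, even_iff_two_dvd]
  intro h2
  have h1 : 2 ∣ q ^ e - 1 := h2.trans h.1
  have h3 : 2 ∣ q ^ e := (even_iff_two_dvd.1 hq).trans (dvd_pow_self q (by omega))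
  have h4 : 1 ≤ q ^ e := Nat.one_le_pow _ _ hq0
  omega

/-- a product of commuting elements -/
theorem exists_of_adj {S : Type*} [Group S] {r s : ℕ} (h : H94.PG.Adj S r s) : ∃ x : S, orderOf x = r * s := by
  obtain ⟨hr, hs, hne, x, y, hx, hy, hc⟩ := h
  refine ⟨x * y, ?_⟩
  rw [hc.orderOf_mul_eq_mul_orderOf_of_coprime (by rw [hx, hy]; exact (Nat.coprime_primes hr hs).2 hne), hx, hy]

theorem LL.lh {q n : ℕ} {E : List ℕ} {L S : Type*} [Group L] [Group S] (h : LL q n E L) (F : FrS L S) : LH q n E S := by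
  constructor
  · intro x
    obtain ⟨y, hy⟩ := F.sub x
    rw [← hy]
    exact h.ub y
  · intro e he B hB hp
    have ho := prim_odd h.even h.pos (h.elarge e he) hp
    have hnon : ∀ r : ℕ, r.Prime → r ∣ B → ¬ ∃ y : L, orderOf y = 2 * r := fun r hr hd =>
      h.two e he r hr (prim_order h.pos (h.elarge e he) hp hr hd)
    refine ⟨F.two B ho (h.ex e he B hB hp) hnon, fun r hr hd => ⟨?_, fun ha => ?_⟩⟩
    · rintro rfl
      exact (Nat.not_even_iff_odd.2 ho) (even_iff_two_dvd.2 hd)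
    · obtain ⟨x, hx⟩ := exists_of_adj ha
      obtain ⟨y, hy⟩ := F.sub x
      exact hnon r hr hd ⟨y, by rw [hy, hx, mul_comm]⟩

/-- **The numerical hypotheses.** -/
theorem num_of {q n : ℕ} {E : List ℕ} {S : Type*} [Group S] [Finite S] {N g u : ℕ} {I : List ℕ} (h : LH q n E S)
    (hS : ExS S N g u I) (hg : Odd g) : Num q n E N g u I := by
  constructor
  · intro b hb
    obtain ⟨x, hx⟩ := hS.big
    exact num_up hg (h.ub x) (orderOf_pos x) hx b hb
  · intro e he B hB hp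
    obtain ⟨⟨x, hx⟩, h2⟩ := h.cls e he B hB hp
    obtain ⟨m, hm, hd⟩ := hS.cls x (by rw [hx]; exact hB) (fun r hr hrd => h2 r hr (by rwa [hx] at hrd))
    exact ⟨m, hm, by rwa [hx] at hd⟩

/-! ### The frame of `H403.S88` -/

section

variable {L G : Type*} [Group L] [Group G] [Finite L] [Finite G] {K : Subgroup G} [K.Normal] {S : Subgroup (G ⧸ K)}

omit [Finite L] [Finite G] in
theorem card_split (K : Subgroup G) [K.Normal] (S : Subgroup (G ⧸ K)) :
    Nat.card G = Nat.card ↥K * (Nat.card ↥S * S.index) := by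
  rw [Subgroup.card_mul_index, mul_comm, ← Subgroup.card_eq_card_quotient_mul_card_subgroup]

theorem dvd_iff_of (hsp : ∀ m : ℕ, (∃ g : G, orderOf g = m) ↔ ∃ g : L, orderOf g = m) {w : ℕ} (hw : w.Prime) :
    w ∣ Nat.card G ↔ w ∣ Nat.card L := by
  have := Fact.mk hw
  constructor
  · intro h
    obtain ⟨g, hg⟩ := (hsp w).1 (exists_prime_orderOf_dvd_card' w h)
    rw [← hg]
    exact orderOf_dvd_natCard g
  · intro h
    obtain ⟨g, hg⟩ := (hsp w).2 (exists_prime_orderOf_dvd_card' w h)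
    rw [← hg]
    exact orderOf_dvd_natCard g

omit [Finite L] in
theorem dvd_sec {w : ℕ} (hw : w.Prime) (h : w ∣ Nat.card G) (h1 : ¬ w ∣ Nat.card ↥K * S.index) : w ∣ Nat.card ↥S := by
  rw [card_split K S] at h
  rcases hw.dvd_mul.1 h with h | h
  · exact absurd (h.mul_right _) h1
  · rcases hw.dvd_mul.1 h with h | h
    · exact h
    · exact absurd (h.mul_left _) h1

omit [Finite L] in
theorem sub_of (x : ↥S) : ∃ g : G, orderOf g = orderOf x := by
  obtain ⟨g, hg⟩ := QuotientGroup.mk'_surjective K (x : G ⧸ K)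
  have h1 : orderOf x ∣ orderOf g := by
    rw [← Subgroup.orderOf_coe x, ← hg]
    exact orderOf_map_dvd _ g
  obtain ⟨c, hc⟩ := h1
  have hpos := orderOf_pos g
  have hc0 : c ≠ 0 := by
    rintro rfl
    omega
  refine ⟨g ^ c, ?_⟩
  rw [orderOf_pow_of_dvd hc0 ⟨orderOf x, by rw [hc, mul_comm]⟩, hc, Nat.mul_div_cancel _ (Nat.pos_of_ne_zero hc0)]

omit [Finite L] in
/-- an element of order prime to `|K|` and the index of `S` -/
theorem two_of [S.Normal] {g : G} (h1 : Nat.Coprime (orderOf g) (Nat.card ↥K)) (h2 : Nat.Coprime (orderOf g) S.index) :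
    ∃ x : ↥S, orderOf x = orderOf g := by
  have h3 : orderOf (QuotientGroup.mk' K g) = orderOf g := by
    apply Nat.dvd_antisymm (orderOf_map_dvd _ g)
    apply orderOf_dvd_of_pow_eq_one
    set k := orderOf (QuotientGroup.mk' K g)
    have h4 : g ^ k ∈ K := by
      rw [← QuotientGroup.eq_one_iff, QuotientGroup.mk_pow]
      exact pow_orderOf_eq_one (QuotientGroup.mk' K g)
    have h5 : orderOf (g ^ k) ∣ Nat.card ↥K := by
      have := orderOf_dvd_natCard (⟨g ^ k, h4⟩ : ↥K)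
      rwa [Subgroup.orderOf_mk] at this
    have h6 : orderOf (g ^ k) ∣ orderOf g := orderOf_pow_dvd k
    have h7 : orderOf (g ^ k) ∣ 1 := by
      have := Nat.dvd_gcd h6 h5
      rwa [h1] at this
    exact orderOf_eq_one_iff.1 (Nat.dvd_one.1 h7)
  have h4 : QuotientGroup.mk' K g ∈ S := by
    rw [← QuotientGroup.eq_one_iff, ← orderOf_eq_one_iff, ← Nat.dvd_one]
    have h5 : orderOf ((QuotientGroup.mk' K g : G ⧸ K) : (G ⧸ K) ⧸ S) ∣ S.index := by
      rw [Subgroup.index_eq_card]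
      exact orderOf_dvd_natCard _
    have h6 : orderOf ((QuotientGroup.mk' K g : G ⧸ K) : (G ⧸ K) ⧸ S) ∣ orderOf g := by
      have := orderOf_map_dvd (QuotientGroup.mk' S) (QuotientGroup.mk' K g)
      rw [h3] at this
      exact this
    have := Nat.dvd_gcd h6 h5
    rwa [h2] at this
  exact ⟨⟨_, h4⟩, by rw [Subgroup.orderOf_mk, h3]⟩

/-- **From the frame.** -/
theorem frS_of (hsp : ∀ m : ℕ, (∃ g : G, orderOf g = m) ↔ ∃ g : L, orderOf g = m) (R : S88.Fr K S)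
    (hna : ¬ (Nonempty (↥S ≃* alternatingGroup (Fin 7)) ∨
      ∃ (F : Type) (_ : Field F) (_ : Fintype F), Odd (Fintype.card F) ∧
        Nonempty (↥S ≃* Matrix.ProjectiveSpecialLinearGroup (Fin 2) F))) : FrS L ↥S := by
  refine ⟨fun x => ?_, ?_, ?_, ?_⟩
  · obtain ⟨g, hg⟩ := sub_of x
    obtain ⟨y, hy⟩ := (hsp _).1 ⟨g, rfl⟩
    exact ⟨y, by rw [hy, hg]⟩
  · intro a b c ha hb hc haL hbL hcL hab hac hbc h1 h2 h3
    have h4 := R.coc a b c ha hb hc ((dvd_iff_of hsp ha).2 haL) ((dvd_iff_of hsp hb).2 hbL) ((dvd_iff_of hsp hc).2 hcL)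
      hab hac hbc (fun h => h1 ((hsp _).1 h)) (fun h => h2 ((hsp _).1 h)) (fun h => h3 ((hsp _).1 h))
    by_contra hcon
    rw [not_or] at hcon
    apply h4
    constructor
    · by_contra h5
      exact hcon.1 (dvd_sec ha ((dvd_iff_of hsp ha).2 haL) h5)
    · by_contra h5
      exact hcon.2 (dvd_sec hb ((dvd_iff_of hsp hb).2 hbL) h5)
  · intro B hB hex hnon
    have hn := R.norm
    obtain ⟨g, hg⟩ := (hsp B).2 hex
    have h1 := R.two.resolve_left hna
    have h2 : ∀ r : ℕ, r.Prime → r ∣ B → ¬ r ∣ Nat.card ↥K ∧ ¬ r ∣ S.index := by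
      intro r hr hd
      refine h1 r hr ?_ ?_ fun h => hnon r hr hd ((hsp _).1 h)
      · rintro rfl
        exact (Nat.not_even_iff_odd.2 hB) (even_iff_two_dvd.2 hd)
      · rw [← hg] at hd
        exact hd.trans (orderOf_dvd_natCard g)
    have h3 : ∀ c : ℕ, (∀ r : ℕ, r.Prime → r ∣ B → ¬ r ∣ c) → Nat.Coprime (orderOf g) c := by
      intro c hc
      rw [hg]
      by_contra hcop
      obtain ⟨r, hr, hrm, hri⟩ := Nat.Prime.not_coprime_iff_dvd.1 hcop
      exact hc r hr hrm hri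
    obtain ⟨x, hx⟩ := two_of (S := S) (h3 _ fun r hr hd => (h2 r hr hd).1) (h3 _ fun r hr hd => (h2 r hr hd).2)
    exact ⟨x, by rw [hx, hg]⟩
  · intro B hex hnon
    have hn := R.norm
    obtain ⟨g, hg⟩ := (hsp B).2 hex
    have h2 : ∀ r : ℕ, r.Prime → r ∣ B → ¬ r ∣ Nat.card ↥K ∧ ¬ r ∣ S.index := by
      intro r hr hd
      obtain ⟨a, c, ha, hc, haL, hcL, har, hac, hrc, h1, h2, h3, haS⟩ := hnon r hr hd
      have hrG : r ∣ Nat.card G := by
        rw [← hg] at hd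
        exact hd.trans (orderOf_dvd_natCard g)
      have h4 := R.coc a r c ha hr hc ((dvd_iff_of hsp ha).2 haL) hrG ((dvd_iff_of hsp hc).2 hcL)
        har hac hrc (fun h => h1 ((hsp _).1 h)) (fun h => h2 ((hsp _).1 h)) (fun h => h3 ((hsp _).1 h))
      have h5 : a ∣ Nat.card ↥K * S.index := by
        by_contra h5
        exact haS (dvd_sec ha ((dvd_iff_of hsp ha).2 haL) h5)
      have h6 : ¬ r ∣ Nat.card ↥K * S.index := fun h => h4 ⟨h5, h⟩
      exact ⟨fun h => h6 (h.mul_right _), fun h => h6 (h.mul_left _)⟩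
    have h3 : ∀ c : ℕ, (∀ r : ℕ, r.Prime → r ∣ B → ¬ r ∣ c) → Nat.Coprime (orderOf g) c := by
      intro c hc
      rw [hg]
      by_contra hcop
      obtain ⟨r, hr, hrm, hri⟩ := Nat.Prime.not_coprime_iff_dvd.1 hcop
      exact hc r hr hrm hri
    obtain ⟨x, hx⟩ := two_of (S := S) (h3 _ fun r hr hd => (h2 r hr hd).1) (h3 _ fun r hr hd => (h2 r hr hd).2)
    exact ⟨x, by rw [hx, hg]⟩

end

end Cfsg.Agent.H77.E4Frame
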