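import Cfsg.Agent.H77.E4Main

/-!
# The survivors of the numerical comparison (helper77)
-/

set_option autoImplicit false

namespace Cfsg.Agent.H77.E4Kill

open Cfsg Cfsg.Agent.H403 Cfsg.Agent.H77.E4Num Cfsg.Agent.H77.E4Fin Cfsg.Agent.H77.E4XD Cfsg.Agent.H77.E4Frame
open Cfsg.Agent.H77.E4L Cfsg.Agent.H77.E4Coc Cfsg.Agent.H77.E4Cls Cfsg.Agent.H200.STwo Cfsg.Agent.H77.E4Main

universe u

variable {m n : ℕ} {L : Type u} [Group L] {S : Type*} [Group S] [Finite S] {T : S88.Ty}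

/-- a prime of the section -/
theorem ub_prime (C : Ctx T m n L S) {r : ℕ} (hr : r.Prime) (hr2 : r ≠ 2) (hd : r ∣ Nat.card S) :
    ∃ k, 1 ≤ k ∧ k ≤ n ∧ r ∣ (2 ^ m) ^ (2 * k) - 1 := by
  have := Fact.mk hr
  obtain ⟨x, hx⟩ := exists_prime_orderOf_dvd_card' r hd
  obtain ⟨y, hy⟩ := C.frs.sub x
  exact (C.ll.ub y).dvd r hr hr2 (by rw [hy, hx])

theorem not_dvd (C : Ctx T 1 n L S) {r : ℕ} (hr : r.Prime) (hr2 : r ≠ 2)
    (h : ((List.range n).all fun k => !(Nat.beq ((2 ^ (2 * (k + 1)) - 1) % r) 0)) = true) : ¬ r ∣ Nat.card S := by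
  intro hd
  obtain ⟨k, h1, h2, h3⟩ := ub_prime C hr hr2 hd
  rw [pow_one] at h3
  rw [List.all_eq_true] at h
  have h4 := h (k - 1) (List.mem_range.2 (by omega))
  rw [show k - 1 + 1 = k by omega, Nat.mod_eq_zero_of_dvd h3] at h4
  simp at h4

theorem sec (F : FrS L S) : Sec L (Nat.card S) := by
  refine ⟨fun w hw h => ?_, F.coc⟩
  have := Fact.mk hw
  obtain ⟨x, hx⟩ := exists_prime_orderOf_dvd_card' w h
  obtain ⟨y, hy⟩ := F.sub x
  rw [← hx, ← hy]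
  exact orderOf_dvd_natCard y

/-- a class does not occur in `c` -/
theorem not_in {c e d : ℕ} (h1 : ¬ e ∣ d) (h2 : Nat.gcd (2 ^ e - 1) c ∣ 2 ^ d - 1) : ¬ Cfsg.Agent.H425.Chr.In 2 c e := by
  rintro ⟨w, hw, hd⟩
  have h3 : w ∣ 2 ^ e - 1 := (hw.dvd_iff e).2 dvd_rfl
  exact h1 ((hw.dvd_iff d).1 ((Nat.dvd_gcd h3 hd).trans h2))

/-- `G₂(3)` and `PSp₁₂(2)` -/
theorem g2_three (C : Ctx .c 1 6 L S) (h : Nat.card S = 3 ^ 6 * (3 ^ 2 - 1) * (3 ^ 6 - 1)) : False := by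
  have h1 := (sec C.frs).miss C.fac (by norm_num) (k := 8) (l := 5) (j := 10) (by norm_num) (by norm_num) (by norm_num)
    (Or.inl ⟨by norm_num, by norm_num⟩) (Or.inr ⟨by norm_num, by norm_num⟩) (Or.inl ⟨by norm_num, by norm_num⟩)
    (by decide) (by decide) (by decide) (rat_of_lt (by norm_num) (by norm_num))
    (rat_of_lt (by norm_num) (by norm_num)).symm (rat_of_lt (by norm_num) (by norm_num)).symm
    (by norm_num) (by norm_num) (by norm_num)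
  rw [h] at h1
  rcases h1 with h1 | h1
  · exact not_in (d := 4) (by decide) (by decide +kernel) h1
  · exact not_in (d := 4) (by decide) (by decide +kernel) h1

/-- `G₂(9)` and `PSp₁₂(2)` -/
theorem g2_nine (C : Ctx .c 1 6 L S) (h : Nat.card S = 9 ^ 6 * (9 ^ 2 - 1) * (9 ^ 6 - 1)) : False := by
  refine not_dvd C (r := 73) (by norm_num) (by norm_num) (by decide +kernel) ?_
  rw [h]
  exact Nat.dvd_of_mod_eq_zero (by decide +kernel)

theorem not_1093 (C : Ctx T 1 n L S) (hn : n = 9 ∨ n = 10) (h : Nat.gcd 2 (3 - 1) * Nat.card S =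
    3 ^ 63 * (3 ^ 2 - 1) * (3 ^ 6 - 1) * (3 ^ 8 - 1) * (3 ^ 10 - 1) * (3 ^ 12 - 1) * (3 ^ 14 - 1) * (3 ^ 18 - 1)) :
    False := by
  have h1 : 1093 ∣ Nat.gcd 2 (3 - 1) * Nat.card S := by
    rw [h]
    exact Nat.dvd_of_mod_eq_zero (by decide +kernel)
  have h2 : 1093 ∣ Nat.card S := (Nat.Coprime.dvd_of_dvd_mul_left (by decide +kernel) h1)
  rcases hn with rfl | rfl
  · exact not_dvd C (r := 1093) (by norm_num) (by norm_num) (by decide +kernel) h2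
  · exact not_dvd C (r := 1093) (by norm_num) (by norm_num) (by decide +kernel) h2

theorem not_61 (C : Ctx T 1 10 L S) (h : Nat.gcd 3 (3 + 1) * Nat.card S =
    3 ^ 36 * (3 ^ 2 - 1) * (3 ^ 5 + 1) * (3 ^ 6 - 1) * (3 ^ 8 - 1) * (3 ^ 9 + 1) * (3 ^ 12 - 1)) : False := by
  have h1 : 61 ∣ Nat.gcd 3 (3 + 1) * Nat.card S := by
    rw [h]
    exact Nat.dvd_of_mod_eq_zero (by decide +kernel)
  have h2 : 61 ∣ Nat.card S := (Nat.Coprime.dvd_of_dvd_mul_left (by decide +kernel) h1)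
  exact not_dvd C (r := 61) (by norm_num) (by norm_num) (by decide +kernel) h2

end Cfsg.Agent.H77.E4Kill
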