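import Cfsg.Agent.H77.E4Frame
import Cfsg.Agent.H200.STwo.LTwo
import Cfsg.Agent.H377.ToOmega
import Cfsg.Agent.H72.AdjSp

/-!
# The facts on `PSp_2n(q)`, `Ω^±_2n(q)`, `q` even (helper77)

`ll_psp`, `ll_oplus`, `ll_ominus` : the structure `LL`.
-/

set_option autoImplicit false

namespace Cfsg.Agent.H77.E4L

open Module Cfsg Matrix QuadraticMap
open Cfsg.Agent.H403 Cfsg.Agent.H77.E4Num Cfsg.Agent.H588.ZsigPart Cfsg.Agent.H77.E4Frame
open Cfsg.Agent.LieClassical.OrthCount Cfsg.Agent.LieClassical.OmegaReindex Cfsg.Agent.LieClassical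
open Cfsg.Agent.LieClassical.OrthCore Cfsg.Agent.LieClassical.OrthForms
open Cfsg.Agent.H403.Classify

def EC (n : ℕ) : List ℕ := if n % 2 = 0 then [2 * n] else [2 * n, n]
def ED (n : ℕ) : List ℕ := if n % 2 = 0 then [2 * n - 2, n - 1] else [2 * n - 2, n]
def EM (n : ℕ) : List ℕ := if n % 2 = 0 then [2 * n, 2 * n - 2, n - 1] else [2 * n, 2 * n - 2]

variable {m n : ℕ} {F : Type} [Field F] [Fintype F]

theorem prim_minus {q e B : ℕ} (h : Prim q e B) : B ∣ q ^ e - 1 := h.1

theorem prim_plus {q k B : ℕ} (hk : 1 ≤ k) (h : Prim q (2 * k) B) : B ∣ q ^ k + 1 := by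
  have h1 := h.1
  have h2 : q ^ (2 * k) - 1 = (q ^ k + 1) * (q ^ k - 1) := by
    rw [mul_comm 2 k, pow_mul]
    have := Nat.sq_sub_sq (q ^ k) 1
    rw [one_pow] at this
    exact this
  rw [h2] at h1
  exact (h.2 k hk (by omega)).dvd_of_dvd_mul_right h1

theorem order_pow {q k r : ℕ} (hq : 0 < q) (h : orderOf (q : ZMod r) = k) : r ∣ q ^ k - 1 := by
  have h1 : 1 ≤ q ^ k := Nat.one_le_pow _ _ hq
  rw [← ZMod.natCast_eq_zero_iff, Nat.cast_sub h1, Nat.cast_pow, Nat.cast_one, sub_eq_zero, ← h]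
  exact pow_orderOf_eq_one _

section char

variable (hF : Fintype.card F = 2 ^ m)

include hF

theorem charP_two : CharP F 2 := H200.STwo.char_of_card Nat.prime_two hF

theorem card_even (hm : 1 ≤ m) : Even (Fintype.card F) := by
  rw [hF]
  exact even_two.pow_of_ne_zero (by omega)

theorem odd_of_order (hm : 1 ≤ m) {r k : ℕ} (hr : r.Prime) (h : orderOf ((Fintype.card F : ℕ) : ZMod r) = k) (hk : 1 ≤ k) :
    r ≠ 2 ∧ (r : F) ≠ 0 := by
  have h1 := order_pow Fintype.card_pos h
  have h2 : r ≠ 2 := by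
    rintro rfl
    have h3 : 2 ∣ Fintype.card F ^ k := (even_iff_two_dvd.1 (card_even hF hm)).trans (dvd_pow_self _ (by omega))
    have h4 : 1 ≤ Fintype.card F ^ k := Nat.one_le_pow _ _ Fintype.card_pos
    omega
  exact ⟨h2, H200.STwo.natCast_ne_zero Nat.prime_two hF hr h2⟩

end char

omit [Fintype F] in
/-- elements of order dividing `q ^ k ± 1`, `k < n` -/
theorem elt_gen [Finite F] {k B : ℕ} (hk : 1 ≤ k) (hkn : k < n) (hd : B ∣ Nat.card F ^ k - 1 ∨ B ∣ Nat.card F ^ k + 1) :
    ∀ ε : ℤ, (ε = 1 ∨ ε = -1) → Cfsg.Agent.H377.Elt F n ε B := by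
  intro ε hε
  rcases hd with hd | hd
  · exact Cfsg.Agent.H72.AdjOrth.elt_extend (Cfsg.Agent.H377.elt_tor_plus hk hd) (Or.inl rfl) hε (by omega)
  · exact Cfsg.Agent.H72.AdjOrth.elt_extend (Cfsg.Agent.H377.elt_tor_minus hk hd) (Or.inr rfl) hε (by omega)

/-! ### `PSp_2n(q)` -/

theorem ub_sp [CharP F 2] (M : Matrix.symplecticGroup (Fin n) F) {N : ℕ} (hN : N ∣ orderOf M)
    (he : Even (Fintype.card F)) : UB (Fintype.card F) n N := by
  obtain ⟨b, L, h1, h2, h3⟩ := exists_pow_eq_one_of_symplectic M.2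
  refine ub_of he Fintype.one_lt_card h1 h2 (hN.trans ?_)
  apply orderOf_dvd_of_pow_eq_one
  apply Subtype.ext
  rw [SubmonoidClass.coe_pow]
  exact h3

theorem ll_psp (hm : 1 ≤ m) (hF : Fintype.card F = 2 ^ m) (hn : 3 ≤ n) : LL (2 ^ m) n (EC n) (PSp n F) := by
  have := charP_two hF
  have he := card_even hF hm
  have hEC : ∀ e ∈ EC n, e = 2 * n ∨ (n % 2 = 1 ∧ e = n) := by
    intro e he
    rw [EC] at he
    split_ifs at he with h
    · simp only [List.mem_cons, List.not_mem_nil, or_false] at he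
      exact Or.inl he
    · simp only [List.mem_cons, List.not_mem_nil, or_false] at he
      omega
  rw [← hF]
  refine ⟨he, Fintype.card_pos, fun y => ?_, fun e hE B hB hp => ?_, fun e hE r hr ho => ?_, fun e hE => ?_,
    fun k B hk hkn hB hd => ?_⟩
  · obtain ⟨M, hM⟩ := (mem_range_PSp (F := F) (by omega : 1 ≤ n) _).1 ⟨y, rfl⟩
    exact ub_sp M (by rw [hM]) he
  · rw [← Nat.card_eq_fintype_card] at hp
    rcases hEC e hE with rfl | ⟨-, rfl⟩
    · exact Cfsg.Agent.H72.AdjSp.of_elt (by omega) (Cfsg.Agent.H377.elt_tor_minus (by omega) (prim_plus (by omega) hp))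
    · exact Cfsg.Agent.H72.AdjSp.of_elt (by omega) (Cfsg.Agent.H377.elt_tor_plus (by omega) (prim_minus hp))
  · have h1 : 1 ≤ e := by
      have := hEC e hE
      omega
    obtain ⟨h2, h3⟩ := odd_of_order hF hm hr ho h1
    have := Fact.mk Nat.prime_two
    rintro ⟨g, hg⟩
    have hdvd : r ∣ Nat.card (PSp n F) := (Dvd.intro_left 2 rfl).trans (hg ▸ orderOf_dvd_natCard g)
    refine (Cfsg.Agent.S2472.result (F := F) 2 n (by omega) (by omega) r hr h2 h2 hdvd e n ho.symm ?_).2 (by omega)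
      ⟨g, ?_⟩
    · rcases hEC e hE with rfl | ⟨h4, rfl⟩
      · exact Or.inr ⟨⟨n, by omega⟩, rfl⟩
      · exact Or.inl ⟨Nat.odd_iff.2 h4, rfl⟩
    · simp only [hg, mul_comm]
  · have := hEC e hE
    omega
  · rw [← Nat.card_eq_fintype_card] at hd
    have h3 := elt_gen (n := n) hk (by omega) hd
    exact Cfsg.Agent.H72.AdjSp.of_elt (by omega) (h3 1 (Or.inl rfl))

/-! ### Orthogonal groups -/

theorem ub_pomega [CharP F 2] {ι : Type} [Fintype ι] [DecidableEq ι] (Q : QuadraticForm F (ι → F)) (hQ : Nondeg Q)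
    (hι : Fintype.card ι = 2 * n) (he : Even (Fintype.card F)) (y : POmega F ⇑Q) :
    UB (Fintype.card F) n (orderOf y) := by
  obtain ⟨z, hz⟩ := QuotientGroup.mk'_surjective _ y
  have h1 : orderOf y ∣ orderOf z := by
    rw [← hz]
    exact orderOf_map_dvd _ z
  let g : isometryGroup F ⇑Q := z.1
  let M : Matrix ι ι F := g.1.1
  have hM : orderOf M = orderOf z := by
    rw [← Subgroup.orderOf_coe, ← Subgroup.orderOf_coe, ← orderOf_units]
  obtain ⟨S, hS⟩ := exists_symplectic_of_quad Q hQ (n := n) (by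
    rw [Module.finrank_fintype_fun_eq_card, hι]) (Matrix.toLinAlgEquiv' M) (fun v => g.2 v v)
  refine ub_sp S ?_ he
  rw [hS, show orderOf (Matrix.toLinAlgEquiv' M) = orderOf M from
    MulEquiv.orderOf_eq (Matrix.toLinAlgEquiv' : Matrix _ _ F ≃ₐ[F] _).toMulEquiv M, hM]
  exact h1

theorem ll_oplus (hm : 1 ≤ m) (hF : Fintype.card F = 2 ^ m) (hn : 4 ≤ n) :
    LL (2 ^ m) n (ED n) (POmega F (quadFormPlus n F)) := by
  have := charP_two hF
  have he := card_even hF hm
  have h2 := H200.STwo.two_zero (F := F) hF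
  have hED : ∀ e ∈ ED n, e = 2 * (n - 1) ∨ (n % 2 = 1 ∧ e = n) ∨ (n % 2 = 0 ∧ e = n - 1) := by
    intro e he
    rw [ED] at he
    split_ifs at he with h
    all_goals
      simp only [List.mem_cons, List.not_mem_nil, or_false] at he
      omega
  have hdim : finrank F (Fin n ⊕ Fin n → F) = 2 * n := by
    rw [finrank_fintype_fun_eq_card]
    simp
    ring
  rw [← hF]
  refine ⟨he, Fintype.card_pos, fun y => ?_, fun e hE B hB hp => ?_, fun e hE r hr ho => ?_, fun e hE => ?_,
    fun k B hk hkn hB hd => ?_⟩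
  · revert y
    rw [← coe_plusForm]
    intro y
    refine ub_pomega (plusForm n F) (nondeg_plusForm n F) ?_ he y
    simp
    ring
  · have hodd : Odd B := prim_odd he Fintype.card_pos (by have := hED e hE; omega) hp
    rw [← Nat.card_eq_fintype_card] at hp
    rcases hED e hE with rfl | ⟨-, rfl⟩ | ⟨-, rfl⟩
    · have h3 := (Cfsg.Agent.H377.elt_tor_minus (F := F) (k := n - 1) (by omega)
        (prim_plus (by omega) hp)).add (m := 1) le_rfl (ε' := -1) (Or.inr rfl)
      rw [show n - 1 + 1 = n by omega, show (-1 : ℤ) * -1 = 1 by norm_num] at h3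
      exact (h3.two (by omega) hodd).plus hn
    · exact ((Cfsg.Agent.H377.elt_tor_plus (F := F) (k := e) (by omega) (prim_minus hp)).two (by omega) hodd).plus hn
    · have h3 := (Cfsg.Agent.H377.elt_tor_plus (F := F) (k := n - 1) (by omega)
        (prim_minus hp)).add (m := 1) le_rfl (ε' := 1) (Or.inl rfl)
      rw [show n - 1 + 1 = n by omega, show (1 : ℤ) * 1 = 1 by norm_num] at h3
      exact (h3.two (by omega) hodd).plus hn
  · have h1 : 1 ≤ e := by
      have := hED e hE
      omega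
    obtain ⟨h3, h4⟩ := odd_of_order hF hm hr ho h1
    have key : ¬ ∃ g : POmega F ⇑(quadPlus n F), orderOf g = 2 * r := by
      rw [← Nat.card_eq_fintype_card] at ho
      rintro ⟨g, hg⟩
      rcases hED e hE with h | ⟨h5, h⟩ | ⟨h5, h⟩
      · exact Cfsg.Agent.H150.gen_partial_even h2 (quadPlus n F) quadPlus_nondegenerate hdim
          (Cfsg.Agent.H150.quadPlus_sing (by omega)) hr h3 h4 (by omega) ho
          (Or.inr ⟨⟨n - 1, by omega⟩, by omega⟩) g hg
      · exact Cfsg.Agent.H150.gen_full_even h2 (quadPlus n F) quadPlus_nondegenerate hdim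
          (Cfsg.Agent.H150.quadPlus_sing (by omega)) hr h3 h4 (by omega) ho
          (Or.inl ⟨Nat.odd_iff.2 (by omega), by omega⟩) g hg
      · exact Cfsg.Agent.H150.gen_partial_even h2 (quadPlus n F) quadPlus_nondegenerate hdim
          (Cfsg.Agent.H150.quadPlus_sing (by omega)) hr h3 h4 (by omega) ho
          (Or.inl ⟨Nat.odd_iff.2 (by omega), by omega⟩) g hg
    rwa [coe_quadPlus] at key
  · have := hED e hE
    omega
  · rw [← Nat.card_eq_fintype_card] at hd
    have h3 := elt_gen (n := n) hk (by omega) hd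
    exact ((h3 1 (Or.inl rfl)).two (by omega) hB).plus hn

theorem ll_ominus (hm : 1 ≤ m) (hF : Fintype.card F = 2 ^ m) (hn : 4 ≤ n) {a b : F}
    (hab : ∀ z₁ z₂ : F, z₁ ^ 2 + a * z₁ * z₂ + b * z₂ ^ 2 = 0 → z₁ = 0 ∧ z₂ = 0) :
    LL (2 ^ m) n (EM n) (POmega F (quadFormMinus (n - 1) F a b)) := by
  have := charP_two hF
  have he := card_even hF hm
  have h2 := H200.STwo.two_zero (F := F) hF
  have hEM : ∀ e ∈ EM n, e = 2 * n ∨ e = 2 * (n - 1) ∨ (n % 2 = 0 ∧ e = n - 1) := by
    intro e he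
    rw [EM] at he
    split_ifs at he with h
    all_goals
      simp only [List.mem_cons, List.not_mem_nil, or_false] at he
      omega
  have hdim : finrank F ((Fin (n - 1) ⊕ Fin (n - 1)) ⊕ Fin 2 → F) = 2 * n := by
    rw [finrank_fintype_fun_eq_card]
    simp
    omega
  rw [← hF]
  refine ⟨he, Fintype.card_pos, fun y => ?_, fun e hE B hB hp => ?_, fun e hE r hr ho => ?_, fun e hE => ?_,
    fun k B hk hkn hB hd => ?_⟩
  · revert y
    rw [← coe_minusForm]
    intro y
    refine ub_pomega (minusForm (n - 1) F a b) (nondeg_minusForm (n - 1) F a b hab) ?_ he y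
    simp
    omega
  · have hodd : Odd B := prim_odd he Fintype.card_pos (by have := hEM e hE; omega) hp
    rw [← Nat.card_eq_fintype_card] at hp
    rcases hEM e hE with rfl | rfl | ⟨-, rfl⟩
    · exact ((Cfsg.Agent.H377.elt_tor_minus (F := F) (k := n) (by omega)
        (prim_plus (by omega) hp)).two (by omega) hodd).minus hn hab
    · have h3 := (Cfsg.Agent.H377.elt_tor_minus (F := F) (k := n - 1) (by omega)
        (prim_plus (by omega) hp)).add (m := 1) le_rfl (ε' := 1) (Or.inl rfl)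
      rw [show n - 1 + 1 = n by omega, show (-1 : ℤ) * 1 = -1 by norm_num] at h3
      exact (h3.two (by omega) hodd).minus hn hab
    · have h3 := (Cfsg.Agent.H377.elt_tor_plus (F := F) (k := n - 1) (by omega)
        (prim_minus hp)).add (m := 1) le_rfl (ε' := -1) (Or.inr rfl)
      rw [show n - 1 + 1 = n by omega, show (1 : ℤ) * -1 = -1 by norm_num] at h3
      exact (h3.two (by omega) hodd).minus hn hab
  · have h1 : 1 ≤ e := by
      have := hEM e hE
      omega
    obtain ⟨h3, h4⟩ := odd_of_order hF hm hr ho h1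
    have key : ¬ ∃ g : POmega F ⇑(quadMinus (n - 1) F a b), orderOf g = 2 * r := by
      rw [← Nat.card_eq_fintype_card] at ho
      rintro ⟨g, hg⟩
      rcases hEM e hE with h | h | ⟨h5, h⟩
      · exact Cfsg.Agent.H150.gen_full_even h2 (quadMinus (n - 1) F a b) (quadMinus_nondegenerate hab) hdim
          (Cfsg.Agent.H150.quadMinus_sing (by omega) a b) hr h3 h4 (by omega) ho
          (Or.inr ⟨⟨n, by omega⟩, by omega⟩) g hg
      · exact Cfsg.Agent.H150.gen_partial_even h2 (quadMinus (n - 1) F a b) (quadMinus_nondegenerate hab) hdim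
          (Cfsg.Agent.H150.quadMinus_sing (by omega) a b) hr h3 h4 (by omega) ho
          (Or.inr ⟨⟨n - 1, by omega⟩, by omega⟩) g hg
      · exact Cfsg.Agent.H150.gen_partial_even h2 (quadMinus (n - 1) F a b) (quadMinus_nondegenerate hab) hdim
          (Cfsg.Agent.H150.quadMinus_sing (by omega) a b) hr h3 h4 (by omega) ho
          (Or.inl ⟨Nat.odd_iff.2 (by omega), by omega⟩) g hg
    rwa [coe_quadMinus] at key
  · have := hEM e hE
    omega
  · rw [← Nat.card_eq_fintype_card] at hd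
    have h3 := elt_gen (n := n) hk (by omega) hd
    exact ((h3 (-1) (Or.inr rfl)).two (by omega) hB).minus hn hab

end Cfsg.Agent.H77.E4L
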