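import Cfsg.Agent.H376.Cyc.Def
import Cfsg.Agent.H403.LinTwo
import Cfsg.Agent.H403.LinChar
import Cfsg.Agent.H403.LinTor

/-!
# `PSL_n(q)`, `PSU_n(q)`, `n ≥ 3`: the facts `LF` of S3441 (helper77)

`x = q` (`e = true`) or `x = -q` (`e = false`), `r_i` a prime modulo which `x` has order `i`.

* `Lin.not_adj_n` : `r_n` is not joined to an odd prime `s ∣ x - 1` if the `s`-part of `n` divides `x - 1`;
* `Lin.not_adj_pred` : `r_{n-1}` is not joined to a prime `s ∣ x - 1` if the `s`-part of `x - 1` divides `n`;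
* `lf_lin`, `lf_psl`, `lf_psu`.
-/

set_option autoImplicit false
set_option linter.unusedSectionVars false

namespace Cfsg.Agent.H77.LFLin

open Polynomial Function Cfsg.Agent.H403 Cfsg.Agent.H403.NumTop Cfsg.Agent.H376.Cyc

section

variable {F : Type*} [Field F] [Fintype F] {E : Type*} [Field E] [IsAlgClosed E] [Algebra F E]
variable {e : Bool} {n q : ℕ} {L : Type*} [Group L]

theorem not_dvd_q_of_AA_one {s : ℕ} (hs : s.Prime) (hq : 1 ≤ q) (h : s ∣ AA e 1 q) : ¬ s ∣ q := by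
  intro h1
  rw [AA_one] at h
  cases e with
  | true =>
    simp only [cond_true] at h
    have h2 : s ∣ q - (q - 1) := Nat.dvd_sub h1 h
    have h3 : q - (q - 1) = 1 := by omega
    rw [h3] at h2
    exact hs.one_lt.ne' (Nat.dvd_one.1 h2)
  | false =>
    simp only [cond_false] at h
    have h2 : s ∣ q + 1 - q := Nat.dvd_sub h h1
    have h3 : q + 1 - q = 1 := by omega
    rw [h3] at h2
    exact hs.one_lt.ne' (Nat.dvd_one.1 h2)

/-- `ν ^ (x - 1) = ω` -/
theorem pow_AA_eq {ν ω : E} (hq : 1 ≤ q) (h0 : ν ≠ 0) (h : ν ^ xv e q = ω * ν) :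
    ν ^ AA e 1 q = ω ∨ ν ^ AA e 1 q = ω⁻¹ := by
  have h1 : ν ^ (xv e q - 1) = ω := by
    rw [zpow_sub₀ h0, h, zpow_one, mul_div_assoc, div_self h0, mul_one]
  rcases AA_eq (e := e) (i := 1) hq with h2 | h2
  · rw [pow_one] at h2
    left
    rw [← zpow_natCast, h2, h1]
  · rw [pow_one] at h2
    right
    rw [← zpow_natCast, h2, zpow_neg, h1]

/-- `r_n` is not joined to an odd prime `s` dividing `q - e1` if the `s`-part of `n` divides `q - e1` -/
theorem not_adj_n (hL : Lin E L e n q F) (hF : Fintype.card F = q ^ (cond e 0 1 + 1))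
    (hn : 2 ≤ n) {r s : ℕ} (hr : r.Prime) (hs : s.Prime) (hs2 : s ≠ 2)
    (hi : orderOf ((xv e q : ℤ) : ZMod r) = n) (hsh : s ∣ AA e 1 q)
    (hc : ∃ n', ¬ s ∣ n' ∧ n ∣ AA e 1 q * n') : ¬ ∃ g : L, orderOf g = r * s := by
  classical
  rintro ⟨g, hg⟩
  have hq : 2 ≤ q := two_le_of_card hF
  have hsq : ¬ s ∣ q := not_dvd_q_of_AA_one hs (by omega) hsh
  have hsf := Fact.mk hs
  obtain ⟨M, hdet, hM, hMk⟩ := hL g
  obtain ⟨ζ, hζ, hζ0, hζ1, hA, y, hy, hyA⟩ := nontriv hF (by omega) hM hMk hr hs.pos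
    (not_dvd_AA_one (by omega) hi hn) (not_dvd_q hr hi (by omega)) hg
  have hcard : Multiset.card (evs E M) = n := by rw [card_evs, Fintype.card_fin]
  have hper : per (xv e q) y = n := per_eq hM hy hr hi (hA y hy) hyA (by omega)
  have hR := eq_orb hM hy (by rw [hcard, hper])
  have hy0 := hM.ne_zero hy
  have hyr0 : y ^ r ≠ 0 := pow_ne_zero _ hy0
  have hsp : (y ^ r) ^ s = algebraMap F E ζ := by rw [← pow_mul]; exact pow_of_mem_evs E hζ hy
  have hζx : (algebraMap F E ζ) ^ xv e q = algebraMap F E ζ := by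
    refine fix_of_pow_AA (by omega) (fun h => hζ0 ((algebraMap F E).injective (by rw [h, map_zero]))) ?_
    rw [← map_pow, hζ1, map_one]
  obtain ⟨ω, hω⟩ : ∃ ω : E, ω = (y ^ r) ^ xv e q / y ^ r := ⟨_, rfl⟩
  have hω0 : ω ≠ 0 := by rw [hω]; exact div_ne_zero (zpow_ne_zero _ hyr0) hyr0
  have h1 : (y ^ r) ^ xv e q = ω * y ^ r := by rw [hω]; field_simp
  have hωs : ω ^ s = 1 := by
    rw [hω, div_pow, zpow_pow_comm, hsp, hζx, div_self]
    rw [← hsp]; exact pow_ne_zero _ hyr0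
  have hωx : ω ^ xv e q = ω := by
    refine fix_of_pow_AA (by omega) hω0 ?_
    obtain ⟨c, hc⟩ := hsh
    rw [hc, pow_mul, hωs, one_pow]
  have h2 := pow_iter h1 hωx n
  have h3 : (y ^ r) ^ ((xv e q) ^ n) = y ^ r := by
    rw [← zpow_pow_comm, ← hper, pow_per]
  rw [h3] at h2
  have h4 : ω ^ n = 1 := by
    have : (ω ^ n - 1) * y ^ r = 0 := by linear_combination -h2
    rcases mul_eq_zero.1 this with h | h
    · exact sub_eq_zero.1 h
    · exact absurd h hyr0
  by_cases h5 : ω = 1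
  · rw [h5, one_mul] at h1
    refine contra_one hF (by omega) hMk hr hs (natCast_ne_zero hF hs hsq) hζ hg hyr0 h1 fun z hz => ?_
    rw [hR] at hz
    obtain ⟨j, rfl⟩ := mem_orb hz
    rw [zpow_pow_comm, pow_iter (ω := 1) (by rw [one_mul]; exact h1) (one_zpow _)]
    simp
  · have ho : orderOf ω = s := orderOf_eq_prime hωs h5
    have hsn : s ∣ n := by rw [← ho]; exact orderOf_dvd_of_pow_eq_one h4
    have h6 := prod_orb h1 hωx
    rw [← hR, prod_evs, hdet, map_one, one_pow, hper, Finset.prod_mul_distrib, Finset.prod_const, Finset.card_range,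
      Finset.prod_pow_eq_pow_sum] at h6
    have h7 : s ∣ ∑ i ∈ Finset.range n, i := by
      have h8 := Finset.sum_range_id_mul_two n
      have h9 : s ∣ (∑ i ∈ Finset.range n, i) * 2 := by rw [h8]; exact Dvd.dvd.mul_right hsn _
      exact ((Nat.coprime_primes hs Nat.prime_two).2 hs2).dvd_of_dvd_mul_right h9
    have h8 : ω ^ (∑ i ∈ Finset.range n, i) = 1 := by
      obtain ⟨c, hc⟩ := h7
      rw [hc, pow_mul, hωs, one_pow]
    rw [h8, one_mul] at h6
    obtain ⟨n', hn', c, hc⟩ := hc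
    apply hn'
    rw [← ho]
    apply orderOf_dvd_of_pow_eq_one
    have h9 : ((y ^ r) ^ AA e 1 q) ^ n' = 1 := by
      rw [← pow_mul, hc, pow_mul, ← h6, one_pow]
    rcases pow_AA_eq (by omega) hyr0 h1 with h10 | h10
    · rw [h10] at h9; exact h9
    · rw [h10, inv_pow, inv_eq_one] at h9; exact h9

/-- `r_{n-1}` is not joined to a prime `s` dividing `q - e1` if the `s`-part of `q - e1` divides `n` -/
theorem not_adj_pred (hL : Lin E L e n q F) (hF : Fintype.card F = q ^ (cond e 0 1 + 1))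
    (hn : 3 ≤ n) {r s : ℕ} (hr : r.Prime) (hs : s.Prime) (hi : orderOf ((xv e q : ℤ) : ZMod r) = n - 1)
    (hsh : s ∣ AA e 1 q) (hc : ∃ h', ¬ s ∣ h' ∧ AA e 1 q ∣ n * h') : ¬ ∃ g : L, orderOf g = r * s := by
  classical
  rintro ⟨g, hg⟩
  have hq : 2 ≤ q := two_le_of_card hF
  have hsq : ¬ s ∣ q := not_dvd_q_of_AA_one hs (by omega) hsh
  have hsf := Fact.mk hs
  obtain ⟨M, hdet, hM, hMk⟩ := hL g
  obtain ⟨ζ, hζ, hζ0, hζ1, hA, y, hy, hyA⟩ := nontriv hF (by omega) hM hMk hr hs.pos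
    (not_dvd_AA_one (by omega) hi (by omega)) (not_dvd_q hr hi (by omega)) hg
  have hcard : Multiset.card (evs E M) = n := by rw [card_evs, Fintype.card_fin]
  have hper : per (xv e q) y = n - 1 := per_eq hM hy hr hi (hA y hy) hyA (by omega)
  obtain ⟨μ, hR, hμ⟩ := eq_cons_orb hM hy (by rw [hcard, hper]; omega)
  have hy0 := hM.ne_zero hy
  have hμR : μ ∈ evs E M := by rw [hR]; exact Multiset.mem_cons_self _ _
  have hμ0 := hM.ne_zero hμR
  have hyr0 : y ^ r ≠ 0 := pow_ne_zero _ hy0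
  have hμr0 : μ ^ r ≠ 0 := pow_ne_zero _ hμ0
  have hsp : (y ^ r) ^ s = algebraMap F E ζ := by rw [← pow_mul]; exact pow_of_mem_evs E hζ hy
  have hsp' : (μ ^ r) ^ s = algebraMap F E ζ := by rw [← pow_mul]; exact pow_of_mem_evs E hζ hμR
  have hμr : (μ ^ r) ^ xv e q = μ ^ r := by rw [← zpow_pow_comm, hμ]
  obtain ⟨ω, hω⟩ : ∃ ω : E, ω = y ^ r / μ ^ r := ⟨_, rfl⟩
  have hω0 : ω ≠ 0 := by rw [hω]; exact div_ne_zero hyr0 hμr0
  have h1 : y ^ r = ω * μ ^ r := by rw [hω]; field_simp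
  have hωs : ω ^ s = 1 := by
    rw [hω, div_pow, hsp, hsp', div_self]
    rw [← hsp]; exact pow_ne_zero _ hyr0
  have hωx : ω ^ xv e q = ω := by
    refine fix_of_pow_AA (by omega) hω0 ?_
    obtain ⟨c, hc⟩ := hsh
    rw [hc, pow_mul, hωs, one_pow]
  have hyr : (y ^ r) ^ xv e q = y ^ r := by
    rw [h1, mul_zpow, hωx, hμr]
  by_cases h5 : ω = 1
  · rw [h5, one_mul] at h1
    refine contra_one hF (by omega) hMk hr hs (natCast_ne_zero hF hs hsq) hζ hg hyr0 hyr fun z hz => ?_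
    rw [hR, Multiset.mem_cons] at hz
    rcases hz with rfl | hz
    · exact h1.symm
    · obtain ⟨j, rfl⟩ := mem_orb hz
      rw [zpow_pow_comm, pow_iter (ω := 1) (by rw [one_mul]; exact hyr) (one_zpow _)]
      simp
  · have ho : orderOf ω = s := orderOf_eq_prime hωs h5
    have h6 := prod_orb (ω := 1) (x := xv e q) (y := y) (r := r) (by rw [one_mul]; exact hyr) (one_zpow _)
    simp only [one_pow, one_mul, Finset.prod_const, Finset.card_range, hper] at h6
    have h7 : μ * (orb (xv e q) y).prod = 1 := by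
      rw [← Multiset.prod_cons, ← hR, prod_evs, hdet, map_one]
    have h8 : μ ^ r * (y ^ r) ^ (n - 1) = 1 := by
      rw [← h6, ← mul_pow, h7, one_pow]
    have h9 : (y ^ r) ^ n = ω := by
      have h10 : (y ^ r) ^ n = y ^ r * (y ^ r) ^ (n - 1) := by
        rw [← pow_succ']; congr 1; omega
      calc (y ^ r) ^ n = ω * (μ ^ r * (y ^ r) ^ (n - 1)) := by rw [h10, ← mul_assoc, ← h1]
        _ = ω := by rw [h8, mul_one]
    obtain ⟨h', ho', v, hv⟩ := hc
    apply ho'
    rw [← ho]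
    apply orderOf_dvd_of_pow_eq_one
    rw [← h9, ← pow_mul, hv, pow_mul, pow_AA_of_fix (by omega) hyr0 hyr, one_pow]

end

end Cfsg.Agent.H77.LFLin
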